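import Groth.Agent.GrpSch.K521.RigArt
import Groth.Agent.GrpSch.K270.MB.Shape

/-!
# The rigidity theorem
-/

set_option autoImplicit false
set_option linter.unusedSectionVars false
universe u

open CategoryTheory CategoryTheory.Limits MonoidalCategory CartesianMonoidalCategory MonObj GrpObj AlgebraicGeometry

noncomputable section

namespace K521.RigMain

open K270.MB CoactBr K521.RigChar K521.RigMu K521.RigXQ K521.RigQuot K521.RigPerf K521.RigBun K521.RigFF K521.RigMu2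
  K521.RigEC K521.RigK1 K521.RigV K521.RigK2 K521.RigNil K521.RigCmp K521.RigLift0 K521.RigLift K521.RigLarge K521.RigArt

section ring

variable {R : Type u} [CommRing R] [IsLocalRing R]

theorem nontrivial_quot (s : ℕ) : Nontrivial (R ⧸ IsLocalRing.maximalIdeal R ^ (s + 1)) := by
  rw [Ideal.Quotient.nontrivial_iff]
  intro h
  have h1 : IsLocalRing.maximalIdeal R ^ (s + 1) ≤ IsLocalRing.maximalIdeal R := Ideal.pow_le_self (by omega)
  rw [h, top_le_iff] at h1
  exact Ideal.IsPrime.ne_top inferInstance h1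

theorem isLocalRing_quot (s : ℕ) : IsLocalRing (R ⧸ IsLocalRing.maximalIdeal R ^ (s + 1)) := by
  have := nontrivial_quot (R := R) s
  exact IsLocalRing.of_surjective' (Ideal.Quotient.mk _) Ideal.Quotient.mk_surjective

theorem max_pow (s : ℕ) [IsLocalRing (R ⧸ IsLocalRing.maximalIdeal R ^ (s + 1))] :
    IsLocalRing.maximalIdeal (R ⧸ IsLocalRing.maximalIdeal R ^ (s + 1)) ^ (s + 1) = ⊥ := by
  have h1 : IsLocalRing.maximalIdeal (R ⧸ IsLocalRing.maximalIdeal R ^ (s + 1)) ≤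
      (IsLocalRing.maximalIdeal R).map (Ideal.Quotient.mk (IsLocalRing.maximalIdeal R ^ (s + 1))) := by
    intro x hx
    obtain ⟨y, rfl⟩ := Ideal.Quotient.mk_surjective x
    refine Ideal.mem_map_of_mem _ ?_
    rw [IsLocalRing.mem_maximalIdeal] at hx ⊢
    exact fun hy => hx (hy.map _)
  rw [eq_bot_iff]
  refine (Ideal.pow_right_mono h1 (s + 1)).trans ?_
  rw [← Ideal.map_pow, Ideal.map_quotient_self]

theorem p_mem (s : ℕ) [IsLocalRing (R ⧸ IsLocalRing.maximalIdeal R ^ (s + 1))] {p : ℕ}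
    (hp : (p : R) ∈ IsLocalRing.maximalIdeal R) :
    (p : R ⧸ IsLocalRing.maximalIdeal R ^ (s + 1)) ∈
      IsLocalRing.maximalIdeal (R ⧸ IsLocalRing.maximalIdeal R ^ (s + 1)) := by
  have h1 : (p : R ⧸ IsLocalRing.maximalIdeal R ^ (s + 1)) ^ (s + 1) = 0 := by
    rw [← map_natCast (Ideal.Quotient.mk _), ← map_pow, Ideal.Quotient.eq_zero_iff_mem]
    exact Ideal.pow_mem_pow hp _
  rw [IsLocalRing.mem_maximalIdeal]
  intro h2
  exact IsNilpotent.not_isUnit ⟨s + 1, h1⟩ h2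

theorem cg_point (s : ℕ) (z : Spec (CommRingCat.of (R ⧸ IsLocalRing.maximalIdeal R ^ (s + 1)))) :
    cg (IsLocalRing.maximalIdeal R ^ (s + 1)) z = IsLocalRing.closedPoint R := by
  have h1 : IsLocalRing.maximalIdeal R ≤ (PrimeSpectrum.comap
      (Ideal.Quotient.mk (IsLocalRing.maximalIdeal R ^ (s + 1))) z).asIdeal := by
    have h2 : IsLocalRing.maximalIdeal R ^ (s + 1) ≤ (PrimeSpectrum.comap
        (Ideal.Quotient.mk (IsLocalRing.maximalIdeal R ^ (s + 1))) z).asIdeal := by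
      intro x hx
      change Ideal.Quotient.mk _ x ∈ z.asIdeal
      rw [Ideal.Quotient.eq_zero_iff_mem.2 hx]
      exact zero_mem _
    exact (PrimeSpectrum.isPrime _).le_of_pow_le h2
  apply PrimeSpectrum.ext
  exact (((IsLocalRing.maximalIdeal.isMaximal R).eq_of_le (PrimeSpectrum.isPrime _).ne_top h1).symm)

end ring

section main

variable {R : Type u} [CommRing R] [IsLocalRing R]
    {p : ℕ} {A : Over (Spec (CommRingCat.of R))} [GrpObj A] [IsCommMonObj A]
    {F M D : ℕ → Over (Spec (CommRingCat.of R))} [∀ m, GrpObj (F m)] [∀ m, GrpObj (M m)] [∀ m, GrpObj (D m)]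
    {f : ∀ m, F m ⟶ A} (hf : ∀ m, IsFinPart R A (p ^ m) (f m))
    {i : ∀ m, M m ⟶ F m} (hi : ∀ m, IsClSub (i m)) {r : ℕ} {χ : ∀ m, Fin r → U (M m)}
    (hmu : ∀ m, IsMu (p ^ m) r (M m) (χ m))
    {t : ∀ m, M m ⟶ M (m + 1)} (ht : ∀ m, t m ≫ i (m + 1) ≫ f (m + 1) = i m ≫ f m)
    (htχ : ∀ m j, ures (t m) (χ (m + 1) j) = χ m j)
    {h : ℕ} (hr : ∀ m s, (F m).hom.finrank s = p ^ (m * (h + r)))
    {e : ∀ m, Pairing (F m) (F m)}
    (hanti : ∀ (m : ℕ) {T : Over (Spec (CommRingCat.of R))} (x y : T ⟶ F m), (e m).e x y * (e m).e y x = 1)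
    (hcompat : ∀ (m : ℕ) {T : Over (Spec (CommRingCat.of R))} (x : T ⟶ F m) (x' y : T ⟶ F (m + 1)) (y' : T ⟶ F m),
      x' ≫ f (m + 1) = x ≫ f m → (y ≫ f (m + 1)) ^ p = y' ≫ f m → (e (m + 1)).e x' y = (e m).e x y')
    (hML : ∀ (m : ℕ) {T : Over (Spec (CommRingCat.of R))} (x : T ⟶ M m) (y : T ⟶ F m), (e m).e (x ≫ i m) y = 1)
    {d : ∀ m, D m ⟶ F m} (hd : ∀ m, IsClSub (d m))
    (hrad : ∀ (m : ℕ) {T : Over (Spec (CommRingCat.of R))} (x : T ⟶ F m),
      Fac (d m) x ↔ ∀ {T' : Over (Spec (CommRingCat.of R))} (g : T' ⟶ T) (y : T' ⟶ F m), (e m).e (g ≫ x) y = 1)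

/-- The data over `R / m ^ (s + 1)`. -/
def bun (s : ℕ) : Bun (Spec (CommRingCat.of (R ⧸ IsLocalRing.maximalIdeal R ^ (s + 1)))) p r h where
  A := Red.bc (cg _) A
  F m := Red.bc (cg _) (F m)
  M m := Red.bc (cg _) (M m)
  D m := Red.bc (cg _) (D m)
  gA := inferInstance
  cA := inferInstance
  gF := inferInstance
  gM := inferInstance
  gD := inferInstance
  f m := (Over.pullback (cg _)).map (f m)
  i m := (Over.pullback (cg _)).map (i m)
  t m := (Over.pullback (cg _)).map (t m)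
  d m := (Over.pullback (cg _)).map (d m)
  χ m j := uB (cg _) (χ m j)
  e m := pairBc (cg _) (e m)
  hf m := IsClSub.map (cg _) (hf m).toIsClSub
  hi m := IsClSub.map (cg _) (hi m)
  hd m := IsClSub.map (cg _) (hd m)
  fin m := by
    have := (hf m).finite
    exact inferInstanceAs (IsFinite (pullback.snd (F m).hom (cg _)))
  flat m := by
    have := (hf m).flat
    exact inferInstanceAs (Flat (pullback.snd (F m).hom (cg _)))
  tors m {T} x hx := by
    rw [fac_map]
    refine (hf m).cl _ ?_ fun z => cg_point s _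
    rw [← dn_pow, hx, dn_one]
  pow m := by
    rw [← map_pow_hom, (hf m).pow]
    exact map_one (Functor.homMonoidHom (Over.pullback (cg _)) (X := F m) (M := A))
  mu m := isMu_bc (cg _) (hmu m)
  ht m := by
    rw [← Functor.map_comp, ← Functor.map_comp, ← Functor.map_comp, ht]
  htχ m j := by
    rw [← uB_ures, htχ]
  rank m s := by
    have := (hf m).finite
    have := (hf m).flat
    rw [finrank_bc, hr]
  anti m {T} x y := hanti m (T := (Over.map (cg _)).obj T) (dn (cg _) x) (dn (cg _) y)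
  compat m {T} x x' y y' h1 h2 := by
    refine hcompat m (T := (Over.map (cg _)).obj T) (dn (cg _) x) (dn (cg _) x') (dn (cg _) y) (dn (cg _) y') ?_ ?_
    · rw [← dn_map, ← dn_map, h1]
    · rw [← dn_map, ← dn_map, ← h2, dn_pow]
  mu_left m {T} x y := by
    rw [pairBc_e, dn_map]
    exact hML m (T := (Over.map (cg _)).obj T) _ _
  rad m {T} x := by
    rw [fac_map, hrad]
    constructor
    · intro h T' k y
      rw [pairBc_e, dn_comp]
      exact h _ _
    · intro h T' k y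
      obtain ⟨T₁, h₁, α, hα⟩ := exists_map (cg _) k
      have h2 := h h₁ (upp (cg _) (α.hom ≫ y))
      rw [pairBc_e, dn_comp, dn_upp, ← hα, Category.assoc, (e m).nat] at h2
      have h3 := congrArg (ures α.inv) h2
      rw [← ures_comp, α.inv_hom_id, ures_id] at h3
      rw [h3]
      exact map_one _

include hf hi hmu ht htχ hr hanti hcompat hML hd hrad in
/-- The hypothesis on the closed fibre. -/
theorem hC_bun {c : ℕ}
    (hc : ∀ (m : ℕ) {T : Over (Spec (CommRingCat.of R))} (x : T ⟶ F m),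
      (∃ q, T.hom = q ≫ Spec.map (CommRingCat.ofHom (IsLocalRing.residue R))) →
        (∀ {T' : Over (Spec (CommRingCat.of R))} (g : T' ⟶ T) (y : T' ⟶ F m), (e m).e (g ≫ x) y = 1) →
          Fac (i m) (x ^ (p ^ c))) (s : ℕ) [IsLocalRing (R ⧸ IsLocalRing.maximalIdeal R ^ (s + 1))] :
    HC ((bun hf hi hmu ht htχ hr hanti hcompat hML hd hrad s).bc (cg (IsLocalRing.maximalIdeal _))) c := by
  intro m T x hx
  let g := cg (IsLocalRing.maximalIdeal R ^ (s + 1))
  let g' := cg (IsLocalRing.maximalIdeal (R ⧸ IsLocalRing.maximalIdeal R ^ (s + 1)))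
  have hfac : ∃ q, ((Over.map g).obj ((Over.map g').obj T)).hom =
      q ≫ Spec.map (CommRingCat.ofHom (IsLocalRing.residue R)) := by
    let φ : R →+* ((R ⧸ IsLocalRing.maximalIdeal R ^ (s + 1)) ⧸
        IsLocalRing.maximalIdeal (R ⧸ IsLocalRing.maximalIdeal R ^ (s + 1))) :=
      (Ideal.Quotient.mk _).comp (Ideal.Quotient.mk _)
    have hφ : ∀ a ∈ IsLocalRing.maximalIdeal R, φ a = 0 := by
      intro a ha
      change Ideal.Quotient.mk _ (Ideal.Quotient.mk _ a) = 0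
      rw [Ideal.Quotient.eq_zero_iff_mem, IsLocalRing.mem_maximalIdeal]
      intro h2
      have h1 : (Ideal.Quotient.mk (IsLocalRing.maximalIdeal R ^ (s + 1)) a) ^ (s + 1) = 0 := by
        rw [← map_pow, Ideal.Quotient.eq_zero_iff_mem]
        exact Ideal.pow_mem_pow ha _
      exact IsNilpotent.not_isUnit ⟨s + 1, h1⟩ h2
    let ψ : IsLocalRing.ResidueField R →+* ((R ⧸ IsLocalRing.maximalIdeal R ^ (s + 1)) ⧸
        IsLocalRing.maximalIdeal (R ⧸ IsLocalRing.maximalIdeal R ^ (s + 1))) :=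
      Ideal.Quotient.lift (IsLocalRing.maximalIdeal R) φ hφ
    refine ⟨T.hom ≫ Spec.map (CommRingCat.ofHom ψ), ?_⟩
    rw [Category.assoc, ← Spec.map_comp, ← CommRingCat.ofHom_comp]
    change (T.hom ≫ Spec.map _) ≫ Spec.map _ = _
    rw [Category.assoc, ← Spec.map_comp, ← CommRingCat.ofHom_comp]
    rfl
  have key : ∀ y : T ⟶ (Over.pullback g').obj ((Over.pullback g).obj (D m)),
      ∃ z' : T ⟶ (Over.pullback g').obj ((Over.pullback g).obj (M m)),
      z' ≫ (Over.pullback g').map ((Over.pullback g).map (i m)) ≫ (Over.pullback g').map ((Over.pullback g).map (f m)) =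
        (y ≫ (Over.pullback g').map ((Over.pullback g).map (d m)) ≫
          (Over.pullback g').map ((Over.pullback g).map (f m))) ^ p ^ c := by
    intro y
    obtain ⟨z, hz⟩ := hc m (T := (Over.map g).obj ((Over.map g').obj T)) (dn g (dn g' y) ≫ d m) hfac
      ((hrad m _).1 ⟨_, rfl⟩)
    refine ⟨upp g' (upp g z), ?_⟩
    have := (hf m).mon
    apply dn_inj g'
    apply dn_inj g
    rw [← Category.assoc, dn_map, dn_map, dn_map, dn_map, dn_upp, dn_upp, hz, dn_pow, dn_pow, ← Category.assoc, dn_map,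
      dn_map, dn_map, dn_map, MonObj.pow_comp]
  obtain ⟨y, hy⟩ := hx
  obtain ⟨z', hz'⟩ := key y
  exact ⟨z', hz'.trans (congrArg (fun w => w ^ p ^ c) hy)⟩

end main

/-- RIGIDITY, with the hypothesis on the closed fibre only over the residue field. -/
theorem weak (R : Type u) [CommRing R] [IsLocalRing R] [IsNoetherianRing R]
    (p : ℕ) (hp : p.Prime) (hpm : (p : R) ∈ IsLocalRing.maximalIdeal R)
    (A : Over (Spec (CommRingCat.of R))) [GrpObj A] [IsCommMonObj A] (hA : Smooth A.hom)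
    (F M D : ℕ → Over (Spec (CommRingCat.of R))) [∀ m, GrpObj (F m)] [∀ m, GrpObj (M m)] [∀ m, GrpObj (D m)]
    (f : ∀ m, F m ⟶ A) (hf : ∀ m, IsFinPart R A (p ^ m) (f m))
    (i : ∀ m, M m ⟶ F m) (hi : ∀ m, IsClSub (i m)) (r : ℕ) (χ : ∀ m, Fin r → U (M m))
    (hmu : ∀ m, IsMu (p ^ m) r (M m) (χ m))
    (t : ∀ m, M m ⟶ M (m + 1)) (ht : ∀ m, t m ≫ i (m + 1) ≫ f (m + 1) = i m ≫ f m)
    (htχ : ∀ m j, ures (t m) (χ (m + 1) j) = χ m j)
    (h : ℕ) (hr : ∀ m s, (F m).hom.finrank s = p ^ (m * (h + r)))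
    (e : ∀ m, Pairing (F m) (F m))
    (hanti : ∀ (m : ℕ) {T : Over (Spec (CommRingCat.of R))} (x y : T ⟶ F m), (e m).e x y * (e m).e y x = 1)
    (hcompat : ∀ (m : ℕ) {T : Over (Spec (CommRingCat.of R))} (x : T ⟶ F m) (x' y : T ⟶ F (m + 1)) (y' : T ⟶ F m),
      x' ≫ f (m + 1) = x ≫ f m → (y ≫ f (m + 1)) ^ p = y' ≫ f m → (e (m + 1)).e x' y = (e m).e x y')
    (hML : ∀ (m : ℕ) {T : Over (Spec (CommRingCat.of R))} (x : T ⟶ M m) (y : T ⟶ F m), (e m).e (x ≫ i m) y = 1)
    (d : ∀ m, D m ⟶ F m) (hd : ∀ m, IsClSub (d m))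
    (hrad : ∀ (m : ℕ) {T : Over (Spec (CommRingCat.of R))} (x : T ⟶ F m),
      Fac (d m) x ↔ ∀ {T' : Over (Spec (CommRingCat.of R))} (g : T' ⟶ T) (y : T' ⟶ F m), (e m).e (g ≫ x) y = 1)
    (c : ℕ) (hc : ∀ (m : ℕ) {T : Over (Spec (CommRingCat.of R))} (x : T ⟶ F m),
      (∃ q, T.hom = q ≫ Spec.map (CommRingCat.ofHom (IsLocalRing.residue R))) →
        (∀ {T' : Over (Spec (CommRingCat.of R))} (g : T' ⟶ T) (y : T' ⟶ F m), (e m).e (g ≫ x) y = 1) →
          Fac (i m) (x ^ (p ^ c))) :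
    ∃ m₀, ∀ m, m₀ ≤ m → Flat (D m).hom := by
  refine ⟨c + c * (h + r), fun m hm => ?_⟩
  have h1 : IsFinite (D m).hom := by
    have h2 : (d m).left ≫ (F m).hom = (D m).hom := Over.w (d m)
    have h3 := (hf m).finite
    have h4 := (hd m).closed
    rw [← h2]
    infer_instance
  refine flat_of_forall (D m) fun n hn => ?_
  obtain ⟨s, rfl⟩ : ∃ s, n = s + 1 := ⟨n - 1, by omega⟩
  have hloc := isLocalRing_quot (R := R) s
  have hA' : Smooth (bun hf hi hmu ht htχ hr hanti hcompat hML hd hrad s).A.hom :=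
    inferInstanceAs (Smooth (pullback.snd A.hom (cg (IsLocalRing.maximalIdeal R ^ (s + 1)))))
  exact flat_D (max_pow s) hp (p_mem s hpm) (bun hf hi hmu ht htχ hr hanti hcompat hML hd hrad s) hA'
    (hC_bun hf hi hmu ht htχ hr hanti hcompat hML hd hrad hc s) (by omega) (by omega)

/-- RIGIDITY. -/
theorem main : K270.MB.NodeRigidity.{u} := by
  intro R _ _ _ _ p hp hpm A _ _ hA _ _ F M D _ _ _ f hf i hi r χ hmu t ht htχ h hr e hanti hcompat hML _ d hd hrad c hc
  refine weak R p hp hpm A hA F M D f hf i hi r χ hmu t ht htχ h hr e hanti hcompat hML d hd hrad c ?_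
  intro m T x hq hx
  obtain ⟨x', rfl⟩ := (hrad m x).2 hx
  obtain ⟨q, hq⟩ := hq
  refine hc m x' fun z => ?_
  rw [hq, Scheme.Hom.comp_apply]
  exact IsLocalRing.PrimeSpectrum.comap_residue R _

end K521.RigMain
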