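import Groth.Agent.GrpSch.K521.RigBun

/-!
# Elementary facts on the data: inclusions, powers, compatibility of the pairings, faithful flatness of `p ^ j`
-/

set_option autoImplicit false
set_option linter.unusedSectionVars false
universe u

open CategoryTheory CategoryTheory.Limits MonoidalCategory CartesianMonoidalCategory MonObj GrpObj AlgebraicGeometry

noncomputable section

namespace K521.RigFF

open K270.MB K521.RigChar K521.RigMu K521.RigXQ K521.RigQuot K521.RigPerf K521.RigBun CoactBr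

section general

variable {S : Scheme.{u}}

theorem isMonHom_of_points {X Y : Over S} [GrpObj X] [GrpObj Y] (u : X ⟶ Y)
    (h : ∀ {T : Over S} (x y : T ⟶ X), (x * y) ≫ u = (x ≫ u) * (y ≫ u)) : IsMonHom u := by
  refine ⟨?_, ?_⟩
  · have h1 := h (1 : 𝟙_ (Over S) ⟶ X) 1
    rw [_root_.mul_one] at h1
    have h2 : (1 : 𝟙_ (Over S) ⟶ X) ≫ u = 1 := mul_eq_left.1 h1.symm
    rw [MonObj.one_eq_one, MonObj.one_eq_one, h2]
  · rw [MonObj.mul_eq_mul, h, Hom.mul_def]
    have h2 : lift (fst X X ≫ u) (snd X X ≫ u) = u ⊗ₘ u := by ext1 <;> simp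
    rw [h2]

theorem isMonHom_of_comp_mono {X Y Z : Over S} [GrpObj X] [GrpObj Y] [GrpObj Z] (u : X ⟶ Y) (f : Y ⟶ Z) [Mono f]
    [IsMonHom f] (w : X ⟶ Z) [IsMonHom w] (h : u ≫ f = w) : IsMonHom u := by
  apply isMonHom_of_points
  intro T x y
  rw [← cancel_mono f, MonObj.mul_comp _ _ f, Category.assoc, Category.assoc, Category.assoc, h, MonObj.mul_comp]

theorem isMonHom_pow {X Y : Over S} [GrpObj X] [GrpObj Y] [IsCommMonObj Y] (u : X ⟶ Y) [IsMonHom u] (n : ℕ) :
    IsMonHom (u ^ n) := by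
  apply isMonHom_of_points
  intro T x y
  rw [MonObj.comp_pow, MonObj.comp_pow, MonObj.comp_pow, MonObj.mul_comp, mul_pow]

theorem mono_of_closed {X Y : Over S} {u : X ⟶ Y} (h : IsClosedImmersion u.left) : Mono u := by
  have : Mono u.left := inferInstance
  exact Over.mono_of_mono_left u

theorem isCommMonObj_of_mono' {X Y : Over S} [GrpObj X] [GrpObj Y] [IsCommMonObj Y] (u : X ⟶ Y) [Mono u] [IsMonHom u] :
    IsCommMonObj X := by
  constructor
  rw [← cancel_mono u, Category.assoc, IsMonHom.mul_hom u, ← BraidedCategory.braiding_naturality_assoc,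
    IsCommMonObj.mul_comm]

end general

section descent

variable {S : Scheme.{u}} {K G Q H : Over S} [GrpObj K] [GrpObj G] [GrpObj Q] [GrpObj H] {i : K ⟶ G} {q : G ⟶ Q}
  [IsMonHom q]

/-- Homomorphisms out of a quotient. -/
theorem exists_desc_hom (hq : IsFF q) (hk : ∀ {T : Over S} (x : T ⟶ G), Fac i x ↔ x ≫ q = 1) (φ : G ⟶ H) [IsMonHom φ]
    (hφ : ∀ {T : Over S} (x : T ⟶ G), Fac i x → x ≫ φ = 1) : ∃ l : Q ⟶ H, q ≫ l = φ ∧ IsMonHom l := by
  have := hq.flat
  have := hq.surj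
  have := hq.qc
  obtain ⟨l, hl⟩ := Groth.Agent.Agf.H584.QBasic.exists_desc q φ (fun {T} x y hxy => by
    have h1 := hφ _ ((comp_eq_iff hk x y).1 hxy)
    rw [MonObj.mul_comp, RigQuot.inv_comp, inv_mul_eq_one] at h1
    exact h1)
  refine ⟨l, hl, isMonHom_of_points l fun {T} x y => ?_⟩
  obtain ⟨T₁, g₁, a, hg₁, ha⟩ := hq.exists_lift x
  obtain ⟨T₂, g₂, b, hg₂, hb⟩ := hq.exists_lift (g₁ ≫ y)
  have hff : IsFF (g₂ ≫ g₁) := hg₁.comp hg₂
  have := hff.epi
  have e1 : (g₂ ≫ g₁) ≫ x = (g₂ ≫ a) ≫ q := by simp [ha]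
  have e2 : (g₂ ≫ g₁) ≫ y = b ≫ q := by simp [hb]
  have key : ∀ z : T₂ ⟶ G, (z ≫ q) ≫ l = z ≫ φ := fun z => by rw [Category.assoc, hl]
  have f1 : (g₂ ≫ g₁) ≫ (x * y) ≫ l = ((g₂ ≫ a) * b) ≫ φ := by
    rw [← Category.assoc, MonObj.comp_mul, e1, e2, ← MonObj.mul_comp, key]
  have f2 : (g₂ ≫ g₁) ≫ (x ≫ l * y ≫ l) = ((g₂ ≫ a) ≫ φ) * (b ≫ φ) := by
    rw [MonObj.comp_mul, ← Category.assoc, ← Category.assoc, e1, e2, key, key]
  rw [← cancel_epi (g₂ ≫ g₁), f1, f2, MonObj.mul_comp]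

theorem mono_desc (hq : IsFF q) (hk : ∀ {T : Over S} (x : T ⟶ G), Fac i x ↔ x ≫ q = 1) (φ : G ⟶ H) [IsMonHom φ]
    (hφ : ∀ {T : Over S} (x : T ⟶ G), x ≫ φ = 1 → Fac i x) (l : Q ⟶ H) (hl : q ≫ l = φ) : Mono l := by
  constructor
  intro T x y hxy
  obtain ⟨T₁, g₁, a, hg₁, ha⟩ := hq.exists_lift x
  obtain ⟨T₂, g₂, b, hg₂, hb⟩ := hq.exists_lift (g₁ ≫ y)
  have hff : IsFF (g₂ ≫ g₁) := hg₁.comp hg₂
  have := hff.epi
  have e1 : (g₂ ≫ g₁) ≫ x = (g₂ ≫ a) ≫ q := by simp [ha]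
  have e2 : (g₂ ≫ g₁) ≫ y = b ≫ q := by simp [hb]
  rw [← cancel_epi (g₂ ≫ g₁), e1, e2, comp_eq_iff hk]
  apply hφ
  have key : ∀ z : T₂ ⟶ G, (z ≫ q) ≫ l = z ≫ φ := fun z => by rw [Category.assoc, hl]
  have h1 : (g₂ ≫ a) ≫ φ = b ≫ φ := by
    rw [← key, ← key, ← e1, ← e2, Category.assoc _ x, Category.assoc _ y, hxy]
  rw [MonObj.mul_comp, RigQuot.inv_comp, inv_mul_eq_one, h1]

end descent

section bun

variable {S : Scheme.{u}} {p r h : ℕ} (B : Bun S p r h)

instance mon_f (m : ℕ) : IsMonHom (B.f m) := (B.hf m).mon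
instance mon_i (m : ℕ) : IsMonHom (B.i m) := (B.hi m).mon
instance mon_d (m : ℕ) : IsMonHom (B.d m) := (B.hd m).mon
instance cl_f (m : ℕ) : IsClosedImmersion (B.f m).left := (B.hf m).closed
instance cl_i (m : ℕ) : IsClosedImmersion (B.i m).left := (B.hi m).closed
instance cl_d (m : ℕ) : IsClosedImmersion (B.d m).left := (B.hd m).closed
instance mono_f (m : ℕ) : Mono (B.f m) := mono_of_closed inferInstance
instance mono_i (m : ℕ) : Mono (B.i m) := mono_of_closed inferInstance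
instance mono_d (m : ℕ) : Mono (B.d m) := mono_of_closed inferInstance
instance commF (m : ℕ) : IsCommMonObj (B.F m) := isCommMonObj_of_mono' (B.f m)
instance commM (m : ℕ) : IsCommMonObj (B.M m) := isCommMonObj_of_mono' (B.i m)
instance commD (m : ℕ) : IsCommMonObj (B.D m) := isCommMonObj_of_mono' (B.d m)

instance finD (m : ℕ) : IsFinite (B.D m).hom := by
  have h1 : (B.d m).left ≫ (B.F m).hom = (B.D m).hom := Over.w (B.d m)
  rw [← h1]
  infer_instance

instance finM (m : ℕ) : IsFinite (B.M m).hom := by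
  have h1 : (B.i m).left ≫ (B.F m).hom = (B.M m).hom := Over.w (B.i m)
  rw [← h1]
  infer_instance

theorem pow_f (m : ℕ) {T : Over S} (x : T ⟶ B.F m) : (x ≫ B.f m) ^ p ^ m = 1 := by
  rw [← MonObj.comp_pow, B.pow, MonObj.comp_one]

theorem fac_f (m : ℕ) {T : Over S} (x : T ⟶ B.A) : Fac (B.f m) x ↔ x ^ p ^ m = 1 := by
  constructor
  · rintro ⟨y, rfl⟩
    exact pow_f B m y
  · exact B.tors m x

theorem pow_F (m : ℕ) {T : Over S} (x : T ⟶ B.F m) : x ^ p ^ m = 1 := by
  rw [← cancel_mono (B.f m), MonObj.pow_comp, pow_f, MonObj.one_comp]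

theorem exists_F {m n : ℕ} (hmn : m ≤ n) {T : Over S} (x : T ⟶ B.F m) : ∃ y : T ⟶ B.F n, y ≫ B.f n = x ≫ B.f m := by
  apply B.tors
  obtain ⟨j, rfl⟩ := Nat.exists_eq_add_of_le hmn
  rw [pow_add, pow_mul, pow_f, one_pow]

theorem compat' (n j : ℕ) {T : Over S} (x : T ⟶ B.F n) (x' y : T ⟶ B.F (n + j)) (y' : T ⟶ B.F n)
    (hx : x' ≫ B.f (n + j) = x ≫ B.f n) (hy : (y ≫ B.f (n + j)) ^ p ^ j = y' ≫ B.f n) :
    (B.e (n + j)).e x' y = (B.e n).e x y' := by
  induction j with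
  | zero =>
    rw [pow_zero, pow_one] at hy
    have h1 : x' = x := (cancel_mono (B.f n)).1 hx
    have h2 : y = y' := (cancel_mono (B.f n)).1 hy
    rw [h1, h2]
    rfl
  | succ j ih =>
    obtain ⟨x₁, hx₁⟩ := exists_F B (Nat.le_add_right n j) x
    obtain ⟨y₁, hy₁⟩ := B.tors (n + j) ((y ≫ B.f (n + (j + 1))) ^ p) (by
      rw [← pow_mul, ← pow_succ']
      exact pow_f B (n + j + 1) y)
    refine (B.compat (n + j) x₁ x' y y₁ (hx.trans hx₁.symm) hy₁.symm).trans ?_
    refine ih x₁ y₁ hx₁ ?_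
    rw [hy₁, ← hy, ← pow_mul, ← pow_succ']

end bun

section loc

theorem surj_of_closed {A B : CommRingCat.{u}} (φ : A ⟶ B) (h : IsClosedImmersion (Spec.map φ)) :
    Function.Surjective φ.hom := by
  have h1 : Function.Surjective (Spec.map φ).appTop.hom :=
    (IsClosedImmersion.isAffine_surjective_of_isAffine (Spec.map φ)).2
  have h2 := Scheme.ΓSpecIso_naturality φ
  have h3 : Function.Bijective (Scheme.ΓSpecIso A).hom.hom := ConcreteCategory.bijective_of_isIso _
  have h4 : Function.Bijective (Scheme.ΓSpecIso B).hom.hom := ConcreteCategory.bijective_of_isIso _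
  intro b
  obtain ⟨x, hx⟩ := h4.2 b
  obtain ⟨y, hy⟩ := h1 x
  refine ⟨(Scheme.ΓSpecIso A).hom.hom y, ?_⟩
  have h5 := congrArg (fun z => z.hom y) h2
  have h6 : (Scheme.ΓSpecIso B).hom.hom ((Spec.map φ).appTop.hom y) = φ.hom ((Scheme.ΓSpecIso A).hom.hom y) := h5
  rw [← h6, hy, hx]

theorem isIso_left {S : Scheme.{u}} {X Y : Over S} (e : X ≅ Y) : IsIso e.hom.left :=
  inferInstanceAs (IsIso ((Over.forget S).map e.hom))

variable {R : Type u} [CommRing R]

theorem isIso_pt {H K : Type u} [CommRing H] [Algebra R H] [CommRing K] [Algebra R K] (ψ : K →ₐ[R] H)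
    (h : Function.Bijective ψ) : IsIso (pt ψ) := by
  let e := AlgEquiv.ofBijective ψ h
  refine ⟨pt (e.symm : H →ₐ[R] K), ?_, ?_⟩
  · rw [← pt_comp, ← pt_id]
    congr 1
    ext x
    exact e.apply_symm_apply x
  · rw [← pt_comp, ← pt_id]
    congr 1
    ext x
    exact e.symm_apply_apply x

theorem finrank_sp [IsLocalRing R] {H : Type u} [CommRing H] [Algebra R H] {X : Over (Spec (CommRingCat.of R))}
    (i : sp R H ≅ X) [IsFinite X.hom] [Flat X.hom] (s : Spec (CommRingCat.of R)) :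
    X.hom.finrank s = Module.finrank R H := by
  obtain ⟨h1, h2⟩ := finite_flat i
  have h3 : Module.Free R H := Module.free_of_flat_of_isLocalRing
  have h4 := isIso_left i
  have hw : i.hom.left ≫ X.hom = Spec.map (CommRingCat.ofHom (algebraMap R H)) := Over.w i.hom
  have h5 := Scheme.Hom.finrank_comp_left_of_isIso i.hom.left X.hom
  have h6 := Scheme.Hom.finrank_SpecMap_algebraMap R H s
  rw [Module.rankAtStalk_eq_finrank_of_free] at h6
  rw [← h5, hw]
  exact h6

theorem isIso_of_rank [IsLocalRing R] {X Y : Over (Spec (CommRingCat.of R))} [IsFinite X.hom] [Flat X.hom]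
    [IsFinite Y.hom] [Flat Y.hom] (u : X ⟶ Y) (hu : IsClosedImmersion u.left)
    (h : ∀ s, X.hom.finrank s = Y.hom.finrank s) : IsIso u := by
  have : IsAffine X.left := isAffine_of_isAffineHom X.hom
  have : IsAffine Y.left := isAffine_of_isAffineHom Y.hom
  obtain ⟨H, _, _, ⟨i⟩⟩ := exists_sp X
  obtain ⟨K, _, _, ⟨j⟩⟩ := exists_sp Y
  obtain ⟨ψ, hψ⟩ := exists_pt (i.hom ≫ u ≫ j.inv)
  obtain ⟨h1, h2⟩ := finite_flat i
  obtain ⟨h1', h2'⟩ := finite_flat j
  have h3 : Module.Free R H := Module.free_of_flat_of_isLocalRing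
  have h3' : Module.Free R K := Module.free_of_flat_of_isLocalRing
  have i1 := isIso_left i
  have i2 : IsIso j.inv.left := isIso_left j.symm
  have h4 : IsClosedImmersion (Spec.map (CommRingCat.ofHom ψ.toRingHom)) := by
    rw [← pt_left, hψ]
    rw [Over.comp_left, Over.comp_left]
    have i3 : IsClosedImmersion (u.left ≫ j.inv.left) := inferInstance
    exact inferInstanceAs (IsClosedImmersion (i.hom.left ≫ (u.left ≫ j.inv.left)))
  have h5 : Function.Surjective ψ := surj_of_closed _ h4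
  have h6 : Module.finrank R K = Module.finrank R H := by
    rw [← finrank_sp i (IsLocalRing.closedPoint R), ← finrank_sp j (IsLocalRing.closedPoint R), h]
  have h7 : Function.Bijective ψ.toLinearMap :=
    OrzechProperty.bijective_of_surjective_of_finrank_le ψ.toLinearMap h5 h6.le
  have h8 : IsIso (pt ψ) := isIso_pt ψ h7
  have h9 : u = i.inv ≫ pt ψ ≫ j.hom := by rw [hψ]; simp
  rw [h9]
  infer_instance

/-- A homomorphism of finite flat commutative groups whose kernel has the expected rank is faithfully flat. -/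
theorem ff_of_rank [IsLocalRing R] [IsNoetherianRing R] {K G H : Over (Spec (CommRingCat.of R))} [GrpObj K] [GrpObj G]
    [GrpObj H] [IsCommMonObj G] [IsFinite G.hom] [Flat G.hom] [IsFinite H.hom] [Flat H.hom] [Flat K.hom]
    (i : K ⟶ G) (hi : IsClSub i) (φ : G ⟶ H) [IsMonHom φ]
    (hk : ∀ {T : Over (Spec (CommRingCat.of R))} (x : T ⟶ G), Fac i x ↔ x ≫ φ = 1) {a b : ℕ} (ha : 0 < a)
    (hK : ∀ s, K.hom.finrank s = a) (hH : ∀ s, H.hom.finrank s = b) (hG : ∀ s, G.hom.finrank s = a * b) : IsFF φ := by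
  have i1 := hi.mon
  have i2 := hi.closed
  have i3 : IsFinite K.hom := by
    have h1 : i.left ≫ G.hom = K.hom := Over.w i
    rw [← h1]
    infer_instance
  have i4 : LocallyOfFinitePresentation G.hom := LocallyOfFinitePresentation.iff_locallyOfFiniteType.2 inferInstance
  have i5 : LocallyOfFinitePresentation K.hom := LocallyOfFinitePresentation.iff_locallyOfFiniteType.2 inferInstance
  obtain ⟨Q, _, _, q, hq, hq1, hq2, hq3, hq4, hkq, hQ1, hQ2, hQ3, hrk⟩ := exists_quot i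
  have hqf : IsFF q := ⟨hq1, hq2, inferInstance⟩
  obtain ⟨l, hl, hlm⟩ := exists_desc_hom hqf hkq φ (fun x hx => (hk x).1 hx)
  have hmono := mono_desc hqf hkq φ (fun x hx => (hk x).2 hx) l hl
  have hlf : IsFinite l.left := by
    have h1 : l.left ≫ H.hom = Q.hom := Over.w l
    have h2 : IsFinite (l.left ≫ H.hom) := by rw [h1]; infer_instance
    exact IsFinite.of_comp l.left H.hom
  have hlc : IsClosedImmersion l.left := by
    rw [IsClosedImmersion.iff_isFinite_and_mono]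
    exact ⟨hlf, inferInstanceAs (Mono ((Over.forget _).map l))⟩
  have hiso : IsIso l := isIso_of_rank l hlc (fun s => by
    have h1 := (hrk a hK).2 s
    rw [hG] at h1
    rw [hH]
    exact (Nat.eq_of_mul_eq_mul_left ha h1).symm)
  rw [← hl]
  exact (IsFF.of_iso (asIso l)).comp hqf

end loc

section bunloc

variable {R : Type u} [CommRing R] [IsLocalRing R] [IsNoetherianRing R] {p r h : ℕ}
  (B : Bun (Spec (CommRingCat.of R)) p r h)

/-- The inclusions. -/
theorem exists_inc {S : Scheme.{u}} (B : Bun S p r h) {m n : ℕ} (hmn : m ≤ n) :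
    ∃ u : B.F m ⟶ B.F n, u ≫ B.f n = B.f m ∧ IsClSub u := by
  obtain ⟨u, hu⟩ := exists_F B hmn (𝟙 (B.F m))
  rw [Category.id_comp] at hu
  refine ⟨u, hu, isMonHom_of_comp_mono u (B.f n) (B.f m) hu, ?_⟩
  have h1 : IsClosedImmersion (u.left ≫ (B.f n).left) := by
    rw [← Over.comp_left, hu]
    infer_instance
  exact IsClosedImmersion.of_comp u.left (B.f n).left

include B in
/-- `p ^ j : F (n + j) ⟶ F n` is faithfully flat. -/
theorem exists_q (hp : 0 < p) (n j : ℕ) : ∃ q : B.F (n + j) ⟶ B.F n, IsMonHom q ∧ q ≫ B.f n = B.f (n + j) ^ p ^ j ∧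
    IsFF q := by
  obtain ⟨q, hq⟩ := B.tors n (B.f (n + j) ^ p ^ j) (by
    rw [← pow_mul, ← pow_add, add_comm j n, B.pow])
  have i1 : IsMonHom (B.f (n + j) ^ p ^ j) := isMonHom_pow _ _
  have i2 : IsMonHom q := isMonHom_of_comp_mono q (B.f n) _ hq
  refine ⟨q, i2, hq, ?_⟩
  obtain ⟨u, hu, hus⟩ := exists_inc B (Nat.le_add_left j n)
  refine ff_of_rank u hus q (fun {T} x => ?_) (a := p ^ (j * (h + r))) (b := p ^ (n * (h + r)))
    (Nat.pos_of_ne_zero (by positivity)) (B.rank j) (B.rank n) (fun s => ?_)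
  · have h1 : x ≫ q = 1 ↔ (x ≫ B.f (n + j)) ^ p ^ j = 1 := by
      rw [← cancel_mono (B.f n), Category.assoc, hq, MonObj.one_comp, MonObj.comp_pow]
    rw [h1, ← fac_f]
    constructor
    · rintro ⟨y, rfl⟩
      exact ⟨y, by rw [Category.assoc, hu]⟩
    · rintro ⟨y, hy⟩
      refine ⟨y, ?_⟩
      rw [← cancel_mono (B.f (n + j)), Category.assoc, hu, hy]
  · rw [B.rank, ← pow_add]
    congr 1
    ring

end bunloc

end K521.RigFF
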