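import Groth.Agent.GrpSch.K521.RigLarge
import Groth.Agent.GrpSch.K267.DeligneSch

/-!
# Flatness of `D m` over an Artinian base for `m ≥ m₀`
-/

set_option autoImplicit false
set_option linter.unusedSectionVars false
universe u

open CategoryTheory CategoryTheory.Limits MonoidalCategory CartesianMonoidalCategory MonObj GrpObj AlgebraicGeometry

noncomputable section

namespace K521.RigArt

open K270.MB CoactBr K521.RigChar K521.RigMu K521.RigXQ K521.RigQuot K521.RigPerf K521.RigBun K521.RigFF K521.RigMu2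
  K521.RigEC K521.RigK1 K521.RigV K521.RigK2 K521.RigNil K521.RigCmp K521.RigLift0 K521.RigLift K521.RigLarge

section field

variable {k : Type u} [Field k] {X Y : Over (Spec (CommRingCat.of k))}

theorem finrank_le_of_ff [IsFinite X.hom] [IsFinite Y.hom] (w : X ⟶ Y) (hw : IsFF w) (s : Spec (CommRingCat.of k)) :
    Y.hom.finrank s ≤ X.hom.finrank s := by
  have iX : IsAffine X.left := isAffine_of_isAffineHom X.hom
  have iY : IsAffine Y.left := isAffine_of_isAffineHom Y.hom
  obtain ⟨H, _, _, ⟨i⟩⟩ := exists_sp X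
  obtain ⟨K, _, _, ⟨j⟩⟩ := exists_sp Y
  obtain ⟨ψ, hψ⟩ := exists_pt (i.hom ≫ w ≫ j.inv)
  obtain ⟨h1, h2⟩ := finite_flat i
  rw [finrank_sp i, finrank_sp j]
  have h3 : IsFF (pt ψ) := by
    rw [hψ]
    exact ((IsFF.of_iso j.symm).comp hw).comp (IsFF.of_iso i)
  have h4 : (ψ : K →+* H).FaithfullyFlat :=
    (flat_and_surjective_SpecMap_iff (CommRingCat.ofHom (ψ : K →+* H))).1 ⟨h3.flat, h3.surj⟩
  have h5 : Function.Injective ψ := h4.injective
  exact LinearMap.finrank_le_finrank_of_injective (f := ψ.toLinearMap) h5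

theorem finrank_le_of_closed [IsFinite X.hom] [IsFinite Y.hom] (w : X ⟶ Y) (hw : IsClosedImmersion w.left)
    (s : Spec (CommRingCat.of k)) : X.hom.finrank s ≤ Y.hom.finrank s := by
  have iX : IsAffine X.left := isAffine_of_isAffineHom X.hom
  have iY : IsAffine Y.left := isAffine_of_isAffineHom Y.hom
  obtain ⟨H, _, _, ⟨i⟩⟩ := exists_sp X
  obtain ⟨K, _, _, ⟨j⟩⟩ := exists_sp Y
  obtain ⟨ψ, hψ⟩ := exists_pt (i.hom ≫ w ≫ j.inv)
  obtain ⟨h1, h2⟩ := finite_flat j
  rw [finrank_sp i, finrank_sp j]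
  have i1 := isIso_left i
  have i2 : IsIso j.inv.left := isIso_left j.symm
  have h4 : IsClosedImmersion (Spec.map (CommRingCat.ofHom ψ.toRingHom)) := by
    rw [← pt_left, hψ]
    rw [Over.comp_left, Over.comp_left]
    have i3 : IsClosedImmersion (w.left ≫ j.inv.left) := inferInstance
    exact inferInstanceAs (IsClosedImmersion (i.hom.left ≫ (w.left ≫ j.inv.left)))
  have h5 : Function.Surjective ψ := surj_of_closed _ h4
  exact LinearMap.finrank_le_finrank_of_surjective (f := ψ.toLinearMap) h5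

theorem finrank_pos_of_point [IsFinite X.hom] (e : 𝟙_ (Over (Spec (CommRingCat.of k))) ⟶ X)
    (s : Spec (CommRingCat.of k)) : 0 < X.hom.finrank s := by
  have h1 : IsClosedImmersion e.left := by
    have h2 : e.left ≫ X.hom = (𝟙_ (Over (Spec (CommRingCat.of k)))).hom := Over.w e
    have h3 : IsClosedImmersion (e.left ≫ X.hom) := by
      rw [h2]
      exact inferInstanceAs (IsClosedImmersion (𝟙 (Spec (CommRingCat.of k))))
    exact IsClosedImmersion.of_comp e.left X.hom
  have i1 : IsFinite (𝟙_ (Over (Spec (CommRingCat.of k)))).hom :=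
    inferInstanceAs (IsFinite (𝟙 (Spec (CommRingCat.of k))))
  have h4 := finrank_le_of_closed e h1 s
  have h5 : (𝟙_ (Over (Spec (CommRingCat.of k)))).hom.finrank s = 1 := by
    change (𝟙 (Spec (CommRingCat.of k)) : Spec (CommRingCat.of k) ⟶ _).finrank s = 1
    rw [Scheme.Hom.finrank_eq_one_of_isIso]
    rfl
  omega

end field

section art

variable {R : Type u} [CommRing R] [IsLocalRing R] [IsNoetherianRing R] {s p r h c : ℕ}

theorem finrank_const (X : Over (Spec (CommRingCat.of R))) [IsFinite X.hom] [Flat X.hom]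
    (x y : Spec (CommRingCat.of R)) : X.hom.finrank x = X.hom.finrank y := by
  have iX : IsAffine X.left := isAffine_of_isAffineHom X.hom
  obtain ⟨H, _, _, ⟨i⟩⟩ := exists_sp X
  rw [finrank_sp i, finrank_sp i]

/-- When `D n` is flat, `D n / M n` is killed by `p ^ (c (h + r))`. -/
theorem inM_of_flat (hp : p.Prime) (B : Bun (Spec (CommRingCat.of R)) p r h)
    (hc : HC (B.bc (cg (IsLocalRing.maximalIdeal R))) c) {n : ℕ} (hcn : c ≤ n) (hD : Flat (B.D n).hom)
    {T : Over (Spec (CommRingCat.of R))} {x : T ⟶ B.A} (hx : InD B n x) : InM B n (x ^ p ^ (c * (h + r))) := by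
  let _ : Field (R ⧸ IsLocalRing.maximalIdeal R) := Ideal.Quotient.field (IsLocalRing.maximalIdeal R)
  let B' : Bun (Spec (CommRingCat.of (R ⧸ IsLocalRing.maximalIdeal R))) p r h := B.bc (cg (IsLocalRing.maximalIdeal R))
  have hNZ : NeZero (p ^ n) := ⟨(Nat.pow_pos hp.pos).ne'⟩
  have i1 : IsAffine (B.M n).left := isAffine_of_isAffineHom (B.M n).hom
  have i2 : Flat (B.M n).hom := flat_mu (B.mu n)
  have i4 : LocallyOfFinitePresentation (B.D n).hom := LocallyOfFinitePresentation.iff_locallyOfFiniteType.2 inferInstance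
  have i5 : LocallyOfFinitePresentation (B.M n).hom := LocallyOfFinitePresentation.iff_locallyOfFiniteType.2 inferInstance
  have h1 : InM B n (B.i n ≫ B.f n) := ⟨𝟙 _, Category.id_comp _⟩
  obtain ⟨u, hu⟩ := h1.inD
  have hu1 : IsMonHom u := isMonHom_of_comp_mono u (B.d n ≫ B.f n) _ hu
  have hu2 : IsClosedImmersion u.left := by
    have h2 : IsClosedImmersion (u.left ≫ (B.d n ≫ B.f n).left) := by
      rw [← Over.comp_left, hu, Over.comp_left]
      infer_instance
    have h3 : IsSeparated (B.d n ≫ B.f n).left := by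
      rw [Over.comp_left]
      infer_instance
    exact IsClosedImmersion.of_comp u.left (B.d n ≫ B.f n).left
  obtain ⟨Qt, _, _, q, hq, hq1, hq2, hq3, hq4, hkq, hQ1, hQ2, hQ3, -⟩ := exists_quot u
  have hqff : IsFF q := ⟨hq1, hq2, inferInstance⟩
  have huq : u ≫ q = 1 := (hkq u).1 ⟨𝟙 _, Category.id_comp _⟩
  -- the rank of the quotient
  let g := cg (IsLocalRing.maximalIdeal R)
  have j1 : IsFinite ((Over.pullback g).obj Qt).hom := inferInstanceAs (IsFinite (pullback.snd Qt.hom g))
  have hrank : ∀ s', Qt.hom.finrank s' ≤ p ^ (c * (h + r)) ∧ 0 < Qt.hom.finrank s' := by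
    intro s'
    rw [finrank_const Qt s' (g (IsLocalRing.closedPoint _)), ← finrank_bc g (X := Qt)]
    refine ⟨?_, ?_⟩
    · have h2 : InD B' c (B'.d c ≫ B'.f c) := ⟨𝟙 _, Category.id_comp _⟩
      obtain ⟨v, hv⟩ : ∃ v : (Over.pullback g).obj (B.D c) ⟶ (Over.pullback g).obj (B.D n),
        v ≫ (Over.pullback g).map (B.d n) ≫ (Over.pullback g).map (B.f n) =
          (Over.pullback g).map (B.d c) ≫ (Over.pullback g).map (B.f c) := (inD_iff hp.pos hcn h2.tors).2 h2
      have hm1 : Mono ((Over.pullback g).map (B.d n) ≫ (Over.pullback g).map (B.f n)) :=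
        inferInstanceAs (Mono (B'.d n ≫ B'.f n))
      have k0 : IsCommMonObj ((Over.pullback g).obj (B.D c)) := inferInstanceAs (IsCommMonObj (B'.D c))
      have k3 : IsFinite ((Over.pullback g).obj (B.D c)).hom := inferInstanceAs (IsFinite (B'.D c).hom)
      have k1 : IsMonHom v := isMonHom_of_comp_mono v ((Over.pullback g).map (B.d n) ≫ (Over.pullback g).map (B.f n)) _ hv
      have k2 : IsMonHom (v ≫ (Over.pullback g).map q) := inferInstance
      obtain ⟨T', g', y', z', hg', hyz⟩ : ∃ (T' : Over (Spec (CommRingCat.of (R ⧸ IsLocalRing.maximalIdeal R))))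
          (g' : T' ⟶ (Over.pullback g).obj (B.D n)) (y' : T' ⟶ (Over.pullback g).obj (B.D c))
          (z' : T' ⟶ (Over.pullback g).obj (B.M n)), IsFF g' ∧
          g' ≫ (Over.pullback g).map (B.d n) ≫ (Over.pullback g).map (B.f n) =
            (y' ≫ (Over.pullback g).map (B.d c) ≫ (Over.pullback g).map (B.f c)) *
            (z' ≫ (Over.pullback g).map (B.i n) ≫ (Over.pullback g).map (B.f n)) := by
        obtain ⟨T', g', y, z, hg', ⟨y', hy'⟩, ⟨z', hz'⟩, hyz⟩ := exists_dec hp.pos hc hcn (x := B'.d n ≫ B'.f n)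
          ⟨𝟙 _, Category.id_comp _⟩
        refine ⟨T', g', y', z', hg', ?_⟩
        rw [← hy', ← hz'] at hyz
        exact hyz
      have h3 : g' = (y' ≫ v) * (z' ≫ (Over.pullback g).map u) := by
        rw [← cancel_mono ((Over.pullback g).map (B.d n) ≫ (Over.pullback g).map (B.f n)), hyz, MonObj.mul_comp,
          Category.assoc, Category.assoc, hv, ← Functor.map_comp _ (B.i n), ← hu, Functor.map_comp, Functor.map_comp]
      have hff : IsFF (v ≫ (Over.pullback g).map q) := by
        refine ff_of_lift (v ≫ (Over.pullback g).map q) (g' ≫ (Over.pullback g).map q) ((IsFF.map g hqff).comp hg') y' ?_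
        have h4 : (Over.pullback g).map u ≫ (Over.pullback g).map q = 1 := by
          rw [← Functor.map_comp, huq]
          exact map_one (Functor.homMonoidHom (Over.pullback g))
        conv_rhs => rw [h3]
        rw [MonObj.mul_comp, Category.assoc, Category.assoc, h4, MonObj.comp_one, _root_.mul_one]
      have h5 := finrank_le_of_ff _ hff (IsLocalRing.closedPoint _)
      have h6 := finrank_le_of_closed (B'.d c) inferInstance (IsLocalRing.closedPoint _)
      rw [B'.rank] at h6
      exact h5.trans h6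
    · exact finrank_pos_of_point η _
  have hkill : ∀ {T : Over (Spec (CommRingCat.of R))} (y : T ⟶ Qt), y ^ p ^ (c * (h + r)) = 1 := by
    intro T y
    have h2 : y ^ Qt.hom.finrank (IsLocalRing.closedPoint R) = 1 :=
      K267.DeligneSch.pow_eq_one Qt _ (fun s' => finrank_const Qt _ _) T y
    have h3 : y ^ p ^ n = 1 := by
      obtain ⟨T', g', y', hg', hy'⟩ := hqff.exists_lift y
      have := hg'.epi
      rw [← cancel_epi g', MonObj.comp_one, MonObj.comp_pow, ← hy', ← MonObj.pow_comp]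
      have h4 : y' ^ p ^ n = 1 := by
        rw [← cancel_mono (B.d n ≫ B.f n), MonObj.pow_comp, MonObj.one_comp, ← Category.assoc]
        exact pow_f B n _
      rw [h4, MonObj.one_comp]
    have h4 := pow_gcd_eq_one.2 ⟨h2, h3⟩
    obtain ⟨v, hv, hv'⟩ := (Nat.dvd_prime_pow hp).1 (Nat.gcd_dvd_right (Qt.hom.finrank (IsLocalRing.closedPoint R)) (p ^ n))
    rw [hv'] at h4
    have h5 : p ^ v ≤ p ^ (c * (h + r)) := by
      rw [← hv']
      exact (Nat.le_of_dvd (hrank _).2 (Nat.gcd_dvd_left _ _)).trans (hrank _).1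
    have h6 : v ≤ c * (h + r) := (Nat.pow_le_pow_iff_right hp.one_lt).1 h5
    obtain ⟨l, hl⟩ := Nat.exists_eq_add_of_le h6
    rw [hl, pow_add, pow_mul, h4, one_pow]
  obtain ⟨y, rfl⟩ := hx
  obtain ⟨z, hz⟩ := (hkq (y ^ p ^ (c * (h + r)))).2 (by rw [MonObj.pow_comp, hkill])
  refine ⟨z, ?_⟩
  rw [← hu, ← Category.assoc, hz, MonObj.pow_comp]

/-- `p ^ (c (h + r))` maps `D m` into `M m` over the Artinian base. -/
theorem hC_art (hI : IsLocalRing.maximalIdeal R ^ (s + 1) = ⊥) (hp : p.Prime)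
    (hpm : (p : R) ∈ IsLocalRing.maximalIdeal R) (B : Bun (Spec (CommRingCat.of R)) p r h) (hA : Smooth B.A.hom)
    (hc : HC (B.bc (cg (IsLocalRing.maximalIdeal R))) c) : HC B (c * (h + r)) := by
  intro m T x hx
  have hD := flat_D_large hI hp.pos hpm B hA hc (Q := m + s) (n := m + s + c + s) (by omega) rfl
  have h1 := inM_of_flat hp B hc (n := m + s + c + s) (by omega) hD
    ((inD_iff hp.pos (n := m) (N := m + s + c + s) (by omega) hx.tors).2 hx)
  refine h1.down (by omega) ?_
  rw [← pow_mul, mul_comm, pow_mul, hx.tors, one_pow]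

/-- `D m` is flat over the Artinian base for `m ≥ m₀`. -/
theorem flat_D (hI : IsLocalRing.maximalIdeal R ^ (s + 1) = ⊥) (hp : p.Prime)
    (hpm : (p : R) ∈ IsLocalRing.maximalIdeal R) (B : Bun (Spec (CommRingCat.of R)) p r h) (hA : Smooth B.A.hom)
    (hc : HC (B.bc (cg (IsLocalRing.maximalIdeal R))) c) {m : ℕ} (hm : c ≤ m) (hm' : c * (h + r) ≤ m) :
    Flat (B.D m).hom := by
  let _ : Field (R ⧸ IsLocalRing.maximalIdeal R) := Ideal.Quotient.field (IsLocalRing.maximalIdeal R)
  let B' : Bun (Spec (CommRingCat.of (R ⧸ IsLocalRing.maximalIdeal R))) p r h := B.bc (cg (IsLocalRing.maximalIdeal R))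
  have hD : Flat (B.D (m + s + c + s)).hom := flat_D_large hI hp.pos hpm B hA hc (Q := m + s) (by omega) rfl
  have hC := hC_art hI hp hpm B hA hc
  have hN : m + s + c + s = (s + c + s) + m := by ring
  generalize m + s + c + s = N at hD hN
  generalize s + c + s = n at hN
  have h0 : InD B N (B.d N ≫ B.f N) := ⟨𝟙 _, Category.id_comp _⟩
  obtain ⟨ρ, hρ⟩ := hC.inM hm' hN h0
  have k1 : IsMonHom ((B.d N ≫ B.f N) ^ p ^ m) := isMonHom_pow _ _
  have k2 : IsMonHom ρ := isMonHom_of_comp_mono ρ (B.i n ≫ B.f n) _ hρ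
  have k3 : IsAffine (B.M n).left := isAffine_of_isAffineHom (B.M n).hom
  have k4 : IsAffine (B.D N).left := isAffine_of_isAffineHom (B.D N).hom
  have hff : IsFF ρ := by
    refine ff_of_bc (IsLocalRing.maximalIdeal R) ⟨s + 1, hI⟩ ρ ?_
    let g := cg (IsLocalRing.maximalIdeal R)
    have hm1 : Mono ((Over.pullback g).map (B.i n) ≫ (Over.pullback g).map (B.f n)) :=
      inferInstanceAs (Mono (B'.i n ≫ B'.f n))
    obtain ⟨ρ', hρ', hff'⟩ : ∃ ρ' : (Over.pullback g).obj (B.D N) ⟶ (Over.pullback g).obj (B.M n),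
      ρ' ≫ (Over.pullback g).map (B.i n) ≫ (Over.pullback g).map (B.f n) =
        ((Over.pullback g).map (B.d N) ≫ (Over.pullback g).map (B.f N)) ^ p ^ m ∧ IsFF ρ' :=
      exists_rho (B := B') hp.pos hc hm hN
    have h1 : (Over.pullback g).map ρ = ρ' := by
      rw [← cancel_mono ((Over.pullback g).map (B.i n) ≫ (Over.pullback g).map (B.f n)), hρ', ← Functor.map_comp,
        ← Functor.map_comp, ← Functor.map_comp, hρ, map_pow_hom]
    rw [h1]
    exact hff'
  obtain ⟨K, _, iK, hiK, hK, hpb⟩ := exists_ker ρ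
  have hKff : IsFF (toUnit K) := hff.of_isPullback hpb
  have hKf : Flat K.hom := by
    have h1 : (toUnit K).left ≫ (𝟙_ (Over (Spec (CommRingCat.of R)))).hom = K.hom := Over.w (toUnit K)
    have h2 : (toUnit K).left = K.hom := (Category.comp_id _).symm.trans h1
    rw [← h2]
    exact hKff.flat
  have hKi := hiK.closed
  have hKm : Mono iK := mono_of_closed hKi
  have hmono : Mono (iK ≫ B.d N ≫ B.f N) := inferInstance
  have h1 : InD B m (B.d m ≫ B.f m) := ⟨𝟙 _, Category.id_comp _⟩
  obtain ⟨a₀, ha₀⟩ := (inD_iff hp.pos (n := m) (N := N) (by omega) h1.tors).2 h1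
  obtain ⟨a, ha⟩ := (hK a₀).2 (by
    rw [← cancel_mono (B.i n ≫ B.f n), Category.assoc, hρ, MonObj.comp_pow, ha₀, MonObj.one_comp]
    exact pow_f B m _)
  have h2 : (iK ≫ B.d N ≫ B.f N) ^ p ^ m = 1 := by
    have h3 := (hK iK).1 ⟨𝟙 _, Category.id_comp _⟩
    rw [← MonObj.comp_pow, ← hρ, ← Category.assoc, h3, MonObj.one_comp]
  obtain ⟨b, hb⟩ := (inD_iff hp.pos (n := m) (N := N) (by omega) h2).1 (h0.comp iK)
  have e1 : a ≫ b = 𝟙 _ := by
    rw [← cancel_mono (B.d m ≫ B.f m), Category.assoc, hb, Category.id_comp, ← Category.assoc, ha, ha₀]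
  have e2 : b ≫ a = 𝟙 _ := by
    rw [← cancel_mono (iK ≫ B.d N ≫ B.f N), Category.id_comp, ← Category.assoc, Category.assoc b, ha,
      Category.assoc b, ha₀, hb]
  have h3 : IsIso a.left := isIso_left ⟨a, b, e1, e2⟩
  have h4 : a.left ≫ K.hom = (B.D m).hom := Over.w a
  rw [← h4]
  exact MorphismProperty.comp_mem _ _ _ (inferInstance : Flat a.left) hKf

end art

end K521.RigArt
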