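import Groth.Agent.GrpSch.K521.RigPerf

/-!
# The data of the rigidity theorem over a base where `F m = A[p^m]`, and their base change
-/

set_option autoImplicit false
set_option linter.unusedSectionVars false
universe u

open CategoryTheory CategoryTheory.Limits MonoidalCategory CartesianMonoidalCategory MonObj GrpObj AlgebraicGeometry

noncomputable section

namespace K521.RigBun

open K270.MB

/-! ## The dictionary of base change -/

section dict

variable {S S' : Scheme.{u}} (g : S' ⟶ S)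

/-- The point of `X` over `S` given by a point of the base change. -/
def dn {X : Over S} {T : Over S'} (x : T ⟶ Red.bc g X) : (Over.map g).obj T ⟶ X :=
  ((Over.mapPullbackAdj g).homEquiv T X).symm x

/-- The point of the base change given by a point of `X` over `S`. -/
def upp {X : Over S} {T : Over S'} (x : (Over.map g).obj T ⟶ X) : T ⟶ Red.bc g X :=
  (Over.mapPullbackAdj g).homEquiv T X x

theorem dn_upp {X : Over S} {T : Over S'} (x : (Over.map g).obj T ⟶ X) : dn g (upp g x) = x :=
  Equiv.symm_apply_apply _ _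

theorem upp_dn {X : Over S} {T : Over S'} (x : T ⟶ Red.bc g X) : upp g (dn g x) = x :=
  Equiv.apply_symm_apply _ _

theorem upp_mul {X : Over S} [GrpObj X] {T : Over S'} (x y : (Over.map g).obj T ⟶ X) :
    upp g (x * y) = upp g x * upp g y := by
  rw [upp, upp, upp, Adjunction.homEquiv_unit, Adjunction.homEquiv_unit, Adjunction.homEquiv_unit]
  have h : (Over.pullback g).map (x * y) = (Over.pullback g).map x * (Over.pullback g).map y :=
    Functor.map_mul (Over.pullback g) x y
  rw [h, MonObj.comp_mul]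

theorem dn_mul {X : Over S} [GrpObj X] {T : Over S'} (x y : T ⟶ Red.bc g X) : dn g (x * y) = dn g x * dn g y := by
  have h := upp_mul g (dn g x) (dn g y)
  rw [upp_dn, upp_dn] at h
  rw [← h, dn_upp]

theorem dn_one {X : Over S} [GrpObj X] {T : Over S'} : dn g (1 : T ⟶ Red.bc g X) = 1 := by
  have h := dn_mul g (1 : T ⟶ Red.bc g X) 1
  rw [_root_.mul_one] at h
  exact left_eq_mul.mp h

theorem dn_pow {X : Over S} [GrpObj X] {T : Over S'} (x : T ⟶ Red.bc g X) (n : ℕ) : dn g (x ^ n) = dn g x ^ n := by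
  induction n with
  | zero => rw [pow_zero, pow_zero, dn_one]
  | succ n ih => rw [pow_succ, pow_succ, dn_mul, ih]

theorem dn_comp {X : Over S} {T T' : Over S'} (h : T' ⟶ T) (x : T ⟶ Red.bc g X) :
    dn g (h ≫ x) = (Over.map g).map h ≫ dn g x :=
  Adjunction.homEquiv_naturality_left_symm _ _ _

theorem dn_map {X Y : Over S} {T : Over S'} (x : T ⟶ Red.bc g X) (f : X ⟶ Y) :
    dn g (x ≫ (Over.pullback g).map f) = dn g x ≫ f :=
  Adjunction.homEquiv_naturality_right_symm _ _ _

theorem dn_inj {X : Over S} {T : Over S'} {x y : T ⟶ Red.bc g X} (h : dn g x = dn g y) : x = y := by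
  rw [← upp_dn g x, h, upp_dn]

theorem fac_map {X Y : Over S} (f : X ⟶ Y) {T : Over S'} (x : T ⟶ Red.bc g Y) :
    Fac ((Over.pullback g).map f) x ↔ Fac f (dn g x) := by
  constructor
  · rintro ⟨y, rfl⟩
    exact ⟨dn g y, (dn_map g y f).symm⟩
  · rintro ⟨y, hy⟩
    refine ⟨upp g y, dn_inj g ?_⟩
    rw [dn_map, dn_upp, hy]

/-- The restriction of a unit to the base change. -/
def uB {X : Over S} (w : U X) : U (Red.bc g X) := (ures (dn g (𝟙 (Red.bc g X))) w : U ((Over.map g).obj (Red.bc g X)))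

theorem ures_map {T T' : Over S'} (h : T' ⟶ T) (w : U T) :
    ures h w = (ures ((Over.map g).map h) (w : U ((Over.map g).obj T)) : U ((Over.map g).obj T')) := rfl

theorem ures_uB {X : Over S} {T : Over S'} (x : T ⟶ Red.bc g X) (w : U X) :
    ures x (uB g w) = (ures (dn g x) w : U ((Over.map g).obj T)) := by
  rw [ures_map g, uB, ← ures_comp, ← dn_comp, Category.comp_id]

theorem uB_mul {X : Over S} (w w' : U X) : uB g (w * w') = uB g w * uB g w' := map_mul _ _ _

theorem uB_pow {X : Over S} (w : U X) (n : ℕ) : uB g (w ^ n) = uB g w ^ n := map_pow _ _ _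

theorem uB_ures {X Y : Over S} (f : X ⟶ Y) (w : U Y) : uB g (ures f w) = ures ((Over.pullback g).map f) (uB g w) := by
  rw [ures_uB, uB, ← ures_comp, ← dn_map, Category.id_comp]

/-- Objects over an object over `S'` are objects over `S'`. -/
theorem exists_map {T : Over S'} {T' : Over S} (h : T' ⟶ (Over.map g).obj T) :
    ∃ (T₁ : Over S') (h₁ : T₁ ⟶ T) (α : (Over.map g).obj T₁ ≅ T'), α.hom ≫ h = (Over.map g).map h₁ := by
  refine ⟨Over.mk (h.left ≫ T.hom), Over.homMk h.left rfl, Over.isoMk (Iso.refl _) ?_, ?_⟩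
  · dsimp
    rw [Category.id_comp, Category.assoc]
    exact (Over.w h).symm
  · ext
    simp

theorem isPullback_map {X Y : Over S} (f : X ⟶ Y) :
    IsPullback ((Over.pullback g).map f).left (pullback.fst X.hom g) (pullback.fst Y.hom g) f.left := by
  have h1 : ((Over.pullback g).map f).left ≫ pullback.fst Y.hom g = pullback.fst X.hom g ≫ f.left :=
    pullback.lift_fst _ _ _
  have h2 : ((Over.pullback g).map f).left ≫ pullback.snd Y.hom g = pullback.snd X.hom g :=
    Over.w ((Over.pullback g).map f)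
  refine IsPullback.of_right (h₁₂ := pullback.snd Y.hom g) (h₂₂ := Y.hom) (v₁₃ := g) ?_ h1.symm.symm ?_ |>.flip.flip
  · rw [h2]
    have := (IsPullback.of_hasPullback X.hom g).flip
    have h3 : f.left ≫ Y.hom = X.hom := Over.w f
    rw [h3]
    exact this.flip.flip
  · exact (IsPullback.of_hasPullback Y.hom g).flip

theorem IsFF.map {X Y : Over S} {f : X ⟶ Y} (h : RigPerf.IsFF f) : RigPerf.IsFF ((Over.pullback g).map f) := by
  have sq := (isPullback_map g f).flip
  exact ⟨MorphismProperty.of_isPullback (P := @Flat) sq h.flat,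
    MorphismProperty.of_isPullback (P := @Surjective) sq h.surj,
    MorphismProperty.of_isPullback (P := @QuasiCompact) sq h.qc⟩

theorem IsClSub.map {X Y : Over S} [GrpObj X] [GrpObj Y] {f : X ⟶ Y} (h : IsClSub f) :
    IsClSub ((Over.pullback g).map f) := by
  have := h.mon
  exact ⟨inferInstance, MorphismProperty.of_isPullback (P := @IsClosedImmersion) (isPullback_map g f).flip h.closed⟩

end dict

/-! ## The data -/

/-- The data of the rigidity theorem, when `F m = A[p^m]`. -/
structure Bun (S : Scheme.{u}) (p r h : ℕ) where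
  A : Over S
  F : ℕ → Over S
  M : ℕ → Over S
  D : ℕ → Over S
  [gA : GrpObj A]
  [cA : IsCommMonObj A]
  [gF : ∀ m, GrpObj (F m)]
  [gM : ∀ m, GrpObj (M m)]
  [gD : ∀ m, GrpObj (D m)]
  f : ∀ m, F m ⟶ A
  i : ∀ m, M m ⟶ F m
  t : ∀ m, M m ⟶ M (m + 1)
  d : ∀ m, D m ⟶ F m
  χ : ∀ m, Fin r → U (M m)
  e : ∀ m, Pairing (F m) (F m)
  hf : ∀ m, IsClSub (f m)
  hi : ∀ m, IsClSub (i m)
  hd : ∀ m, IsClSub (d m)
  fin : ∀ m, IsFinite (F m).hom
  flat : ∀ m, Flat (F m).hom
  tors : ∀ (m : ℕ) {T : Over S} (x : T ⟶ A), x ^ p ^ m = 1 → Fac (f m) x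
  pow : ∀ m, f m ^ p ^ m = 1
  mu : ∀ m, IsMu (p ^ m) r (M m) (χ m)
  ht : ∀ m, t m ≫ i (m + 1) ≫ f (m + 1) = i m ≫ f m
  htχ : ∀ m j, ures (t m) (χ (m + 1) j) = χ m j
  rank : ∀ m s, (F m).hom.finrank s = p ^ (m * (h + r))
  anti : ∀ (m : ℕ) {T : Over S} (x y : T ⟶ F m), (e m).e x y * (e m).e y x = 1
  compat : ∀ (m : ℕ) {T : Over S} (x : T ⟶ F m) (x' y : T ⟶ F (m + 1)) (y' : T ⟶ F m),
    x' ≫ f (m + 1) = x ≫ f m → (y ≫ f (m + 1)) ^ p = y' ≫ f m → (e (m + 1)).e x' y = (e m).e x y'
  mu_left : ∀ (m : ℕ) {T : Over S} (x : T ⟶ M m) (y : T ⟶ F m), (e m).e (x ≫ i m) y = 1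
  rad : ∀ (m : ℕ) {T : Over S} (x : T ⟶ F m),
    Fac (d m) x ↔ ∀ {T' : Over S} (g : T' ⟶ T) (y : T' ⟶ F m), (e m).e (g ≫ x) y = 1

attribute [instance] Bun.gA Bun.cA Bun.gF Bun.gM Bun.gD Bun.fin Bun.flat

section bc

variable {S S' : Scheme.{u}} (g : S' ⟶ S)

/-- Base change of a pairing. -/
def pairBc {X : Over S} [GrpObj X] (e : Pairing X X) : Pairing (Red.bc g X) (Red.bc g X) where
  e {T} x y := (e.e (dn g x) (dn g y) : U ((Over.map g).obj T))
  nat {T T'} h x y := by
    rw [dn_comp, dn_comp, e.nat, ← ures_map]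
  mul_left {T} x x' y := by
    rw [dn_mul, e.mul_left]
  mul_right {T} x y y' := by
    rw [dn_mul, e.mul_right]

theorem pairBc_e {X : Over S} [GrpObj X] (e : Pairing X X) {T : Over S'} (x y : T ⟶ Red.bc g X) :
    (pairBc g e).e x y = (e.e (dn g x) (dn g y) : U ((Over.map g).obj T)) := rfl

theorem isMu_bc {N r : ℕ} {M : Over S} [GrpObj M] {χ : Fin r → U M} (h : IsMu N r M χ) :
    IsMu N r (Red.bc g M) (fun j => uB g (χ j)) where
  mul {T} x y j := by
    rw [ures_uB, ures_uB, ures_uB, dn_mul, h.mul]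
  pow j := by
    rw [← uB_pow, h.pow]
    exact map_one _
  bij {T} v hv := by
    obtain ⟨x, hx, hu⟩ := h.bij (T := (Over.map g).obj T) v hv
    refine ⟨upp g x, fun j => ?_, fun y hy => ?_⟩
    · rw [ures_uB, dn_upp]
      exact hx j
    · apply dn_inj g
      rw [dn_upp]
      refine hu _ fun j => ?_
      have h1 := hy j
      rw [ures_uB] at h1
      exact h1

theorem finrank_bc {X : Over S} [Flat X.hom] [IsFinite X.hom] (s : S') :
    (Red.bc g X).hom.finrank s = X.hom.finrank (g s) :=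
  Scheme.Hom.finrank_pullback_snd X.hom g s

/-- Base change of the data. -/
def Bun.bc {p r h : ℕ} (B : Bun S p r h) : Bun S' p r h where
  A := Red.bc g B.A
  F m := Red.bc g (B.F m)
  M m := Red.bc g (B.M m)
  D m := Red.bc g (B.D m)
  gA := inferInstance
  cA := inferInstance
  gF := inferInstance
  gM := inferInstance
  gD := inferInstance
  f m := (Over.pullback g).map (B.f m)
  i m := (Over.pullback g).map (B.i m)
  t m := (Over.pullback g).map (B.t m)
  d m := (Over.pullback g).map (B.d m)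
  χ m j := uB g (B.χ m j)
  e m := pairBc g (B.e m)
  hf m := IsClSub.map g (B.hf m)
  hi m := IsClSub.map g (B.hi m)
  hd m := IsClSub.map g (B.hd m)
  fin m := inferInstanceAs (IsFinite (pullback.snd (B.F m).hom g))
  flat m := inferInstanceAs (Flat (pullback.snd (B.F m).hom g))
  tors m {T} x hx := by
    rw [fac_map]
    apply B.tors
    rw [← dn_pow, hx, dn_one]
  pow m := by
    have h1 : (Over.pullback g).map (B.f m) ^ p ^ m = (Over.pullback g).map (B.f m ^ p ^ m) :=
      (map_pow (Functor.homMonoidHom (Over.pullback g) (X := B.F m) (M := B.A)) (B.f m) (p ^ m)).symm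
    rw [h1, B.pow]
    exact map_one (Functor.homMonoidHom (Over.pullback g) (X := B.F m) (M := B.A))
  mu m := isMu_bc g (B.mu m)
  ht m := by
    rw [← Functor.map_comp, ← Functor.map_comp, ← Functor.map_comp, B.ht]
  htχ m j := by
    rw [← uB_ures, B.htχ]
  rank m s := by
    rw [finrank_bc, B.rank]
  anti m {T} x y := B.anti m (T := (Over.map g).obj T) (dn g x) (dn g y)
  compat m {T} x x' y y' h1 h2 := by
    refine B.compat m (T := (Over.map g).obj T) (dn g x) (dn g x') (dn g y) (dn g y') ?_ ?_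
    · rw [← dn_map, ← dn_map, h1]
    · rw [← dn_map, ← dn_map, ← h2, dn_pow]
  mu_left m {T} x y := by
    rw [pairBc_e, dn_map]
    exact B.mu_left m (T := (Over.map g).obj T) _ _
  rad m {T} x := by
    rw [fac_map, B.rad]
    constructor
    · intro h T' k y
      rw [pairBc_e, dn_comp]
      exact h _ _
    · intro h T' k y
      obtain ⟨T₁, h₁, α, hα⟩ := exists_map g k
      have h2 := h h₁ (upp g (α.hom ≫ y))
      rw [pairBc_e, dn_comp, dn_upp, ← hα, Category.assoc, (B.e m).nat] at h2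
      have h3 := congrArg (ures α.inv) h2
      rw [← ures_comp, α.inv_hom_id, ures_id] at h3
      rw [h3]
      exact map_one _

end bc

end K521.RigBun
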