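import Groth.Agent.GrpSch.K270.MB.Shape
import Groth.Prelude.Def_CoactBr
import Groth.Prelude.Def_CartDual
import Groth.Agent.AbDual.K732.KerChar

/-!
# Characters of `Spec A` over `Spec B` and algebra maps `D k A → B`, over any base ring `k`

`A` a finite free Hopf algebra over a ring `k`, `B` a `k`-algebra: characters of `Spec A` over `Spec B` are the algebra
maps `D k A → B` from the dual Hopf algebra.  `exists_cartier`: the universal character.
-/

set_option autoImplicit false
set_option linter.unusedSectionVars false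
universe u

namespace K521.RigChar

open TensorProduct

section Alg

variable (k : Type u) [CommRing k] (A : Type u) [CommRing A] [HopfAlgebra k A] (R : Type u) [CommRing R] [Algebra k R]

/-- The `R`-linear extension of a linear form. -/
noncomputable def pairR (x : CartDual.D k A) : R ⊗[k] A →ₗ[R] R :=
  (TensorProduct.AlgebraTensorModule.rid k R R).toLinearMap ∘ₗ
    TensorProduct.AlgebraTensorModule.map (LinearMap.id : R →ₗ[R] R) x.ofConv

theorem pairR_tmul (x : CartDual.D k A) (r : R) (a : A) : pairR k A R x (r ⊗ₜ a) = x a • r := rfl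

/-- `g` read as a linear map on the dual. -/
noncomputable def Φ (g : R ⊗[k] A) : CartDual.D k A →ₗ[k] R where
  toFun x := pairR k A R x g
  map_add' x y := by
    induction g using TensorProduct.induction_on with
    | zero => simp
    | add g g' h h' => rw [map_add, h, h', map_add, map_add]; ring
    | tmul r a => rw [pairR_tmul, pairR_tmul, pairR_tmul, ← add_smul]; rfl
  map_smul' c x := by
    induction g using TensorProduct.induction_on with
    | zero => simp
    | add g g' h h' => rw [map_add, h, h', map_add, smul_add]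
    | tmul r a =>
      rw [pairR_tmul, pairR_tmul, RingHom.id_apply, smul_smul]; rfl

theorem Φ_apply (g : R ⊗[k] A) (x : CartDual.D k A) : Φ k A R g x = pairR k A R x g := rfl

theorem Φ_tmul (r : R) (a : A) (x : CartDual.D k A) : Φ k A R (r ⊗ₜ a) x = x a • r := rfl

theorem Φ_add (g g' : R ⊗[k] A) : Φ k A R (g + g') = Φ k A R g + Φ k A R g' := by
  ext x
  rw [LinearMap.add_apply, Φ_apply, Φ_apply, Φ_apply, map_add]

theorem Φ_zero : Φ k A R 0 = 0 := by
  ext x
  rw [LinearMap.zero_apply, Φ_apply, map_zero]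

theorem mul'_map_pairR_comul (x y : CartDual.D k A) (g : R ⊗[k] A) :
    LinearMap.mul' R R (TensorProduct.map (pairR k A R x) (pairR k A R y) (Coalgebra.comul (R := R) g)) =
      pairR k A R (x * y) g := by
  induction g using TensorProduct.induction_on with
  | zero => simp
  | add g g' h h' => simp only [map_add, h, h']
  | tmul r a =>
    rw [TensorProduct.comul_tmul, CommSemiring.comul_apply, pairR_tmul, CartDual.coe_apply,
      LinearMap.convMul_apply]
    generalize Coalgebra.comul (R := k) a = t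
    induction t using TensorProduct.induction_on with
    | zero => simp
    | add t t' h h' => simp only [map_add, TensorProduct.tmul_add, h, h', add_smul]
    | tmul b c =>
      rw [TensorProduct.AlgebraTensorModule.tensorTensorTensorComm_tmul, TensorProduct.map_tmul,
        TensorProduct.map_tmul, pairR_tmul, pairR_tmul, LinearMap.mul'_apply, LinearMap.mul'_apply]
      rw [smul_mul_smul_comm, one_mul]

theorem mul'_map_pairR_tmul (x y : CartDual.D k A) (g : R ⊗[k] A) :
    LinearMap.mul' R R (TensorProduct.map (pairR k A R x) (pairR k A R y) (g ⊗ₜ[R] g)) =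
      pairR k A R x g * pairR k A R y g := by
  rw [TensorProduct.map_tmul, LinearMap.mul'_apply]

theorem counit_eq (g : R ⊗[k] A) : Coalgebra.counit (R := R) g = Φ k A R g 1 := by
  induction g using TensorProduct.induction_on with
  | zero => simp [Φ_zero]
  | add g g' h h' => rw [map_add, h, h', Φ_apply, Φ_apply, Φ_apply, map_add]
  | tmul r a =>
    rw [TensorProduct.counit_tmul, Φ_tmul]
    simp [LinearMap.convOne_def]

theorem mul'_map_Φ [Module.Finite k A] [Module.Free k A] (g h : R ⊗[k] A)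
    (t : CartDual.D k A ⊗[k] CartDual.D k A)
    (x : CartDual.D k A) (hx : ∀ a b : A, CartDual.ev₂ k A t (a ⊗ₜ b) = x (a * b)) :
    LinearMap.mul' k R (TensorProduct.map (Φ k A R g) (Φ k A R h) t) = Φ k A R (g * h) x := by
  have key : ∀ (r s : R) (a b : A), LinearMap.mul' k R
      (TensorProduct.map (Φ k A R (r ⊗ₜ a)) (Φ k A R (s ⊗ₜ b)) t) = CartDual.ev₂ k A t (a ⊗ₜ b) • (r * s) := by
    intro r s a b
    clear hx
    induction t using TensorProduct.induction_on with
    | zero => simp
    | add t t' h h' => rw [map_add, map_add, h, h', map_add, LinearMap.add_apply, add_smul]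
    | tmul y z =>
      rw [TensorProduct.map_tmul, LinearMap.mul'_apply, Φ_tmul, Φ_tmul, CartDual.ev₂_tmul,
        smul_mul_smul_comm]
  induction g using TensorProduct.induction_on with
  | zero => rw [Φ_zero]; simp [Φ_zero]
  | add g g' hg hg' =>
    rw [Φ_add, TensorProduct.map_add_left, LinearMap.add_apply, map_add, hg, hg', add_mul, Φ_add,
      LinearMap.add_apply]
  | tmul r a =>
    induction h using TensorProduct.induction_on with
    | zero => rw [Φ_zero]; simp [Φ_zero]
    | add g g' hg hg' =>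
      rw [Φ_add, TensorProduct.map_add_right, LinearMap.add_apply, map_add, hg, hg', mul_add, Φ_add,
        LinearMap.add_apply]
    | tmul s b =>
      rw [key, hx, Algebra.TensorProduct.tmul_mul_tmul, Φ_tmul]

theorem Φ_one : Φ k A R 1 = (Algebra.linearMap k R) ∘ₗ CartDual.counit k A := by
  ext x
  rw [Algebra.TensorProduct.one_def, Φ_tmul]
  simp [Algebra.smul_def, CartDual.coe_apply]

variable [Module.Finite k A] [Module.Free k A]

theorem repr_eq {ι : Type*} [Fintype ι] [DecidableEq ι] (b : Module.Basis ι k A) (g : R ⊗[k] A) (i : ι) :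
    (b.baseChange R).repr g i = Φ k A R g (WithConv.toConv (b.coord i)) := by
  induction g using TensorProduct.induction_on with
  | zero => simp [Φ_zero]
  | add g g' h h' => rw [map_add, Finsupp.add_apply, h, h', Φ_add, LinearMap.add_apply]
  | tmul r a =>
    rw [Module.Basis.baseChange_repr_tmul, Φ_tmul]
    rfl

theorem Φ_injective : Function.Injective (Φ k A R) := by
  classical
  intro g h hgh
  apply ((Module.Free.chooseBasis k A).baseChange R).ext_elem
  intro i
  rw [repr_eq, repr_eq, hgh]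

theorem Φ_surjective : Function.Surjective (Φ k A R) := by
  classical
  intro f
  let b := Module.Free.chooseBasis k A
  refine ⟨∑ i, f (WithConv.toConv (b.coord i)) ⊗ₜ b i, ?_⟩
  ext x
  have h1 : ∀ (s : Finset (Module.Free.ChooseBasisIndex k A)) (r : Module.Free.ChooseBasisIndex k A → R),
      Φ k A R (∑ i ∈ s, r i ⊗ₜ b i) x = ∑ i ∈ s, x (b i) • r i := by
    intro s r
    rw [Φ_apply, map_sum]
    rfl
  rw [h1]
  have h2 : x = ∑ i, x (b i) • (WithConv.toConv (b.coord i) : CartDual.D k A) := by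
    apply WithConv.ext
    apply b.ext
    intro j
    rw [WithConv.ofConv_sum, LinearMap.sum_apply, Finset.sum_eq_single j]
    · simp
    · intro i _ hij
      simp [hij]
    · intro h; exact absurd (Finset.mem_univ j) h
  conv_rhs => rw [h2]
  rw [map_sum]
  simp only [map_smul]

theorem tensorR_ext {z z' : (R ⊗[k] A) ⊗[R] (R ⊗[k] A)}
    (h : ∀ x y : CartDual.D k A, LinearMap.mul' R R (TensorProduct.map (pairR k A R x) (pairR k A R y) z) =
      LinearMap.mul' R R (TensorProduct.map (pairR k A R x) (pairR k A R y) z')) : z = z' := by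
  classical
  let b := Module.Free.chooseBasis k A
  apply (((b.baseChange R).tensorProduct (b.baseChange R))).ext_elem
  rintro ⟨i, j⟩
  have key : ∀ w : (R ⊗[k] A) ⊗[R] (R ⊗[k] A), ((b.baseChange R).tensorProduct (b.baseChange R)).repr w (i, j) =
      LinearMap.mul' R R (TensorProduct.map (pairR k A R (WithConv.toConv (b.coord i)))
        (pairR k A R (WithConv.toConv (b.coord j))) w) := by
    intro w
    induction w using TensorProduct.induction_on with
    | zero => simp
    | add g g' h h' => rw [map_add, Finsupp.add_apply, h, h', map_add, map_add]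
    | tmul g h =>
      rw [Module.Basis.tensorProduct_repr_tmul_apply, TensorProduct.map_tmul, LinearMap.mul'_apply,
        repr_eq, repr_eq, Φ_apply, Φ_apply, smul_eq_mul, mul_comm]
  rw [key, key, h]

end Alg

open CategoryTheory CategoryTheory.Limits MonoidalCategory CartesianMonoidalCategory MonObj GrpObj
  AlgebraicGeometry

open K270.MB CoactBr

section ures

variable {S : Scheme.{u}} {P Z Z' : Over S}

theorem ures_mul (w w' : U P) (g : Z ⟶ P) : ures g (w * w') = ures g w * ures g w' := map_mul _ _ _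

theorem ures_inj (g : Z ⟶ P) (hg : Function.Injective g.left.appTop) {w w' : U P}
    (h : ures g w = ures g w') : w = w' :=
  Units.ext (hg (congrArg Units.val h))

theorem exists_ures (g : Z ⟶ P) (hg : Function.Bijective g.left.appTop) (w : U Z) :
    ∃ w' : U P, ures g w' = w := by
  obtain ⟨a, ha⟩ := hg.2 w.1
  obtain ⟨b, hb⟩ := hg.2 w⁻¹.1
  have h1 : a * b = 1 := hg.1 (by
    rw [map_mul, ha, hb, map_one]
    exact w.mul_inv)
  exact ⟨Units.mkOfMulEqOne a b h1, Units.ext ha⟩

/-- A character of the group `N` over `T`. -/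
def IsChar (N : Over S) [GrpObj N] {T : Over S} (χ : U (N ⊗ T)) : Prop :=
  ∀ ⦃Z : Over S⦄ (n m : Z ⟶ N) (t : Z ⟶ T),
    ures (lift (n * m) t) χ = ures (lift n t) χ * ures (lift m t) χ

theorem IsChar.one {N : Over S} [GrpObj N] {T : Over S} {χ : U (N ⊗ T)} (h : IsChar N χ) {Z : Over S} (t : Z ⟶ T) :
    ures (lift (1 : Z ⟶ N) t) χ = 1 := by
  have h1 := h 1 1 t
  rw [_root_.one_mul] at h1
  exact (mul_eq_left.1 h1.symm)

theorem IsChar.mul {N : Over S} [GrpObj N] {T : Over S} {χ χ' : U (N ⊗ T)} (h : IsChar N χ) (h' : IsChar N χ') :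
    IsChar N (χ * χ') := by
  intro Z n m t
  rw [ures_mul, ures_mul, ures_mul, h, h', _root_.mul_mul_mul_comm]

theorem IsChar.comp {N : Over S} [GrpObj N] {T T' : Over S} {χ : U (N ⊗ T)} (h : IsChar N χ) (g : T' ⟶ T) :
    IsChar N (ures (N ◁ g) χ) := by
  intro Z n m t
  rw [← ures_comp, ← ures_comp, ← ures_comp, lift_whiskerLeft, lift_whiskerLeft, lift_whiskerLeft]
  exact h _ _ _

theorem IsChar.pow {N : Over S} [GrpObj N] {T : Over S} {χ : U (N ⊗ T)} (h : IsChar N χ) {Z : Over S} (n : Z ⟶ N)
    (t : Z ⟶ T) (j : ℕ) : ures (lift (n ^ j) t) χ = ures (lift n t) χ ^ j := by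
  induction j with
  | zero => rw [_root_.pow_zero, _root_.pow_zero, h.one]
  | succ j ih => rw [_root_.pow_succ, _root_.pow_succ, h, ih]

end ures




section toK

variable {k : Type u} [CommRing k] {K L : Type u} [CommRing K] [Algebra k K] [CommRing L] [Algebra k L]

/-- A unit on `Spec K` as an element of `K`. -/
noncomputable def toK (w : U (sp k K)) : K := (Scheme.ΓSpecIso (CommRingCat.of K)).hom.hom w.1

theorem toK_mul (w w' : U (sp k K)) : toK (w * w') = toK w * toK w' := map_mul _ _ _

theorem toK_one : toK (1 : U (sp k K)) = (1 : K) := map_one _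

theorem toK_inj {w w' : U (sp k K)} (h : toK w = toK w') : w = w' := by
  have h1 : Function.Injective (Scheme.ΓSpecIso (CommRingCat.of K)).hom.hom :=
    (ConcreteCategory.bijective_of_isIso (Scheme.ΓSpecIso (CommRingCat.of K)).hom).1
  exact Units.ext (h1 h)

theorem exists_toK {a b : K} (h : a * b = 1) : ∃ w : U (sp k K), toK w = a := by
  have h1 : Function.Bijective (Scheme.ΓSpecIso (CommRingCat.of K)).hom.hom :=
    ConcreteCategory.bijective_of_isIso (Scheme.ΓSpecIso (CommRingCat.of K)).hom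
  obtain ⟨x, hx⟩ := h1.2 a
  obtain ⟨y, hy⟩ := h1.2 b
  have h2 : x * y = 1 := h1.1 (by rw [map_mul, hx, hy, h, map_one])
  exact ⟨Units.mkOfMulEqOne x y h2, hx⟩

theorem toK_ures (φ : K →ₐ[k] L) (w : U (sp k K)) : toK (ures (pt φ) w) = φ (toK w) := by
  have h := Scheme.ΓSpecIso_naturality (CommRingCat.ofHom φ.toRingHom)
  exact congrArg (fun t ↦ t.hom w.1) h

end toK

section iso

variable {k : Type u} [CommRing k] (A R : Type u) [CommRing A] [Algebra k A] [CommRing R] [Algebra k R]

/-- `Spec (R ⊗ A) ≅ Spec A × Spec R`. -/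
noncomputable def io : sp k (R ⊗[k] A) ⟶ sp k A ⊗ sp k R :=
  lift (pt Algebra.TensorProduct.includeRight) (pt Algebra.TensorProduct.includeLeft)

noncomputable local instance braidedAlgSpecOf (R : Type u) [CommRing R] : (algSpec (CommRingCat.of R)).Braided :=
  braidedAlgSpec

theorem isIso_io : IsIso (io (k := k) A R) := by
  have h1 := lift_pt_pt (R := k) (K := R ⊗[k] A) (B := R) (A := A)
    (Algebra.TensorProduct.includeLeft : R →ₐ[k] R ⊗[k] A)
    (Algebra.TensorProduct.includeRight : A →ₐ[k] R ⊗[k] A)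
  have h2 : (Algebra.TensorProduct.lift (Algebra.TensorProduct.includeLeft : R →ₐ[k] R ⊗[k] A)
    (Algebra.TensorProduct.includeRight : A →ₐ[k] R ⊗[k] A) fun _ _ ↦ .all _ _) =
      AlgHom.id k (R ⊗[k] A) := by
    ext <;> simp
  rw [h2, pt_id] at h1
  have h3 : IsIso (lift (pt (Algebra.TensorProduct.includeLeft : R →ₐ[k] R ⊗[k] A))
      (pt (Algebra.TensorProduct.includeRight : A →ₐ[k] R ⊗[k] A))) := by
    have h5 : IsIso (lift (pt (Algebra.TensorProduct.includeLeft : R →ₐ[k] R ⊗[k] A))
      (pt (Algebra.TensorProduct.includeRight : A →ₐ[k] R ⊗[k] A)) ≫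
      Functor.LaxMonoidal.μ (algSpec (CommRingCat.of k)) (Opposite.op (.of k R)) (Opposite.op (.of k A))) := by
      rw [h1]
      exact inferInstanceAs (IsIso (𝟙 _))
    have h6 : IsIso (Functor.LaxMonoidal.μ (algSpec (CommRingCat.of k)) (Opposite.op (CommAlgCat.of k R))
      (Opposite.op (CommAlgCat.of k A))) :=
      (Functor.Monoidal.μIso (algSpec (CommRingCat.of k)) (Opposite.op (.of k R)) (Opposite.op (.of k A))).isIso_hom
    exact @IsIso.of_isIso_comp_right _ _ _ _ _ _ (Functor.LaxMonoidal.μ (algSpec (CommRingCat.of k))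
      (Opposite.op (.of k R)) (Opposite.op (.of k A))) h6 h5
  have h4 : io (k := k) A R = lift (pt (Algebra.TensorProduct.includeLeft : R →ₐ[k] R ⊗[k] A))
      (pt (Algebra.TensorProduct.includeRight : A →ₐ[k] R ⊗[k] A)) ≫ (β_ _ _).hom := by
    rw [io, lift_braiding_hom]
  rw [h4]
  infer_instance

end iso

section gl

variable {k : Type u} [CommRing k] {A R R' : Type u} [CommRing A] [Algebra k A] [CommRing R] [Algebra k R]
  [CommRing R'] [Algebra k R']

/-- A unit on `Spec A × Spec R` as an element of `R ⊗ A`. -/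
noncomputable def gl (χ : U (sp k A ⊗ sp k R)) : R ⊗[k] A := toK (ures (io A R) χ)

theorem gl_mul (χ χ' : U (sp k A ⊗ sp k R)) : gl (χ * χ') = gl χ * gl χ' := by
  rw [gl, ures_mul, toK_mul]
  rfl

theorem gl_one : gl (1 : U (sp k A ⊗ sp k R)) = 1 := by
  rw [gl, map_one, toK_one]

theorem bijective_io : Function.Bijective (io (k := k) A R).left.appTop := by
  have h1 := isIso_io (k := k) A R
  have h2 : IsIso (io (k := k) A R).left := inferInstanceAs (IsIso ((Over.forget _).map (io A R)))
  have h3 : IsIso (io (k := k) A R).left.appTop :=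
    inferInstanceAs (IsIso ((io (k := k) A R).left.app ⊤))
  exact ConcreteCategory.bijective_of_isIso (io (k := k) A R).left.appTop

theorem gl_inj {χ χ' : U (sp k A ⊗ sp k R)} (h : gl χ = gl χ') : χ = χ' :=
  ures_inj (io (k := k) A R) (bijective_io (k := k)).1 (toK_inj (k := k) (K := R ⊗[k] A) h)

theorem exists_gl {g h : R ⊗[k] A} (e : g * h = 1) :
    ∃ χ : U (sp k A ⊗ sp k R), gl χ = g := by
  obtain ⟨w, rfl⟩ := exists_toK (k := k) e
  obtain ⟨χ, hχ⟩ := exists_ures (io A R) bijective_io w
  exact ⟨χ, by rw [gl, hχ]⟩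

/-- The value at a point. -/
theorem toK_ures_lift {K : Type u} [CommRing K] [Algebra k K] (χ : U (sp k A ⊗ sp k R))
    (a : A →ₐ[k] K) (r : R →ₐ[k] K) :
    toK (ures (lift (pt a) (pt r)) χ) = Algebra.TensorProduct.lift r a (fun _ _ ↦ .all _ _) (gl χ) := by
  have h1 : lift (pt a) (pt r) = pt (Algebra.TensorProduct.lift r a (fun _ _ ↦ .all _ _)) ≫ io A R := by
    rw [io, comp_lift, ← pt_comp, ← pt_comp]
    congr 2
    · ext; simp
    · ext; simp
  rw [h1, ures_comp, toK_ures]
  rfl

/-- Base change. -/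
theorem gl_pull (χ : U (sp k A ⊗ sp k R)) (g : R →ₐ[k] R') :
    gl (ures (sp k A ◁ pt g) χ) = Algebra.TensorProduct.map g (AlgHom.id k A) (gl χ) := by
  have h1 : io A R' ≫ (sp k A ◁ pt g) = lift (pt (Algebra.TensorProduct.includeRight : A →ₐ[k] R' ⊗[k] A))
      (pt ((Algebra.TensorProduct.includeLeft : R' →ₐ[k] R' ⊗[k] A).comp g)) := by
    rw [io, lift_whiskerLeft, ← pt_comp]
  have h2 : Algebra.TensorProduct.lift ((Algebra.TensorProduct.includeLeft : R' →ₐ[k] R' ⊗[k] A).comp g)
      (Algebra.TensorProduct.includeRight : A →ₐ[k] R' ⊗[k] A) (fun _ _ ↦ .all _ _) =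
      Algebra.TensorProduct.map g (AlgHom.id k A) := by
    ext <;> simp
  rw [gl, ← ures_comp, h1, toK_ures_lift, h2]

theorem Φ_map {A : Type u} [CommRing A] [HopfAlgebra k A] (g : R →ₐ[k] R') (z : R ⊗[k] A) (x : CartDual.D k A) :
    Φ k A R' (Algebra.TensorProduct.map g (AlgHom.id k A) z) x = g (Φ k A R z x) := by
  induction z using TensorProduct.induction_on with
  | zero => rw [map_zero, Φ_zero, Φ_zero]; simp
  | add z z' h h' => rw [map_add, Φ_add, LinearMap.add_apply, h, h', Φ_add, LinearMap.add_apply, map_add]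
  | tmul r a => rw [Algebra.TensorProduct.map_tmul, Φ_tmul, Φ_tmul, map_smul]; rfl

end gl

section char

variable {k : Type u} [CommRing k] {A R : Type u} [CommRing A] [HopfAlgebra k A] [CommRing R] [Algebra k R]

/-- The convolution product of algebra maps. -/
noncomputable abbrev cv {C K : Type u} [Semiring C] [Bialgebra k C] [CommRing K] [Algebra k K]
    (a b : C →ₐ[k] K) : C →ₐ[k] K :=
  (Algebra.TensorProduct.lift a b fun _ _ ↦ .all _ _).comp (Bialgebra.comulAlgHom k C)

/-- The form `id ⊗ x ⊗ y`. -/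
noncomputable def P (x y : A →ₗ[k] k) : R ⊗[k] (A ⊗[k] A) →ₗ[k] R :=
  (TensorProduct.rid k R).toLinearMap ∘ₗ LinearMap.lTensor R (LinearMap.mul' k k ∘ₗ TensorProduct.map x y)

theorem P_tmul (x y : A →ₗ[k] k) (r : R) (a b : A) : P x y (r ⊗ₜ (a ⊗ₜ b)) = (x a * y b) • r := by
  simp [P]

theorem P_tmul' (x y : A →ₗ[k] k) (r : R) (c : A ⊗[k] A) :
    P x y (r ⊗ₜ c) = (LinearMap.mul' k k (TensorProduct.map x y c)) • r := by
  simp [P]

theorem tens_ext [Module.Finite k A] [Module.Free k A] {z z' : R ⊗[k] (A ⊗[k] A)}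
    (h : ∀ x y : A →ₗ[k] k, P x y z = P x y z') : z = z' := by
  classical
  let b := Module.Free.chooseBasis k A
  apply (((b.tensorProduct b).baseChange R)).ext_elem
  rintro ⟨i, j⟩
  have key : ∀ w : R ⊗[k] (A ⊗[k] A), ((b.tensorProduct b).baseChange R).repr w (i, j) =
      P (b.coord i) (b.coord j) w := by
    intro w
    induction w using TensorProduct.induction_on with
    | zero => simp
    | add g g' h h' => rw [map_add, Finsupp.add_apply, h, h', map_add]
    | tmul r c =>
      induction c using TensorProduct.induction_on with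
      | zero => simp
      | add g g' h h' => rw [TensorProduct.tmul_add, map_add, Finsupp.add_apply, h, h', map_add]
      | tmul a a' =>
        rw [Module.Basis.baseChange_repr_tmul, Module.Basis.tensorProduct_repr_tmul_apply, P_tmul]
        simp [mul_comm]
  rw [key, key, h]

variable (A R) in
/-- The universal points. -/
noncomputable def r₀ : R →ₐ[k] R ⊗[k] (A ⊗[k] A) := Algebra.TensorProduct.includeLeft
variable (A R) in
@[inherit_doc r₀]
noncomputable def a₀ : A →ₐ[k] R ⊗[k] (A ⊗[k] A) :=
  (Algebra.TensorProduct.includeRight : A ⊗[k] A →ₐ[k] R ⊗[k] (A ⊗[k] A)).comp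
    (Algebra.TensorProduct.includeLeft : A →ₐ[k] A ⊗[k] A)
variable (A R) in
@[inherit_doc r₀]
noncomputable def b₀ : A →ₐ[k] R ⊗[k] (A ⊗[k] A) :=
  (Algebra.TensorProduct.includeRight : A ⊗[k] A →ₐ[k] R ⊗[k] (A ⊗[k] A)).comp
    (Algebra.TensorProduct.includeRight : A →ₐ[k] A ⊗[k] A)

theorem cv_univ : cv (a₀ A R) (b₀ A R) =
    (Algebra.TensorProduct.includeRight : A ⊗[k] A →ₐ[k] R ⊗[k] (A ⊗[k] A)).comp
      (Bialgebra.comulAlgHom k A) := by
  rw [cv]
  congr 1
  ext x
  · simp [a₀]
  · simp [b₀]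

theorem P_cv (x y : CartDual.D k A) (g : R ⊗[k] A) :
    P x.ofConv y.ofConv (Algebra.TensorProduct.lift (r₀ A R) (cv (a₀ A R) (b₀ A R))
      (fun _ _ ↦ .all _ _) g) = Φ k A R g (x * y) := by
  rw [cv_univ]
  induction g using TensorProduct.induction_on with
  | zero => rw [map_zero, map_zero, Φ_zero]; rfl
  | add g g' h h' => rw [map_add, map_add, h, h', Φ_add, LinearMap.add_apply]
  | tmul r a =>
    rw [Algebra.TensorProduct.lift_tmul, Φ_tmul, CartDual.coe_apply, LinearMap.convMul_apply]
    have h1 : r₀ A R r * ((Algebra.TensorProduct.includeRight : A ⊗[k] A →ₐ[k] R ⊗[k] (A ⊗[k] A)).comp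
      (Bialgebra.comulAlgHom k A)) a = r ⊗ₜ (Coalgebra.comul (R := k) a) := by
      simp [r₀]
    rw [h1, P_tmul']

theorem P_mul (x y : CartDual.D k A) (g h : R ⊗[k] A) :
    P x.ofConv y.ofConv (Algebra.TensorProduct.lift (r₀ A R) (a₀ A R) (fun _ _ ↦ .all _ _) g *
      Algebra.TensorProduct.lift (r₀ A R) (b₀ A R) (fun _ _ ↦ .all _ _) h) =
        Φ k A R g x * Φ k A R h y := by
  induction g using TensorProduct.induction_on with
  | zero => rw [map_zero, zero_mul, map_zero, Φ_zero, LinearMap.zero_apply, zero_mul]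
  | add g g' h h' => rw [map_add, add_mul, map_add, h, h', Φ_add, LinearMap.add_apply, add_mul]
  | tmul r a =>
    induction h using TensorProduct.induction_on with
    | zero => rw [map_zero, mul_zero, map_zero, Φ_zero, LinearMap.zero_apply, mul_zero]
    | add g g' h h' => rw [map_add, mul_add, map_add, h, h', Φ_add, LinearMap.add_apply, mul_add]
    | tmul s b =>
      rw [Algebra.TensorProduct.lift_tmul, Algebra.TensorProduct.lift_tmul, Φ_tmul, Φ_tmul]
      have h1 : r₀ (k := k) A R r * a₀ A R a * (r₀ A R s * b₀ A R b) = (r * s) ⊗ₜ (a ⊗ₜ b) := by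
        simp [r₀, a₀, b₀]
      rw [h1, P_tmul, smul_mul_smul_comm]

variable {χ : U (sp k A ⊗ sp k R)}

theorem phi_mul_of_isChar (h : IsChar (sp k A) χ) (x y : CartDual.D k A) :
    Φ k A R (gl χ) (x * y) = Φ k A R (gl χ) x * Φ k A R (gl χ) y := by
  have h1 := congrArg (toK (k := k)) (@h (sp k (R ⊗[k] (A ⊗[k] A))) (pt (a₀ A R)) (pt (b₀ A R)) (pt (r₀ (k := k) A R)))
  rw [pt_mul_pt, toK_mul, toK_ures_lift, toK_ures_lift, toK_ures_lift] at h1
  have h2 := P_cv x y (gl χ)
  have h3 := P_mul x y (gl χ) (gl χ)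
  rw [← h2, ← h3]
  exact congrArg _ h1

theorem phi_one_of_isChar (h : IsChar (sp k A) χ) : Φ k A R (gl χ) 1 = 1 := by
  have h1 := congrArg (toK (k := k) (K := R)) (h.one (pt (AlgHom.id k R)))
  rw [one_eq_pt, toK_ures_lift, toK_one] at h1
  rw [← h1]
  generalize gl χ = g
  induction g using TensorProduct.induction_on with
  | zero => rw [map_zero, Φ_zero]; rfl
  | add g g' h h' => rw [map_add, ← h, ← h', Φ_add, LinearMap.add_apply]
  | tmul r a =>
    rw [Algebra.TensorProduct.lift_tmul, Φ_tmul]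
    have h2 : (1 : CartDual.D k A) a = Coalgebra.counit (R := k) a := by
      rw [CartDual.coe_apply, LinearMap.convOne_def]
      rfl
    rw [h2]
    simp [Algebra.ofId_apply, Algebra.smul_def, mul_comm]

variable (χ) in
/-- The algebra map attached to a character. -/
noncomputable def toAlg (h : IsChar (sp k A) χ) : CartDual.D k A →ₐ[k] R :=
  AlgHom.ofLinearMap (Φ k A R (gl χ)) (phi_one_of_isChar h) (phi_mul_of_isChar h)

theorem toAlg_apply (h : IsChar (sp k A) χ) (x : CartDual.D k A) :
    toAlg χ h x = Φ k A R (gl χ) x := rfl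

/-- The converse. -/
theorem isChar_of_mul [Module.Finite k A] [Module.Free k A]
    (h : ∀ x y : CartDual.D k A, Φ k A R (gl χ) (x * y) = Φ k A R (gl χ) x * Φ k A R (gl χ) y) :
    IsChar (sp k A) χ := by
  have key : Algebra.TensorProduct.lift (r₀ (k := k) A R) (cv (a₀ A R) (b₀ A R)) (fun _ _ ↦ .all _ _) (gl χ) =
      Algebra.TensorProduct.lift (r₀ (k := k) A R) (a₀ A R) (fun _ _ ↦ .all _ _) (gl χ) *
      Algebra.TensorProduct.lift (r₀ (k := k) A R) (b₀ A R) (fun _ _ ↦ .all _ _) (gl χ) :=
    tens_ext fun x y ↦ by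
      have h1 := P_cv (WithConv.toConv x) (WithConv.toConv y) (gl χ)
      have h2 := P_mul (WithConv.toConv x) (WithConv.toConv y) (gl χ) (gl χ)
      exact h1.trans ((h _ _).trans h2.symm)
  rw [← toK_ures_lift, ← toK_ures_lift, ← toK_ures_lift, ← toK_mul, ← pt_mul_pt] at key
  have key2 := toK_inj key
  intro Z n m t
  have e1 : IsIso (io (k := k) (A ⊗[k] A) R) := isIso_io _ _
  have e2 : IsIso (io (k := k) A A) := isIso_io _ _
  let l : Z ⟶ sp k (R ⊗[k] (A ⊗[k] A)) := lift (lift m n ≫ inv (io (k := k) A A)) t ≫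
    inv (io (k := k) (A ⊗[k] A) R)
  have l1 : l ≫ pt (Algebra.TensorProduct.includeRight : A ⊗[k] A →ₐ[k] R ⊗[k] (A ⊗[k] A)) =
      lift m n ≫ inv (io (k := k) A A) := by
    have : pt (Algebra.TensorProduct.includeRight : A ⊗[k] A →ₐ[k] R ⊗[k] (A ⊗[k] A)) =
        io (k := k) (A ⊗[k] A) R ≫ fst _ _ := (lift_fst _ _).symm
    rw [this, Category.assoc, IsIso.inv_hom_id_assoc, lift_fst]
  have l2 : l ≫ pt (r₀ (k := k) A R) = t := by
    have : pt (r₀ (k := k) A R) = io (k := k) (A ⊗[k] A) R ≫ snd _ _ := (lift_snd _ _).symm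
    rw [this, Category.assoc, IsIso.inv_hom_id_assoc, lift_snd]
  have l3 : l ≫ pt (a₀ A R) = n := by
    have : pt (Algebra.TensorProduct.includeLeft : A →ₐ[k] A ⊗[k] A) =
        io (k := k) A A ≫ snd _ _ := (lift_snd _ _).symm
    rw [a₀, pt_comp, ← Category.assoc, l1, this, Category.assoc, IsIso.inv_hom_id_assoc, lift_snd]
  have l4 : l ≫ pt (b₀ A R) = m := by
    have : pt (Algebra.TensorProduct.includeRight : A →ₐ[k] A ⊗[k] A) =
        io (k := k) A A ≫ fst _ _ := (lift_fst _ _).symm
    rw [b₀, pt_comp, ← Category.assoc, l1, this, Category.assoc, IsIso.inv_hom_id_assoc, lift_fst]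
  have key3 := congrArg (fun w ↦ ures l w) key2
  simp only [ures_mul] at key3
  rw [← ures_comp, ← ures_comp, ← ures_comp, comp_lift, comp_lift, comp_lift, MonObj.comp_mul, l2, l3, l4]
    at key3
  exact key3

/-- Every algebra map comes from a character. -/
theorem exists_char_of_algHom [Coalgebra.IsCocomm k A] [Module.Finite k A] [Module.Free k A]
    (β : CartDual.D k A →ₐ[k] R) : ∃ χ : U (sp k A ⊗ sp k R), IsChar (sp k A) χ ∧
      ∀ x, Φ k A R (gl χ) x = β x := by
  obtain ⟨g, hg⟩ := Φ_surjective k A R β.toLinearMap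
  have hg' : ∀ x, Φ k A R g x = β x := fun x => congrArg (fun l => l x) hg
  obtain ⟨g', hg1⟩ := Φ_surjective k A R (β.toLinearMap ∘ₗ HopfAlgebra.antipode k (A := CartDual.D k A))
  have hg1' : ∀ x, Φ k A R g' x = β (HopfAlgebra.antipode k x) := fun x => congrArg (fun l => l x) hg1
  have hmul : g * g' = 1 := by
    apply Φ_injective k A R
    rw [Φ_one]
    ext x
    rw [← mul'_map_Φ k A R g g' (Coalgebra.comul (R := k) x) x
      (fun a b => CartDual.ev₂_coalgebra_comul_tmul k A x a b)]
    have h1 := HopfAlgebra.mul_antipode_lTensor_comul_apply (R := k) (A := CartDual.D k A) x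
    have h2 := congrArg β h1
    rw [AlgHom.commutes] at h2
    refine Eq.trans ?_ h2
    generalize (Coalgebra.comul (R := k) x) = t
    induction t using TensorProduct.induction_on with
    | zero => simp
    | add t t' h h' => simp only [map_add, h, h']
    | tmul y z =>
      rw [TensorProduct.map_tmul, LinearMap.mul'_apply, LinearMap.lTensor_tmul, LinearMap.mul'_apply, map_mul,
        hg', hg1']
  obtain ⟨χ, hχ⟩ := exists_gl hmul
  refine ⟨χ, isChar_of_mul ?_, ?_⟩
  · intro x y
    rw [hχ, hg', hg', hg', map_mul]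
  · intro x
    rw [hχ, hg']

/-- The universal character. -/
theorem exists_cartier (k : Type u) [CommRing k] (A : Type u) [CommRing A] [HopfAlgebra k A] [Coalgebra.IsCocomm k A]
    [Module.Finite k A] [Module.Free k A] :
    ∃ χ₀ : U (sp k A ⊗ sp k (CartDual.D k A)), IsChar (sp k A) χ₀ ∧
      ∀ (R : Type u) [CommRing R] [Algebra k R] (χ : U (sp k A ⊗ sp k R)), IsChar (sp k A) χ →
        ∃! φ : CartDual.D k A →ₐ[k] R, ures (sp k A ◁ pt φ) χ₀ = χ := by
  obtain ⟨χ₀, h0, h1⟩ := exists_char_of_algHom (k := k) (A := A) (AlgHom.id k (CartDual.D k A))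
  refine ⟨χ₀, h0, fun R _ _ χ hχ => ⟨toAlg χ hχ, ?_, ?_⟩⟩
  · apply gl_inj
    apply Φ_injective k A R
    ext x
    rw [gl_pull, Φ_map, h1]
    rfl
  · intro φ hφ
    ext x
    have h2 := congrArg (fun z => Φ k A R (gl z) x) hφ
    simp only [gl_pull, Φ_map, h1] at h2
    exact h2

end char

end K521.RigChar
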