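import Groth.Agent.GrpSch.K521.RigNil

/-!
# Base change of universal characters
-/

set_option autoImplicit false
set_option linter.unusedSectionVars false
universe u

open CategoryTheory CategoryTheory.Limits MonoidalCategory CartesianMonoidalCategory MonObj GrpObj AlgebraicGeometry

noncomputable section

namespace K521.RigCmp

open K270.MB CoactBr K521.RigChar K521.RigMu K521.RigXQ K521.RigPerf K521.RigBun K521.RigFF K521.RigNil

section cm

variable {S S' : Scheme.{u}} (g : S' ⟶ S)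

/-- The comparison of products. -/
def cm (X : Over S) (T : Over S') : (Over.map g).obj (Red.bc g X ⊗ T) ⟶ X ⊗ (Over.map g).obj T :=
  lift (dn g (fst (Red.bc g X) T)) ((Over.map g).map (snd (Red.bc g X) T))

theorem map_cm {X : Over S} {T Z : Over S'} (z : Z ⟶ Red.bc g X ⊗ T) :
    (Over.map g).map z ≫ cm g X T = lift (dn g (z ≫ fst _ _)) ((Over.map g).map (z ≫ snd _ _)) := by
  rw [cm, comp_lift, dn_comp, Functor.map_comp]

theorem map_lift_cm {X : Over S} {T Z : Over S'} (y : Z ⟶ Red.bc g X) (t : Z ⟶ T) :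
    (Over.map g).map (lift y t) ≫ cm g X T = lift (dn g y) ((Over.map g).map t) := by
  rw [map_cm, lift_fst, lift_snd]

theorem exists_of_map {Z T V : Over S'} (z : (Over.map g).obj Z ⟶ (Over.map g).obj V) (s : V ⟶ T) (t : Z ⟶ T)
    (h : z ≫ (Over.map g).map s = (Over.map g).map t) : ∃ z' : Z ⟶ V, (Over.map g).map z' = z := by
  refine ⟨Over.homMk z.left ?_, ?_⟩
  · have h1 : z.left ≫ s.left = t.left := congrArg (fun w => w.left) h
    rw [← Over.w s, ← Category.assoc, h1, Over.w]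
  · ext
    rfl

theorem isIso_cm (X : Over S) (T : Over S') : IsIso (cm g X T) := by
  obtain ⟨T₁, h₁, α, hα⟩ := exists_map g (snd X ((Over.map g).obj T))
  let inv' : X ⊗ (Over.map g).obj T ⟶ (Over.map g).obj (Red.bc g X ⊗ T) :=
    α.inv ≫ (Over.map g).map (lift (upp g (α.hom ≫ fst _ _)) h₁)
  have e1 : inv' ≫ cm g X T = 𝟙 _ := by
    change (α.inv ≫ (Over.map g).map (lift (upp g (α.hom ≫ fst _ _)) h₁)) ≫ cm g X T = _
    rw [Category.assoc, map_lift_cm, dn_upp, ← hα, ← comp_lift, lift_fst_snd, Category.comp_id, α.inv_hom_id]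
  refine ⟨inv', ?_, e1⟩
  have e2 : (cm g X T ≫ inv') ≫ cm g X T = cm g X T := by rw [Category.assoc, e1, Category.comp_id]
  have e3 : (cm g X T ≫ inv') ≫ (Over.map g).map (snd _ _) = (Over.map g).map (snd (Red.bc g X) T) := by
    have h1 : cm g X T ≫ snd _ _ = (Over.map g).map (snd (Red.bc g X) T) := lift_snd _ _
    rw [← h1, ← Category.assoc, e2]
  obtain ⟨z, hz⟩ := exists_of_map g _ _ _ e3
  have hz1 : z = 𝟙 _ := by
    have h2 := e2
    rw [← hz, map_cm] at h2
    ext1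
    · apply dn_inj g
      have h3 := congrArg (fun w => w ≫ fst _ _) h2
      simp only [lift_fst] at h3
      rw [h3, Category.id_comp]
      exact lift_fst _ _
    · have h3 : (Over.map g).map (z ≫ snd _ _) = (Over.map g).map (snd (Red.bc g X) T) := by
        rw [Functor.map_comp, hz, e3]
      rw [Category.id_comp]
      ext
      exact congrArg (fun w => w.left) h3
  rw [← hz, hz1, CategoryTheory.Functor.map_id]

/-- The unit on `bc X × T` of a unit on `X × T`. -/
def cu {X : Over S} {T : Over S'} (w : U (X ⊗ (Over.map g).obj T)) : U (Red.bc g X ⊗ T) :=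
  (ures (cm g X T) w : U ((Over.map g).obj (Red.bc g X ⊗ T)))

theorem ures_cu {X : Over S} {T Z : Over S'} (w : U (X ⊗ (Over.map g).obj T)) (y : Z ⟶ Red.bc g X) (t : Z ⟶ T) :
    ures (lift y t) (cu g w) = (ures (lift (dn g y) ((Over.map g).map t)) w : U ((Over.map g).obj Z)) := by
  rw [ures_map g, cu, ← ures_comp, map_lift_cm]

theorem ures_iso_bij {X Y : Over S} (e : X ⟶ Y) [IsIso e] : Function.Bijective (ures e : U Y → U X) := by
  refine ⟨fun a b h => ?_, fun w => ⟨ures (inv e) w, ?_⟩⟩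
  · have h1 := congrArg (ures (inv e)) h
    rwa [← ures_comp, ← ures_comp, IsIso.inv_hom_id, ures_id, ures_id] at h1
  · rw [← ures_comp, IsIso.hom_inv_id, ures_id]

theorem exists_cu {X : Over S} {T : Over S'} (w' : U (Red.bc g X ⊗ T)) : ∃ w : U (X ⊗ (Over.map g).obj T), cu g w = w' := by
  have := isIso_cm g X T
  exact (ures_iso_bij (cm g X T)).2 w'

theorem isChar_cu {F : Over S} [GrpObj F] {T : Over S'} {w : U (F ⊗ (Over.map g).obj T)} (h : IsChar F w) :
    IsChar (Red.bc g F) (cu g w) := by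
  intro Z n m t
  rw [ures_cu, ures_cu, ures_cu, dn_mul, h]

theorem isChar_of_cu {F : Over S} [GrpObj F] {T : Over S'} {w : U (F ⊗ (Over.map g).obj T)}
    (h : IsChar (Red.bc g F) (cu g w)) : IsChar F w := by
  intro Z n m t
  obtain ⟨Z₁, t₁, α, hα⟩ := exists_map g t
  have h1 := h (upp g (α.hom ≫ n)) (upp g (α.hom ≫ m)) t₁
  rw [ures_cu, ures_cu, ures_cu, dn_mul, dn_upp, dn_upp, ← hα, ← MonObj.comp_mul, ← comp_lift, ← comp_lift,
    ← comp_lift] at h1
  apply (ures_iso_bij α.hom).1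
  rw [map_mul, ← ures_comp, ← ures_comp, ← ures_comp]
  exact h1

theorem triv_cu {F M : Over S} (i : M ⟶ F) {T : Over S'} {w : U (F ⊗ (Over.map g).obj T)}
    (h : ures (i ▷ (Over.map g).obj T) w = 1) : ures ((Over.pullback g).map i ▷ T) (cu g w) = 1 := by
  have h1 : (Over.pullback g).map i ▷ T = lift (fst _ _ ≫ (Over.pullback g).map i) (snd _ _) := by ext1 <;> simp
  rw [h1, ures_cu, dn_map]
  have h2 : lift (dn g (fst (Red.bc g M) T) ≫ i) ((Over.map g).map (snd (Red.bc g M) T)) =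
      lift (dn g (fst (Red.bc g M) T)) ((Over.map g).map (snd (Red.bc g M) T)) ≫ i ▷ (Over.map g).obj T := by
    rw [lift_whiskerRight]
  rw [h2, ures_comp, h, map_one]

theorem triv_of_cu {F M : Over S} (i : M ⟶ F) {T : Over S'} {w : U (F ⊗ (Over.map g).obj T)}
    (h : ures ((Over.pullback g).map i ▷ T) (cu g w) = 1) : ures (i ▷ (Over.map g).obj T) w = 1 := by
  obtain ⟨Z₁, t₁, α, hα⟩ := exists_map g (snd M ((Over.map g).obj T))
  have h1 := congrArg (ures (lift (upp g (α.hom ≫ fst _ _)) t₁)) h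
  rw [← ures_comp, lift_whiskerRight, ures_cu, dn_map, dn_upp, ← hα, Category.assoc, ← comp_lift, map_one] at h1
  have h2 : lift (fst M ((Over.map g).obj T) ≫ i) (snd _ _) = i ▷ (Over.map g).obj T := by ext1 <;> simp
  rw [h2, ures_comp] at h1
  apply (ures_iso_bij α.hom).1
  rw [map_one]
  exact h1

theorem cu_whisker {X : Over S} {T T' : Over S'} (h : T' ⟶ T) (w : U (X ⊗ (Over.map g).obj T)) :
    cu g (ures (X ◁ (Over.map g).map h) w) = ures (Red.bc g X ◁ h) (cu g w) := by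
  have h1 : Red.bc g X ◁ h = lift (fst _ _) (snd _ _ ≫ h) := by ext1 <;> simp
  rw [h1, ures_cu, cu, ← ures_comp, cm, lift_whiskerLeft, Functor.map_comp]

theorem cu_inj {X : Over S} {T : Over S'} {w w' : U (X ⊗ (Over.map g).obj T)} (h : cu g w = cu g w') : w = w' := by
  have := isIso_cm g X T
  exact (ures_iso_bij (cm g X T)).1 h

end cm

section quot

variable {R : Type u} [CommRing R] (I : Ideal R)

/-- `Spec E` over `R` and over `R / I`. -/
def th (E : Type u) [CommRing E] [Algebra R E] [Algebra (R ⧸ I) E] [IsScalarTower R (R ⧸ I) E] :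
    (Over.map (cg I)).obj (sp (R ⧸ I) E) ≅ sp R E :=
  Over.isoMk (Iso.refl _) (by
    change 𝟙 _ ≫ Spec.map (CommRingCat.ofHom (algebraMap R E)) =
      Spec.map (CommRingCat.ofHom (algebraMap (R ⧸ I) E)) ≫ Spec.map (CommRingCat.ofHom (Ideal.Quotient.mk I))
    rw [Category.id_comp, ← Spec.map_comp, ← CommRingCat.ofHom_comp]
    congr 2
    exact IsScalarTower.algebraMap_eq R (R ⧸ I) E)

theorem th_pt {E E' : Type u} [CommRing E] [Algebra R E] [Algebra (R ⧸ I) E] [IsScalarTower R (R ⧸ I) E]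
    [CommRing E'] [Algebra R E'] [Algebra (R ⧸ I) E'] [IsScalarTower R (R ⧸ I) E'] (φ : E →ₐ[R ⧸ I] E') :
    (Over.map (cg I)).map (pt φ) ≫ (th I E).hom = (th I E').hom ≫ pt (φ.restrictScalars R) := by
  ext
  change Spec.map _ ≫ 𝟙 _ = 𝟙 _ ≫ Spec.map _
  rw [Category.comp_id, Category.id_comp]
  rfl

/-- `C / I C` as an algebra over `R / I`. -/
abbrev C0 (C : Type u) [CommRing C] [Algebra R C] : Type u := C ⧸ I.map (algebraMap R C)

variable {F M : Over (Spec (CommRingCat.of R))} [GrpObj F] (i : M ⟶ F)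
  {C : Type u} [CommRing C] [Algebra R C] (κ : U (F ⊗ sp R C))

/-- The map `Spec (C / I C) ⟶ Spec C`. -/
def jC (C : Type u) [CommRing C] [Algebra R C] : (Over.map (cg I)).obj (sp (R ⧸ I) (C0 I C)) ⟶ sp R C :=
  (th I (C0 I C)).hom ≫ pt (Ideal.Quotient.mkₐ R (I.map (algebraMap R C)))

/-- The restriction of a universal unit to the closed fibre. -/
def kap : U (Red.bc (cg I) F ⊗ sp (R ⧸ I) (C0 I C)) := cu (cg I) (ures (F ◁ jC I C) κ)

theorem ures_kap {Z : Over (Spec (CommRingCat.of (R ⧸ I)))} (y : Z ⟶ Red.bc (cg I) F) (t : Z ⟶ sp (R ⧸ I) (C0 I C)) :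
    ures (lift y t) (kap I κ) =
      (ures (lift (dn (cg I) y) ((Over.map (cg I)).map t ≫ jC I C)) κ : U ((Over.map (cg I)).obj Z)) := by
  rw [kap, ures_cu, ← ures_comp, lift_whiskerLeft]

variable {κ}

theorem isChar_kap (h : IsChar F κ) : IsChar (Red.bc (cg I) F) (kap I κ) := isChar_cu (cg I) (h.comp _)

variable {i}

theorem triv_whiskerLeft {S : Scheme.{u}} {F M T T' : Over S} {i : M ⟶ F} {w : U (F ⊗ T)} (h : ures (i ▷ T) w = 1)
    (g : T' ⟶ T) : ures (i ▷ T') (ures (F ◁ g) w) = 1 := by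
  rw [← ures_comp, ← whisker_exchange, ures_comp, h, map_one]

theorem triv_kap (h : ures (i ▷ sp R C) κ = 1) :
    ures ((Over.pullback (cg I)).map i ▷ sp (R ⧸ I) (C0 I C)) (kap I κ) = 1 :=
  triv_cu (cg I) i (triv_whiskerLeft h _)

theorem univ_kap
    (hu : ∀ (E : Type u) [CommRing E] [Algebra R E] (κ' : U (F ⊗ sp R E)), IsChar F κ' → ures (i ▷ sp R E) κ' = 1 →
      ∃! φ : C →ₐ[R] E, ures (F ◁ pt φ) κ = κ')
    (E : Type u) [CommRing E] [Algebra (R ⧸ I) E] (κ' : U (Red.bc (cg I) F ⊗ sp (R ⧸ I) E))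
    (hc : IsChar (Red.bc (cg I) F) κ') (ht : ures ((Over.pullback (cg I)).map i ▷ sp (R ⧸ I) E) κ' = 1) :
    ∃! φ : C0 I C →ₐ[R ⧸ I] E, ures (Red.bc (cg I) F ◁ pt φ) (kap I κ) = κ' := by
  let _ : Algebra R E := ((algebraMap (R ⧸ I) E).comp (Ideal.Quotient.mk I)).toAlgebra
  have htow : IsScalarTower R (R ⧸ I) E := IsScalarTower.of_algebraMap_eq fun _ => rfl
  obtain ⟨w, rfl⟩ := exists_cu (cg I) κ'
  have hw := isChar_of_cu (cg I) hc
  have hwt := triv_of_cu (cg I) i ht
  obtain ⟨φ, hφ, huφ⟩ := hu E (ures (F ◁ (th I E).inv) w) (hw.comp _) (triv_whiskerLeft hwt _)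
  -- the key computation
  have key : ∀ ψ : C0 I C →ₐ[R ⧸ I] E, ures (Red.bc (cg I) F ◁ pt ψ) (kap I κ) =
      cu (cg I) (ures (F ◁ (th I E).hom)
        (ures (F ◁ pt ((ψ.restrictScalars R).comp (Ideal.Quotient.mkₐ R (I.map (algebraMap R C))))) κ)) := by
    intro ψ
    rw [kap, ← cu_whisker, ← ures_comp, ← ures_comp, ← whiskerLeft_comp, ← whiskerLeft_comp, jC, ← Category.assoc, th_pt,
      Category.assoc, ← pt_comp]
  have hk : ∀ a ∈ I.map (algebraMap R C), φ a = 0 := by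
    intro a ha
    have h1 : I.map (algebraMap R C) ≤ RingHom.ker φ := by
      rw [Ideal.map_le_iff_le_comap]
      intro b hb
      rw [Ideal.mem_comap, RingHom.mem_ker, AlgHom.commutes]
      change algebraMap (R ⧸ I) E (Ideal.Quotient.mk I b) = 0
      rw [Ideal.Quotient.eq_zero_iff_mem.2 hb, map_zero]
    exact h1 ha
  let φ₀ : C0 I C →ₐ[R ⧸ I] E :=
    { Ideal.Quotient.lift (I.map (algebraMap R C)) (φ : C →+* E) hk with
      commutes' := fun a => by
        obtain ⟨b, rfl⟩ := Ideal.Quotient.mk_surjective a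
        exact φ.commutes b }
  have hφ₀ : (φ₀.restrictScalars R).comp (Ideal.Quotient.mkₐ R (I.map (algebraMap R C))) = φ := by
    ext x
    rfl
  refine ⟨φ₀, ?_, fun ψ hψ => ?_⟩
  · beta_reduce at hφ ⊢
    rw [key, hφ₀, hφ, ← ures_comp, ← whiskerLeft_comp, Iso.hom_inv_id, whiskerLeft_id, ures_id]
  · beta_reduce at hψ
    rw [key] at hψ
    have h1 := cu_inj (cg I) hψ
    have h2 := congrArg (ures (F ◁ (th I E).inv)) h1
    rw [← ures_comp, ← whiskerLeft_comp, Iso.inv_hom_id, whiskerLeft_id, ures_id] at h2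
    have h3 := huφ _ h2
    ext x
    obtain ⟨b, rfl⟩ := Ideal.Quotient.mk_surjective x
    exact congrArg (fun z : C →ₐ[R] E => z b) (h3.trans hφ₀.symm)

end quot

end K521.RigCmp
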