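import Groth.Agent.GrpSch.K521.RigFF
import Groth.Agent.Sga3B.KerGrp

/-!
# A homomorphism of finite groups over a field through which a faithfully flat morphism lifts is faithfully flat
-/

set_option autoImplicit false
set_option linter.unusedSectionVars false
universe u

open CategoryTheory CategoryTheory.Limits MonoidalCategory CartesianMonoidalCategory MonObj GrpObj AlgebraicGeometry

noncomputable section

namespace K521.RigEC

open K270.MB K521.RigQuot K521.RigPerf K521.RigBun K521.RigFF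

/-- The kernel. -/
theorem exists_ker {S : Scheme.{u}} {G H : Over S} [GrpObj G] [GrpObj H] (φ : G ⟶ H) [IsMonHom φ] [IsSeparated H.hom] :
    ∃ (K : Over S) (_ : GrpObj K) (i : K ⟶ G), IsClSub i ∧
      (∀ {T : Over S} (x : T ⟶ G), Fac i x ↔ x ≫ φ = 1) ∧ IsPullback i (toUnit K) φ η[H] := by
  obtain ⟨gK, hK⟩ := Groth.Agent.Sga3B.KerGrp.exists_grpObj φ
  refine ⟨Groth.Agent.Sga3B.KerGrp.kerObj φ, gK, Groth.Agent.Sga3B.KerGrp.kerι φ, ⟨hK, inferInstance⟩,
    fun x => ⟨?_, fun hx => Groth.Agent.Sga3B.KerGrp.exists_lift φ x hx⟩, Groth.Agent.Sga3B.KerGrp.isPullback_ker φ⟩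
  rintro ⟨y, rfl⟩
  rw [Category.assoc, Groth.Agent.Sga3B.KerGrp.kerι_comp, MonObj.comp_one]

/-- The criterion when the kernel is flat. -/
theorem ff_of_lift_of_flat {S : Scheme.{u}} {K G H : Over S} [GrpObj K] [GrpObj G] [GrpObj H] [IsCommMonObj G]
    [IsFinite G.hom] [Flat G.hom] [LocallyOfFinitePresentation G.hom] (i : K ⟶ G) (hi : IsClSub i) [Flat K.hom]
    [LocallyOfFinitePresentation K.hom] (φ : G ⟶ H) [IsMonHom φ]
    (hk : ∀ {T : Over S} (x : T ⟶ G), Fac i x ↔ x ≫ φ = 1) {T : Over S} (g : T ⟶ H) (hg : IsFF g) (x : T ⟶ G)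
    (hx : x ≫ φ = g) : IsFF φ := by
  have i1 := hi.mon
  have i2 := hi.closed
  obtain ⟨Q, _, _, q, hq, hq1, hq2, hq3, hq4, hkq, hQ1, hQ2, hQ3, hrk⟩ := exists_quot i
  have hqf : IsFF q := ⟨hq1, hq2, inferInstance⟩
  obtain ⟨l, hl, hlm⟩ := exists_desc_hom hqf hkq φ (fun x hx => (hk x).1 hx)
  have hmono := mono_desc hqf hkq φ (fun x hx => (hk x).2 hx) l hl
  have h1 : (x ≫ q) ≫ l = g := by rw [Category.assoc, hl, hx]
  have j1 := hg.flat
  have j2 := hg.surj
  have j3 := hg.qc
  obtain ⟨s, hs⟩ := Groth.Agent.Agf.H584.QBasic.exists_desc g (x ≫ q) (fun {Z} a b hab => by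
    rw [← cancel_mono l, Category.assoc a (x ≫ q) l, Category.assoc b (x ≫ q) l, h1, hab])
  have := hg.epi
  have h2 : s ≫ l = 𝟙 H := by
    rw [← cancel_epi g, ← Category.assoc, hs, h1, Category.comp_id]
  have hiso : IsIso l := ⟨s, by rw [← cancel_mono l, Category.assoc, h2, Category.comp_id, Category.id_comp], h2⟩
  rw [← hl]
  exact (IsFF.of_iso (asIso l)).comp hqf

/-- The criterion over a field. -/
theorem ff_of_lift {k : Type u} [Field k] {G H : Over (Spec (CommRingCat.of k))} [GrpObj G] [GrpObj H]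
    [IsCommMonObj G] [IsFinite G.hom] [IsSeparated H.hom] (φ : G ⟶ H) [IsMonHom φ] {T : Over (Spec (CommRingCat.of k))}
    (g : T ⟶ H) (hg : IsFF g) (x : T ⟶ G) (hx : x ≫ φ = g) : IsFF φ := by
  obtain ⟨K, _, i, hi, hk, -⟩ := exists_ker φ
  have i2 := hi.closed
  have i3 : IsFinite K.hom := by
    have h1 : i.left ≫ G.hom = K.hom := Over.w i
    rw [← h1]
    infer_instance
  have i4 : LocallyOfFinitePresentation G.hom := LocallyOfFinitePresentation.iff_locallyOfFiniteType.2 inferInstance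
  have i5 : LocallyOfFinitePresentation K.hom := LocallyOfFinitePresentation.iff_locallyOfFiniteType.2 inferInstance
  exact ff_of_lift_of_flat i hi φ hk g hg x hx

end K521.RigEC
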