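import Groth.Agent.GrpSch.K521.RigMu2
import Groth.Agent.GrpSch.K521.RigEC

/-!
# The structure of `D n` over a field, when `p ^ c` maps it into `M n`
-/

set_option autoImplicit false
set_option linter.unusedSectionVars false
universe u

open CategoryTheory CategoryTheory.Limits MonoidalCategory CartesianMonoidalCategory MonObj GrpObj AlgebraicGeometry

noncomputable section

namespace K521.RigK1

open K270.MB CoactBr K521.RigQuot K521.RigPerf K521.RigBun K521.RigFF K521.RigMu2 K521.RigEC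

/-- `p ^ c` maps `D n` into `M n`. -/
def HC {S : Scheme.{u}} {p r h : ℕ} (B : Bun S p r h) (c : ℕ) : Prop :=
  ∀ (m : ℕ) {T : Over S} (x : T ⟶ B.A), InD B m x → InM B m (x ^ p ^ c)

section loc

variable {R : Type u} [CommRing R] [IsLocalRing R] [IsNoetherianRing R] {p r h c : ℕ}
  {B : Bun (Spec (CommRingCat.of R)) p r h}

theorem HC.mono (hc : HC B c) {c' : ℕ} (h : c ≤ c') : HC B c' := by
  intro m T x hx
  obtain ⟨j, rfl⟩ := Nat.exists_eq_add_of_le h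
  rw [pow_add, pow_mul]
  exact (hc m x hx).pow _

theorem HC.inM (hc : HC B c) {l n : ℕ} (hcl : c ≤ l) {N : ℕ} (hN : N = n + l) {T : Over (Spec (CommRingCat.of R))}
    {x : T ⟶ B.A} (hx : InD B N x) : InM B n (x ^ p ^ l) := by
  subst hN
  refine (hc.mono hcl _ x hx).down (Nat.le_add_right n l) ?_
  rw [← pow_mul, ← pow_add, add_comm l n]
  exact hx.tors

/-- `D n = D c · M n` locally. -/
theorem exists_dec (hp : 0 < p) (hc : HC B c) {n : ℕ} (hn : c ≤ n) {T : Over (Spec (CommRingCat.of R))} {x : T ⟶ B.A}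
    (hx : InD B n x) : ∃ (T' : Over (Spec (CommRingCat.of R))) (g : T' ⟶ T) (y z : T' ⟶ B.A), IsFF g ∧ InD B c y ∧
      InM B n z ∧ g ≫ x = y * z := by
  obtain ⟨j, hj⟩ := Nat.exists_eq_add_of_le' hn
  have h1 : InM B j (x ^ p ^ c) := hc.inM le_rfl hj hx
  obtain ⟨T', g, z, hg, hz, hz'⟩ := h1.exists_div hp c hj
  refine ⟨T', g, (g ≫ x) * z⁻¹, z, hg, ?_, hz, by rw [inv_mul_cancel_right]⟩
  rw [← inD_iff hp hn]
  · exact (hx.comp g).mul hz.inD.inv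
  · rw [mul_pow, inv_pow, hz', ← MonObj.comp_pow, mul_inv_cancel]

end loc

section tens

variable {S : Scheme.{u}}

theorem isFinite_tensor (X Y : Over S) [IsFinite X.hom] [IsFinite Y.hom] : IsFinite (X ⊗ Y).hom := by
  rw [Over.tensorObj_hom]
  infer_instance

theorem flat_tensor (X Y : Over S) [Flat X.hom] [Flat Y.hom] : Flat (X ⊗ Y).hom := by
  rw [Over.tensorObj_hom]
  infer_instance

theorem isMonHom_mul {X Y Z : Over S} [GrpObj X] [GrpObj Y] [GrpObj Z] [IsCommMonObj Z] (u : X ⟶ Z) (v : Y ⟶ Z)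
    [IsMonHom u] [IsMonHom v] : IsMonHom ((fst X Y ≫ u) * (snd X Y ≫ v)) := by
  apply isMonHom_of_points
  intro T x y
  rw [MonObj.comp_mul, MonObj.comp_mul, MonObj.comp_mul, ← Category.assoc, ← Category.assoc, ← Category.assoc,
    ← Category.assoc, ← Category.assoc, ← Category.assoc, MonObj.mul_comp, MonObj.mul_comp, MonObj.mul_comp,
    MonObj.mul_comp]
  exact _root_.mul_mul_mul_comm _ _ _ _

end tens

section field

variable {k : Type u} [Field k] {p r h c : ℕ} {B : Bun (Spec (CommRingCat.of k)) p r h}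

/-- `D m × M n ⟶ D n` is faithfully flat. -/
theorem exists_phi (hp : 0 < p) (hc : HC B c) {m n : ℕ} (hcm : c ≤ m) (hmn : m ≤ n) :
    ∃ φ : B.D m ⊗ B.M n ⟶ B.D n, φ ≫ B.d n ≫ B.f n = (fst _ _ ≫ B.d m ≫ B.f m) * (snd _ _ ≫ B.i n ≫ B.f n) ∧
      IsFF φ := by
  have h1 : InD B n (fst (B.D m) (B.M n) ≫ B.d m ≫ B.f m) := by
    have h2 : InD B m (fst (B.D m) (B.M n) ≫ B.d m ≫ B.f m) := ⟨_, rfl⟩
    exact (inD_iff hp hmn h2.tors).2 h2
  have h2 : InD B n (snd (B.D m) (B.M n) ≫ B.i n ≫ B.f n) := InM.inD ⟨_, rfl⟩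
  obtain ⟨φ, hφ⟩ := h1.mul h2
  have i1 := isMonHom_mul (B.d m ≫ B.f m) (B.i n ≫ B.f n)
  have i2 : IsMonHom φ := isMonHom_of_comp_mono φ (B.d n ≫ B.f n) _ hφ
  have i3 := isFinite_tensor (B.D m) (B.M n)
  refine ⟨φ, hφ, ?_⟩
  obtain ⟨T', g, y, z, hg, hy, hz, hx⟩ := exists_dec hp hc (hcm.trans hmn) (x := B.d n ≫ B.f n) ⟨𝟙 _, Category.id_comp _⟩
  have hy' : InD B m y := (inD_iff hp hcm hy.tors).2 hy
  obtain ⟨y', rfl⟩ := hy'
  obtain ⟨z', rfl⟩ := hz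
  refine ff_of_lift φ g hg (lift y' z') ?_
  rw [← cancel_mono (B.d n ≫ B.f n), hx, Category.assoc, hφ, MonObj.comp_mul, lift_fst_assoc, lift_snd_assoc]

/-- `p ^ l : D n ⟶ M (n - l)` is faithfully flat. -/
theorem exists_rho (hp : 0 < p) (hc : HC B c) {n l N : ℕ} (hcl : c ≤ l) (hN : N = n + l) :
    ∃ ρ : B.D N ⟶ B.M n, ρ ≫ B.i n ≫ B.f n = (B.d N ≫ B.f N) ^ p ^ l ∧ IsFF ρ := by
  obtain ⟨ρ, hρ⟩ := hc.inM hcl hN (x := B.d N ≫ B.f N) ⟨𝟙 _, Category.id_comp _⟩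
  have i1 : IsMonHom ((B.d N ≫ B.f N) ^ p ^ l) := isMonHom_pow _ _
  have i2 : IsMonHom ρ := isMonHom_of_comp_mono ρ (B.i n ≫ B.f n) _ hρ
  refine ⟨ρ, hρ, ?_⟩
  have h1 : InM B n (B.i n ≫ B.f n) := ⟨𝟙 _, Category.id_comp _⟩
  obtain ⟨T', g, z, hg, hz, hx⟩ := h1.exists_div hp l hN
  obtain ⟨z', hz'⟩ := hz.inD
  refine ff_of_lift ρ g hg z' ?_
  rw [← cancel_mono (B.i n ≫ B.f n), Category.assoc, hρ, ← hx, MonObj.comp_pow, hz']

end field

end K521.RigK1
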