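import Groth.Agent.GrpSch.K521.RigEC
import Groth.Agent.S17795
import Groth.Agent.S9850
import Groth.Agent.Synt.K563.SchNhd

/-!
# The torsor of the points which represent a given character
-/

set_option autoImplicit false
set_option linter.unusedSectionVars false
universe u

open CategoryTheory CategoryTheory.Limits MonoidalCategory CartesianMonoidalCategory MonObj GrpObj AlgebraicGeometry

noncomputable section

namespace K521.RigV

open K270.MB CoactBr K521.RigChar K521.RigQuot K521.RigPerf K521.RigBun K521.RigFF K521.RigEC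

/-- Descent of a character along a quotient. -/
theorem exists_desc_char {S : Scheme.{u}} {K G Q : Over S} [GrpObj K] [GrpObj G] [GrpObj Q] {i : K ⟶ G} {q : G ⟶ Q}
    [IsMonHom q] (hq : IsFF q) (hk : ∀ {T : Over S} (x : T ⟶ G), Fac i x ↔ x ≫ q = 1) {T : Over S} (κ : U (G ⊗ T))
    (hκ : IsChar G κ) (hi : ures (i ▷ T) κ = 1) : ∃ κ' : U (Q ⊗ T), ures (q ▷ T) κ' = κ ∧ IsChar Q κ' := by
  have hval : ∀ {Z : Over S} (z : Z ⟶ K) (t : Z ⟶ T), ures (lift (z ≫ i) t) κ = 1 := by
    intro Z z t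
    have h1 : lift (z ≫ i) t = lift z t ≫ i ▷ T := by rw [lift_whiskerRight]
    rw [h1, ures_comp, hi, map_one]
  obtain ⟨κ', hκ'⟩ := (hq.whiskerRight T).desc κ (fun {Z} a b hab => by
    have h1 : (a ≫ fst _ _) ≫ q = (b ≫ fst _ _) ≫ q := by
      have := congrArg (fun z => z ≫ fst Q T) hab
      simpa using this
    have h2 : a ≫ snd _ _ = b ≫ snd _ _ := by
      have := congrArg (fun z => z ≫ snd Q T) hab
      simpa using this
    have ha : a = lift (a ≫ fst _ _) (a ≫ snd _ _) := by ext1 <;> simp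
    have hb : b = lift ((a ≫ fst _ _) * ((a ≫ fst _ _)⁻¹ * (b ≫ fst _ _))) (a ≫ snd _ _) := by
      rw [mul_inv_cancel_left]
      ext1
      · simp
      · simp [h2]
    obtain ⟨z, hz⟩ := (comp_eq_iff hk _ _).1 h1
    rw [hb, hκ, ← hz, hval, _root_.mul_one, ← ha])
  refine ⟨κ', hκ', ?_⟩
  intro Z n m t
  obtain ⟨Z₁, g₁, n', hg₁, hn⟩ := hq.exists_lift n
  obtain ⟨Z₂, g₂, m', hg₂, hm⟩ := hq.exists_lift (g₁ ≫ m)
  have hff : IsFF (g₂ ≫ g₁) := hg₁.comp hg₂
  apply hff.injective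
  rw [map_mul, ← ures_comp, ← ures_comp, ← ures_comp, comp_lift, comp_lift, comp_lift, MonObj.comp_mul]
  have e1 : (g₂ ≫ g₁) ≫ n = (g₂ ≫ n') ≫ q := by simp [hn]
  have e2 : (g₂ ≫ g₁) ≫ m = m' ≫ q := by simp [hm]
  have e3 : ∀ (y : Z₂ ⟶ G) (t : Z₂ ⟶ T), ures (lift (y ≫ q) t) κ' = ures (lift y t) κ := by
    intro y t
    rw [← hκ', ← ures_comp, lift_whiskerRight]
  rw [e1, e2, ← MonObj.mul_comp, e3, e3, e3, hκ]

variable {k : Type u} [Field k]

/-- The torsor of points representing the character `κ`. -/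
theorem exists_V {G D Q : Over (Spec (CommRingCat.of k))} [GrpObj G] [GrpObj D] [GrpObj Q] {d : D ⟶ G} {q : G ⟶ Q}
    {e : Pairing G G} [IsCommMonObj Q] [IsFinite G.hom] [IsFinite Q.hom] [LocallyOfFinitePresentation q.left]
    (h : Dat e d q) (C : Type u) [CommRing C] [Algebra k C] (κ : U (G ⊗ sp k C)) (hκ : IsChar G κ)
    (hd : ures (d ▷ sp k C) κ = 1) :
    ∃ (V : Over (Spec (CommRingCat.of k))) (a : V ⟶ G) (t : V ⟶ sp k C), IsFF t ∧ Synt.IsSyntomicMor t.left ∧
      IsAffine V.left ∧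
      (∀ {Z : Over (Spec (CommRingCat.of k))} (v : Z ⟶ V) (y : Z ⟶ G), ures (lift y (v ≫ t)) κ = e.e (v ≫ a) y) ∧
      ∀ {Z : Over (Spec (CommRingCat.of k))} (a' : Z ⟶ G) (ψ : Z ⟶ sp k C),
        (∀ {Z' : Over (Spec (CommRingCat.of k))} (z : Z' ⟶ Z) (y : Z' ⟶ G),
          ures (lift y (z ≫ ψ)) κ = e.e (z ≫ a') y) → ∃! v : Z ⟶ V, v ≫ t = ψ ∧ v ≫ a = a' := by
  have := h.mon
  obtain ⟨ε, hε⟩ := h.exists_eps
  obtain ⟨κ', hκ', hκc⟩ := exists_desc_char h.ff h.ker κ hκ hd
  obtain ⟨b, hb⟩ := perfect h hε C κ' hκc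
  have sq := IsPullback.of_hasPullback q b
  have hsyn : Synt.IsSyntomicMor q.left := by
    have j1 := h.ff.flat
    have j2 := h.ff.surj
    have hw : q.left ≫ Q.hom = G.hom := Over.w q
    have hfp : LocallyOfFinitePresentation G.hom := LocallyOfFinitePresentation.iff_locallyOfFiniteType.2 inferInstance
    exact (Groth.Agent.S9850.result q.left Q.hom (by
      rw [hw]
      exact Groth.Agent.S17795.result k G)).2
  have sq' := Groth.Agent.Books.AffBridge2.left_of_isPullback sq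
  have e3 : ∀ {Z : Over (Spec (CommRingCat.of k))} (y : Z ⟶ G) (t : Z ⟶ sp k C),
      ures (lift (y ≫ q) (t ≫ b)) ε = ures (lift y t) κ := by
    intro Z y t
    rw [← hκ', ← ures_comp, lift_whiskerRight, ← hb, ← ures_comp, lift_whiskerLeft]
  refine ⟨pullback q b, pullback.fst q b, pullback.snd q b, h.ff.of_isPullback sq,
    K563.SchDict2.isSyntomicMor_of_isPullback sq' hsyn, ?_, ?_, ?_⟩
  · have h1 : IsFinite q.left := by
      have hw : q.left ≫ Q.hom = G.hom := Over.w q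
      have h2 : IsFinite (q.left ≫ Q.hom) := by rw [hw]; infer_instance
      exact IsFinite.of_comp q.left Q.hom
    have h2 : IsFinite (pullback.snd q b).left := MorphismProperty.of_isPullback (P := @IsFinite) sq' h1
    have h3 : IsAffine (sp k C).left := inferInstanceAs (IsAffine (Spec (CommRingCat.of C)))
    exact isAffine_of_isAffineHom (pullback.snd q b).left
  · intro Z v y
    rw [← e3, ← hε, Category.assoc, Category.assoc, sq.w]
  · intro Z a' ψ hψ
    have h1 : a' ≫ q = ψ ≫ b := by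
      apply eps_inj h hε
      apply (h.ff.whiskerRight Z).injective
      rw [← ures_comp, ← ures_comp]
      have f1 : ∀ w : Z ⟶ Q, q ▷ Z ≫ Q ◁ w = lift (fst G Z ≫ q) (snd G Z ≫ w) := by
        intro w
        ext1 <;> simp
      rw [f1, f1, ← Category.assoc (snd G Z) a' q, hε, ← Category.assoc (snd G Z) ψ b, e3]
      exact (hψ (snd G Z) (fst G Z)).symm
    refine ⟨sq.lift a' ψ h1, ⟨sq.lift_snd _ _ _, sq.lift_fst _ _ _⟩, fun v hv => ?_⟩
    apply sq.hom_ext
    · rw [hv.2, sq.lift_fst]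
    · rw [hv.1, sq.lift_snd]

end K521.RigV
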