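import Groth.Agent.GrpSch.K521.RigK1
import Groth.Agent.GrpSch.K521.RigV

/-!
# The scheme `V` over the closed fibre
-/

set_option autoImplicit false
set_option linter.unusedSectionVars false
universe u

open CategoryTheory CategoryTheory.Limits MonoidalCategory CartesianMonoidalCategory MonObj GrpObj AlgebraicGeometry

noncomputable section

namespace K521.RigK2

open K270.MB CoactBr K521.RigChar K521.RigMu K521.RigXQ K521.RigQuot K521.RigPerf K521.RigBun K521.RigFF K521.RigMu2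
  K521.RigEC K521.RigK1 K521.RigV

theorem pair_pow_left {S : Scheme.{u}} {X Y : Over S} [GrpObj X] [GrpObj Y] (e : Pairing X Y) {T : Over S}
    (x : T ⟶ X) (y : T ⟶ Y) (n : ℕ) : e.e (x ^ n) y = e.e x y ^ n := by
  induction n with
  | zero =>
    rw [_root_.pow_zero, _root_.pow_zero]
    have h := e.mul_left 1 1 y
    rw [_root_.mul_one] at h
    exact mul_eq_left.1 h.symm
  | succ n ih => rw [_root_.pow_succ, _root_.pow_succ, e.mul_left, ih]

theorem pair_pow_right {S : Scheme.{u}} {X Y : Over S} [GrpObj X] [GrpObj Y] (e : Pairing X Y) {T : Over S}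
    (x : T ⟶ X) (y : T ⟶ Y) (n : ℕ) : e.e x (y ^ n) = e.e x y ^ n := by
  induction n with
  | zero =>
    rw [_root_.pow_zero, _root_.pow_zero]
    have h := e.mul_right x 1 1
    rw [_root_.mul_one] at h
    exact mul_eq_left.1 h.symm
  | succ n ih => rw [_root_.pow_succ, _root_.pow_succ, e.mul_right, ih]

variable {k : Type u} [Field k] {p r h c : ℕ} {B : Bun (Spec (CommRingCat.of k)) p r h}

/-- A unit on `N × T` is trivial on points of a subobject. -/
theorem ures_of_whisker {S : Scheme.{u}} {K G T : Over S} {i : K ⟶ G} {κ : U (G ⊗ T)} (hi : ures (i ▷ T) κ = 1)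
    {Z : Over S} (x : Z ⟶ G) (hx : Fac i x) (t : Z ⟶ T) : ures (lift x t) κ = 1 := by
  obtain ⟨z, rfl⟩ := hx
  have h1 : lift (z ≫ i) t = lift z t ≫ i ▷ T := by rw [lift_whiskerRight]
  rw [h1, ures_comp, hi, map_one]

/-- The main construction on the closed fibre. -/
theorem exists_W (hp : 0 < p) (hc : HC B c) {Q m N : ℕ} (hN : N = Q + m) (hcm : c ≤ m)
    (pm : B.F N ⟶ B.F Q) (hpm : pm ≫ B.f Q = B.f N ^ p ^ m)
    (C : Type u) [CommRing C] [Algebra k C] (κ₀ : U (B.F Q ⊗ sp k C)) (h0 : IsChar (B.F Q) κ₀)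
    (h0M : ures (B.i Q ▷ sp k C) κ₀ = 1)
    (hu : ∀ (E : Type u) [CommRing E] [Algebra k E] (κ' : U (B.F Q ⊗ sp k E)), IsChar (B.F Q) κ' →
      ures (B.i Q ▷ sp k E) κ' = 1 → ∃! φ : C →ₐ[k] E, ures (B.F Q ◁ pt φ) κ₀ = κ') :
    ∃ (V : Over (Spec (CommRingCat.of k))) (a : V ⟶ B.F N) (t : V ⟶ sp k C) (x : V ⟶ B.D m),
      Synt.IsSyntomicMor t.left ∧ IsAffine V.left ∧
      (∀ {Z : Over (Spec (CommRingCat.of k))} (v : Z ⟶ V) (y : Z ⟶ B.F N),
        ures (lift (y ≫ pm) (v ≫ t)) κ₀ = (B.e N).e (v ≫ a) y) ∧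
      x ≫ B.d m ≫ B.f m = (a ≫ B.f N) ^ p ^ Q ∧ IsFF x := by
  -- the two powers
  obtain ⟨pm', hpm1, hpm2, hpmff⟩ := exists_q' B hp (n := Q) m hN
  obtain rfl : pm' = pm := by rw [← cancel_mono (B.f Q), hpm2, hpm]
  have hN2 : N = m + Q := hN.trans (add_comm _ _)
  obtain ⟨pQ, hpQ1, hpQ2, hpQff⟩ := exists_q' B hp (n := m) Q hN2
  obtain ⟨u, hu1, hu2⟩ := exists_inc B (m := m) (n := N) (by omega)
  have hkpm : ∀ {T : Over (Spec (CommRingCat.of k))} (x : T ⟶ B.F N), Fac u x ↔ x ≫ pm' = 1 := by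
    intro T x
    have h1 : x ≫ pm' = 1 ↔ (x ≫ B.f N) ^ p ^ m = 1 := by
      rw [← cancel_mono (B.f Q), Category.assoc, hpm, MonObj.one_comp, MonObj.comp_pow]
    rw [h1, ← fac_f]
    constructor
    · rintro ⟨y, rfl⟩
      exact ⟨y, by rw [Category.assoc, hu1]⟩
    · rintro ⟨y, hy⟩
      refine ⟨y, ?_⟩
      rw [← cancel_mono (B.f N), Category.assoc, hu1, hy]
  have hptD : ∀ {T : Over (Spec (CommRingCat.of k))} (x : T ⟶ B.F N), Fac (B.d N) x ↔ InD B N (x ≫ B.f N) := by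
    intro T x
    constructor
    · rintro ⟨z, rfl⟩
      exact ⟨z, by rw [Category.assoc]⟩
    · rintro ⟨z, hz⟩
      exact ⟨z, by rw [← cancel_mono (B.f N), Category.assoc, hz]⟩
  have hptM : ∀ {T : Over (Spec (CommRingCat.of k))} (x : T ⟶ B.F Q), InM B Q (x ≫ B.f Q) → Fac (B.i Q) x := by
    rintro T x ⟨z, hz⟩
    exact ⟨z, by rw [← cancel_mono (B.f Q), Category.assoc, hz]⟩
  -- the quotient by the radical
  have i4 : LocallyOfFinitePresentation (B.F N).hom := LocallyOfFinitePresentation.iff_locallyOfFiniteType.2 inferInstance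
  have i5 : LocallyOfFinitePresentation (B.D N).hom := LocallyOfFinitePresentation.iff_locallyOfFiniteType.2 inferInstance
  obtain ⟨Qt, _, _, q, hq, hq1, hq2, hq3, hq4, hkq, hQ1, hQ2, hQ3, -⟩ := exists_quot (B.d N)
  have hqf : IsFF q := ⟨hq1, hq2, inferInstance⟩
  have hDat : Dat (B.e N) (B.d N) q := ⟨B.anti N, B.rad N, hq, hqf, hkq⟩
  -- the character on `F N`
  let κ : U (B.F N ⊗ sp k C) := ures (pm' ▷ sp k C) κ₀
  have hκ : IsChar (B.F N) κ := isChar_whiskerRight pm' h0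
  have hκv : ∀ {Z : Over (Spec (CommRingCat.of k))} (y : Z ⟶ B.F N) (t : Z ⟶ sp k C),
      ures (lift y t) κ = ures (lift (y ≫ pm') t) κ₀ := by
    intro Z y t
    rw [← ures_comp, lift_whiskerRight]
  have hd : ures (B.d N ▷ sp k C) κ = 1 := by
    have h1 : B.d N ▷ sp k C = lift (fst _ _ ≫ B.d N) (snd _ _) := by ext1 <;> simp
    rw [h1, hκv]
    apply ures_of_whisker h0M
    apply hptM
    have h2 : ((fst (B.D N) (sp k C) ≫ B.d N) ≫ pm') ≫ B.f Q = (fst (B.D N) (sp k C) ≫ B.d N ≫ B.f N) ^ p ^ m := by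
      rw [Category.assoc, hpm, MonObj.comp_pow, Category.assoc]
    rw [h2]
    exact hc.inM hcm hN ⟨_, rfl⟩
  obtain ⟨V, a, t, htff, htsyn, hVaff, hV1, hV2⟩ := exists_V hDat C κ hκ hd
  have hV1' : ∀ {Z : Over (Spec (CommRingCat.of k))} (v : Z ⟶ V) (y : Z ⟶ B.F N),
      ures (lift (y ≫ pm') (v ≫ t)) κ₀ = (B.e N).e (v ≫ a) y := by
    intro Z v y
    rw [← hκv, hV1]
  -- `p ^ Q a` lies in `D m`
  have hkill : ∀ {Z : Over (Spec (CommRingCat.of k))} (y : Z ⟶ B.F Q) (t : Z ⟶ sp k C),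
      ures (lift y t) κ₀ ^ p ^ Q = 1 := by
    intro Z y t
    rw [← h0.pow, pow_F, h0.one]
  have hx0 : InD B m ((a ≫ B.f N) ^ p ^ Q) := by
    rw [← inD_iff hp (n := m) (N := N) (by omega)]
    · rw [← MonObj.pow_comp, ← hptD, B.rad]
      intro T' g y
      rw [MonObj.comp_pow, pair_pow_left, ← hV1', hkill]
    · rw [← pow_mul, ← pow_add, add_comm Q m, ← hN2]
      exact pow_f B N a
  obtain ⟨x, hx⟩ := hx0
  refine ⟨V, a, t, x, htsyn, hVaff, hV1', hx, ?_⟩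
  -- comparison with the pullback
  have sq := IsPullback.of_hasPullback pQ (B.d m)
  let W : Over (Spec (CommRingCat.of k)) := pullback pQ (B.d m)
  let aW : W ⟶ B.F N := pullback.fst pQ (B.d m)
  let xW : W ⟶ B.D m := pullback.snd pQ (B.d m)
  have hxWff : IsFF xW := hpQff.of_isPullback sq
  have hWaff : IsAffine W.left := by
    have sq' := Groth.Agent.Books.AffBridge2.left_of_isPullback sq
    have j1 : IsAffine (B.F N).left := isAffine_of_isAffineHom (B.F N).hom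
    have j2 : IsClosedImmersion aW.left :=
      MorphismProperty.of_isPullback (P := @IsClosedImmersion) sq'.flip (inferInstanceAs (IsClosedImmersion (B.d m).left))
    exact isAffine_of_isAffineHom aW.left
  have hW : xW ≫ B.d m ≫ B.f m = (aW ≫ B.f N) ^ p ^ Q := by
    rw [← Category.assoc]
    change (pullback.snd pQ (B.d m) ≫ B.d m) ≫ B.f m = _
    rw [← sq.w, Category.assoc, hpQ2, MonObj.comp_pow]
  -- the character of `W`
  let κW : U (B.F N ⊗ W) := (B.e N).e (snd (B.F N) W ≫ aW) (fst (B.F N) W)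
  have hκWv : ∀ {Z : Over (Spec (CommRingCat.of k))} (y : Z ⟶ B.F N) (w : Z ⟶ W),
      ures (lift y w) κW = (B.e N).e (w ≫ aW) y := by
    intro Z y w
    rw [← (B.e N).nat, lift_snd_assoc, lift_fst]
  have hκWc : IsChar (B.F N) κW := by
    intro Z y y' w
    rw [hκWv, hκWv, hκWv, (B.e N).mul_right]
  have hWD : InD B N ((aW ≫ B.f N) ^ p ^ Q) := by
    rw [← hW]
    have h1 : InD B m (xW ≫ B.d m ≫ B.f m) := ⟨_, rfl⟩
    exact (inD_iff hp (by omega) h1.tors).2 h1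
  have hκWu : ures (u ▷ W) κW = 1 := by
    have h1 : u ▷ W = lift (fst _ _ ≫ u) (snd _ _) := by ext1 <;> simp
    rw [h1, hκWv]
    obtain ⟨T', g, y', hg, hy'⟩ := hpQff.exists_lift (fst (B.F m) W)
    apply hg.injective
    rw [map_one, ← (B.e N).nat]
    have h2 : g ≫ fst (B.F m) W ≫ u = y' ^ p ^ Q := by
      rw [← cancel_mono (B.f N), Category.assoc, Category.assoc, hu1, ← Category.assoc, ← hy', Category.assoc, hpQ2,
        MonObj.comp_pow, MonObj.pow_comp]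
    rw [h2, pair_pow_right, ← pair_pow_left]
    have h3 : Fac (B.d N) ((g ≫ snd (B.F m) W ≫ aW) ^ p ^ Q) := by
      rw [hptD, MonObj.pow_comp, Category.assoc, Category.assoc, ← MonObj.comp_pow, ← MonObj.comp_pow]
      exact (hWD.comp (snd (B.F m) W)).comp g
    exact hDat.left _ h3 _
  obtain ⟨κW', hκW', hκWc'⟩ := exists_desc_char hpmff hkpm κW hκWc hκWu
  have hκWv' : ∀ {Z : Over (Spec (CommRingCat.of k))} (y : Z ⟶ B.F N) (w : Z ⟶ W),
      ures (lift (y ≫ pm') w) κW' = (B.e N).e (w ≫ aW) y := by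
    intro Z y w
    rw [← hκWv, ← hκW', ← ures_comp, lift_whiskerRight]
  have hκWM : ures (B.i Q ▷ W) κW' = 1 := by
    have h1 : B.i Q ▷ W = lift (fst _ _ ≫ B.i Q) (snd _ _) := by ext1 <;> simp
    rw [h1]
    obtain ⟨T', g, z, hg, ⟨z', hz'⟩, hzz⟩ := InM.exists_div hp m hN (x := fst (B.M Q) W ≫ B.i Q ≫ B.f Q) ⟨_, rfl⟩
    apply hg.injective
    rw [map_one, ← ures_comp, comp_lift]
    have h2 : g ≫ fst (B.M Q) W ≫ B.i Q = (z' ≫ B.i N) ≫ pm' := by
      rw [← cancel_mono (B.f Q), Category.assoc, Category.assoc, ← hzz, ← hz', Category.assoc, hpm,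
        MonObj.comp_pow, Category.assoc]
    rw [h2, hκWv']
    exact hDat.right _ ((hptD _).2 (InM.inD ⟨z', by rw [Category.assoc]⟩)) _
  -- the point of `X_Q` over `W`
  obtain ⟨E, _, _, ⟨j⟩⟩ := exists_sp W
  obtain ⟨φ, hφ, -⟩ := hu E (ures (B.F Q ◁ j.hom) κW') (hκWc'.comp _) (by
    rw [← ures_comp, ← whisker_exchange, ures_comp, hκWM, map_one])
  let ψ : W ⟶ sp k C := j.inv ≫ pt φ
  have hψ : ures (B.F Q ◁ ψ) κ₀ = κW' := by
    rw [whiskerLeft_comp, ures_comp, hφ, ← ures_comp, ← whiskerLeft_comp, j.inv_hom_id, whiskerLeft_id, ures_id]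
  have hψv : ∀ {Z : Over (Spec (CommRingCat.of k))} (y : Z ⟶ B.F Q) (z : Z ⟶ W),
      ures (lift y (z ≫ ψ)) κ₀ = ures (lift y z) κW' := by
    intro Z y z
    rw [← hψ, ← ures_comp, lift_whiskerLeft]
  obtain ⟨v, ⟨hv1, hv2⟩, -⟩ := hV2 aW ψ (fun {Z'} z y => by rw [hκv, hψv, hκWv'])
  let w : V ⟶ W := sq.lift a x (by
    rw [← cancel_mono (B.f m), Category.assoc, hpQ2, Category.assoc, hx, MonObj.comp_pow])
  have hw1 : w ≫ aW = a := sq.lift_fst _ _ _
  have hw2 : w ≫ xW = x := sq.lift_snd _ _ _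
  -- `w ≫ ψ = t`
  have hwψ : w ≫ ψ = t := by
    obtain ⟨E', _, _, ⟨j'⟩⟩ := exists_sp V
    obtain ⟨φ₁, hφ₁⟩ := exists_pt (j'.hom ≫ w ≫ ψ)
    obtain ⟨φ₂, hφ₂⟩ := exists_pt (j'.hom ≫ t)
    have h1 : ures (B.F Q ◁ (w ≫ ψ)) κ₀ = ures (B.F Q ◁ t) κ₀ := by
      apply (hpmff.whiskerRight V).injective
      rw [← ures_comp, ← ures_comp]
      have f1 : ∀ z : V ⟶ sp k C, pm' ▷ V ≫ B.F Q ◁ z = lift (fst _ _ ≫ pm') (snd (B.F N) V ≫ z) := by
        intro z
        ext1 <;> simp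
      rw [f1, f1, hV1', ← Category.assoc (snd (B.F N) V) w ψ, hψv, hκWv', Category.assoc, hw1]
    have h2 : φ₁ = φ₂ := by
      refine (hu E' (ures (B.F Q ◁ (j'.hom ≫ t)) κ₀) (h0.comp _) ?_).unique ?_ ?_
      · rw [← ures_comp, ← whisker_exchange, ures_comp, h0M, map_one]
      · rw [hφ₁, whiskerLeft_comp, ures_comp, h1, ← ures_comp, ← whiskerLeft_comp]
      · rw [hφ₂]
    rw [← cancel_epi j'.hom, ← hφ₁, ← hφ₂, h2]
  have hwv : w ≫ v = 𝟙 V := by
    refine (hV2 a t (fun {Z'} z y => hV1 z y)).unique ⟨?_, ?_⟩ ⟨Category.id_comp _, Category.id_comp _⟩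
    · rw [Category.assoc, hv1, hwψ]
    · rw [Category.assoc, hv2, hw1]
  have hvw : v ≫ w = 𝟙 W := by
    apply sq.hom_ext
    · change (v ≫ w) ≫ aW = 𝟙 W ≫ aW
      rw [Category.assoc, hw1, hv2, Category.id_comp]
    · change (v ≫ w) ≫ xW = 𝟙 W ≫ xW
      rw [Category.assoc, hw2, Category.id_comp, ← cancel_mono (B.d m ≫ B.f m), Category.assoc, hx, hW, MonObj.comp_pow,
        ← Category.assoc, hv2]
  have hiso : IsIso w := ⟨v, hwv, hvw⟩
  rw [← hw2]
  exact hxWff.comp (IsFF.of_iso (asIso w))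

end K521.RigK2
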