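import Groth.Agent.GrpSch.K521.RigLift

/-!
# Flatness of `D n` over an Artinian base for large `n`: the main argument
-/

set_option autoImplicit false
set_option linter.unusedSectionVars false
universe u

open CategoryTheory CategoryTheory.Limits MonoidalCategory CartesianMonoidalCategory MonObj GrpObj AlgebraicGeometry

noncomputable section

namespace K521.RigLarge

open K270.MB CoactBr K521.RigChar K521.RigMu K521.RigXQ K521.RigQuot K521.RigPerf K521.RigBun K521.RigFF K521.RigMu2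
  K521.RigEC K521.RigK1 K521.RigV K521.RigK2 K521.RigNil K521.RigCmp K521.RigLift0 K521.RigLift

variable {R : Type u} [CommRing R] [IsLocalRing R] [IsNoetherianRing R] {s p r h c : ℕ}

theorem flat_sp {R : Type u} [CommRing R] {A' : Type u} [CommRing A'] [Algebra R A'] [Module.Flat R A'] :
    Flat (sp R A').hom := by
  have h4 : Flat (Spec.map (CommRingCat.ofHom (algebraMap R A'))) := by
    rw [Flat.SpecMap_iff]
    exact (RingHom.flat_algebraMap_iff (R := R) (S := A')).mpr inferInstance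
  exact h4

theorem isAffine_tensor {R : Type u} [CommRing R] (X Y : Over (Spec (CommRingCat.of R))) [IsAffine X.left]
    [IsAffine Y.left] : IsAffine (X ⊗ Y).left := by
  have h : IsAffine (pullback X.hom Y.hom) := inferInstance
  exact h

section core

variable {R : Type u} [CommRing R] {I : Ideal R} {A' : Type u} [CommRing A'] [Algebra R A'] {A₀ : Type u} [CommRing A₀]
  [Algebra R A₀] [Algebra (R ⧸ I) A₀] [IsScalarTower R (R ⧸ I) A₀] {V : Over (Spec (CommRingCat.of (R ⧸ I)))}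
  (j : sp (R ⧸ I) A₀ ≅ V) (ρ : A' →ₐ[R] A₀)

/-- The closed immersion of `V` into the lift. -/
def sV : (Over.map (cg I)).obj V ⟶ sp R A' := (Over.map (cg I)).map j.inv ≫ (th I A₀).hom ≫ pt ρ

theorem sV_eq : sV j ρ = dn (cg I) (j.inv ≫ upp (cg I) ((th I A₀).hom ≫ pt ρ)) := by
  rw [dn_comp, dn_upp, sV]

theorem exists_pt_V (hρ : Function.Surjective ρ) (hk : RingHom.ker ρ = I.map (algebraMap R A'))
    {Z : Over (Spec (CommRingCat.of (R ⧸ I)))} (w : (Over.map (cg I)).obj Z ⟶ sp R A') :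
    ∃ v : Z ⟶ V, (Over.map (cg I)).map v ≫ sV j ρ = w := by
  have := isIso_omega I ρ hρ hk
  refine ⟨upp (cg I) w ≫ inv (upp (cg I) ((th I A₀).hom ≫ pt ρ)) ≫ j.hom, ?_⟩
  rw [sV_eq, ← dn_comp, Category.assoc, Category.assoc, Iso.hom_inv_id_assoc, IsIso.inv_hom_id, Category.comp_id, dn_upp]

end core

/-- The point of `F n` over the lift. -/
theorem exists_a {s : ℕ} {R : Type u} [CommRing R] {I : Ideal R} (hI : I ^ (s + 1) = ⊥) (hp : (p : R) ∈ I)
    (B : Bun (Spec (CommRingCat.of R)) p r h) (hA : Smooth B.A.hom) {m : ℕ}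
    {A' : Type u} [CommRing A'] [Algebra R A'] {A₀ : Type u} [CommRing A₀]
    [Algebra R A₀] [Algebra (R ⧸ I) A₀] [IsScalarTower R (R ⧸ I) A₀] {V : Over (Spec (CommRingCat.of (R ⧸ I)))}
    (j : sp (R ⧸ I) A₀ ≅ V) (ρ : A' →ₐ[R] A₀) (hρ : Function.Surjective ρ)
    (hk : RingHom.ker ρ = I.map (algebraMap R A')) (σ : A₀ →ₐ[R] A' ⧸ I.map (algebraMap R A'))
    (hσ : σ.comp ρ = Ideal.Quotient.mkₐ R (I.map (algebraMap R A'))) (a : V ⟶ Red.bc (cg I) (B.F m)) :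
    ∃ a' : sp R A' ⟶ B.F (m + s), sV j ρ ≫ a' ≫ B.f (m + s) = dn (cg I) a ≫ B.f m := by
  obtain ⟨α, hα⟩ := exists_lift_pt hI ρ hρ hk hA ((th I A₀).inv ≫ (Over.map (cg I)).map j.hom ≫ dn (cg I) a ≫ B.f m)
  have h1 : pt ρ ≫ α ^ p ^ m = 1 := by
    rw [MonObj.comp_pow, hα, ← Category.assoc, ← Category.assoc]
    exact pow_f B m _
  have h2 := pow_eq_one_of_pt hI ρ hp σ hσ _ h1
  rw [← pow_mul, ← pow_add] at h2
  obtain ⟨a', ha'⟩ := B.tors (m + s) α h2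
  refine ⟨a', ?_⟩
  rw [ha', sV, Category.assoc, Category.assoc, hα, Iso.hom_inv_id_assoc, ← Category.assoc, ← Functor.map_comp,
    Iso.inv_hom_id, CategoryTheory.Functor.map_id, Category.id_comp]

/-- The `p ^ Q`-th power of the point lies in `D n`. -/
theorem exists_xY {s : ℕ} {R : Type u} [CommRing R] {I : Ideal R} (hI : I ^ (s + 1) = ⊥) (hp : (p : R) ∈ I)
    (B : Bun (Spec (CommRingCat.of R)) p r h) {Q m : ℕ} (hQ : s ≤ Q)
    (pm : B.F m ⟶ B.F Q) (q' : B.F (m + s) ⟶ B.F m) (hq' : q' ≫ B.f m = B.f (m + s) ^ p ^ s)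
    {C : Type u} [CommRing C] [Algebra R C] (κ : U (B.F Q ⊗ sp R C)) (hκ : IsChar (B.F Q) κ)
    {A' : Type u} [CommRing A'] [Algebra R A'] {A₀ : Type u} [CommRing A₀]
    [Algebra R A₀] [Algebra (R ⧸ I) A₀] [IsScalarTower R (R ⧸ I) A₀] {V : Over (Spec (CommRingCat.of (R ⧸ I)))}
    (j : sp (R ⧸ I) A₀ ≅ V) (ρ : A' →ₐ[R] A₀) (hρ : Function.Surjective ρ)
    (hk : RingHom.ker ρ = I.map (algebraMap R A')) (a : V ⟶ Red.bc (cg I) (B.F m)) (t : V ⟶ sp (R ⧸ I) (C0 I C))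
    (hV : ∀ {Z : Over (Spec (CommRingCat.of (R ⧸ I)))} (v : Z ⟶ V) (y : Z ⟶ Red.bc (cg I) (B.F m)),
      ures (lift (y ≫ (Over.pullback (cg I)).map pm) (v ≫ t)) (kap I κ) = (pairBc (cg I) (B.e m)).e (v ≫ a) y)
    (γ : C →ₐ[R] A') (hγ : sV j ρ ≫ pt γ = (Over.map (cg I)).map t ≫ jC I C)
    (a' : sp R A' ⟶ B.F (m + s)) (ha' : sV j ρ ≫ a' ≫ B.f (m + s) = dn (cg I) a ≫ B.f m) :
    ∃ xY : sp R A' ⟶ B.D (m + s), xY ≫ B.d (m + s) = a' ^ p ^ Q := by
  let ψ₁ : U (B.F (m + s) ⊗ sp R A') := (B.e (m + s)).e (snd _ _ ≫ a') (fst _ _)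
  let ψ₂ : U (B.F (m + s) ⊗ sp R A') := ures (lift (fst _ _ ≫ q' ≫ pm) (snd _ _ ≫ pt γ)) κ
  have hψ₁ : ∀ {T : Over (Spec (CommRingCat.of R))} (y : T ⟶ B.F (m + s)) (z : T ⟶ sp R A'),
      ures (lift y z) ψ₁ = (B.e (m + s)).e (z ≫ a') y := by
    intro T y z
    rw [← (B.e (m + s)).nat, lift_snd_assoc, lift_fst]
  have hψ₂ : ∀ {T : Over (Spec (CommRingCat.of R))} (y : T ⟶ B.F (m + s)) (z : T ⟶ sp R A'),
      ures (lift y z) ψ₂ = ures (lift (y ≫ q' ≫ pm) (z ≫ pt γ)) κ := by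
    intro T y z
    rw [← ures_comp, comp_lift, lift_fst_assoc, lift_snd_assoc]
  have hAff : IsAffine (B.F (m + s) ⊗ sp R A').left := by
    have i1 : IsAffine (B.F (m + s)).left := isAffine_of_isAffineHom (B.F (m + s)).hom
    have i2 : IsAffine (sp R A').left := inferInstanceAs (IsAffine (Spec _))
    exact isAffine_tensor _ _
  have h1 := unit_pow_eq_one I p s hp hI (B.F (m + s) ⊗ sp R A') (ψ₁ * ψ₂⁻¹) (fun Z z => by
    obtain ⟨v, hv⟩ := exists_pt_V j ρ hρ hk (z ≫ snd _ _)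
    have e0 : z = lift (z ≫ fst _ _) (z ≫ snd _ _) := by ext1 <;> simp
    rw [e0, map_mul, map_inv, mul_inv_eq_one, hψ₁, hψ₂, ← hv]
    have e1 := compat' B m s (dn (cg I) (v ≫ a)) (((Over.map (cg I)).map v ≫ sV j ρ) ≫ a') (z ≫ fst _ _)
      ((z ≫ fst _ _) ≫ q') (by
        rw [Category.assoc, Category.assoc, ha', dn_comp, Category.assoc]) (by
        rw [Category.assoc _ q', hq', MonObj.comp_pow])
    rw [e1]
    have e2 := hV v (upp (cg I) ((z ≫ fst _ _) ≫ q'))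
    rw [pairBc_e, dn_upp, ures_kap, dn_map, dn_upp, Functor.map_comp, Category.assoc _ _ (jC I C), ← hγ] at e2
    rw [← e2, Category.assoc _ q', Category.assoc _ (sV j ρ)])
  rw [mul_pow, inv_pow, mul_inv_eq_one] at h1
  obtain ⟨l, hl⟩ := Nat.exists_eq_add_of_le hQ
  have h2 : ψ₁ ^ p ^ Q = ψ₂ ^ p ^ Q := by
    rw [hl, pow_add, pow_mul, h1, ← pow_mul]
  have h3 : ∀ {T : Over (Spec (CommRingCat.of R))} (y : T ⟶ B.F (m + s)) (z : T ⟶ sp R A'),
      (B.e (m + s)).e (z ≫ a') y ^ p ^ Q = 1 := by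
    intro T y z
    rw [← hψ₁, ← map_pow, h2, map_pow, hψ₂, ← hκ.pow, pow_F, hκ.one]
  apply (B.rad (m + s) (a' ^ p ^ Q)).2
  intro T' z y
  rw [MonObj.comp_pow, pair_pow_left, h3]

/-- The final map is faithfully flat on the closed fibre. -/
theorem exists_Psi {s : ℕ} {R : Type u} [CommRing R] {I : Ideal R}
    (B : Bun (Spec (CommRingCat.of R)) p r h) {Q m : ℕ}
    {A' : Type u} [CommRing A'] [Algebra R A'] {A₀ : Type u} [CommRing A₀]
    [Algebra R A₀] [Algebra (R ⧸ I) A₀] [IsScalarTower R (R ⧸ I) A₀] {V : Over (Spec (CommRingCat.of (R ⧸ I)))}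
    (j : sp (R ⧸ I) A₀ ≅ V) (ρ : A' →ₐ[R] A₀) (hρ : Function.Surjective ρ)
    (hk : RingHom.ker ρ = I.map (algebraMap R A')) (a : V ⟶ (Over.pullback (cg I)).obj (B.F m))
    (a' : sp R A' ⟶ B.F (m + s)) (ha' : sV j ρ ≫ a' ≫ B.f (m + s) = dn (cg I) a ≫ B.f m)
    (xY : sp R A' ⟶ B.D (m + s)) (hxY : xY ≫ B.d (m + s) = a' ^ p ^ Q)
    (x : V ⟶ (Over.pullback (cg I)).obj (B.D c)) (hx : x ≫ (Over.pullback (cg I)).map (B.d c) ≫
      (Over.pullback (cg I)).map (B.f c) = (a ≫ (Over.pullback (cg I)).map (B.f m)) ^ p ^ Q)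
    (hxff : IsFF x)
    (φ : (Over.pullback (cg I)).obj (B.D c) ⊗ (Over.pullback (cg I)).obj (B.M (m + s)) ⟶
      (Over.pullback (cg I)).obj (B.D (m + s)))
    (hφ : φ ≫ (Over.pullback (cg I)).map (B.d (m + s)) ≫ (Over.pullback (cg I)).map (B.f (m + s)) =
      (fst _ _ ≫ (Over.pullback (cg I)).map (B.d c) ≫ (Over.pullback (cg I)).map (B.f c)) *
      (snd _ _ ≫ (Over.pullback (cg I)).map (B.i (m + s)) ≫ (Over.pullback (cg I)).map (B.f (m + s))))
    (hφff : IsFF φ) :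
    ∃ Ψ : sp R A' ⊗ B.M (m + s) ⟶ B.D (m + s), IsFF ((Over.pullback (cg I)).map Ψ) := by
  have h1 : InD B (m + s) (fst (sp R A') (B.M (m + s)) ≫ xY ≫ B.d (m + s) ≫ B.f (m + s)) :=
    ⟨fst _ _ ≫ xY, by simp only [Category.assoc]⟩
  have h2 : InD B (m + s) (snd (sp R A') (B.M (m + s)) ≫ B.i (m + s) ≫ B.f (m + s)) := InM.inD ⟨_, rfl⟩
  obtain ⟨Ψ, hΨ⟩ := h1.mul h2
  refine ⟨Ψ, ?_⟩
  have hω := isIso_omega I ρ hρ hk
  let ω' : V ≅ (Over.pullback (cg I)).obj (sp R A') := j.symm ≪≫ asIso (upp (cg I) ((th I A₀).hom ≫ pt ρ))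
  have hω' : dn (cg I) ω'.hom = sV j ρ := (sV_eq j ρ).symm
  let μ₀ := Functor.Monoidal.μIso (Over.pullback (cg I)) (sp R A') (B.M (m + s))
  have hμ1 : μ₀.hom ≫ (Over.pullback (cg I)).map (fst (sp R A') (B.M (m + s))) = fst _ _ := Functor.Monoidal.μ_fst _ _ _
  have hμ2 : μ₀.hom ≫ (Over.pullback (cg I)).map (snd (sp R A') (B.M (m + s))) = snd _ _ := Functor.Monoidal.μ_snd _ _ _
  have hmono : Mono ((Over.pullback (cg I)).map (B.d (m + s)) ≫ (Over.pullback (cg I)).map (B.f (m + s))) :=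
    inferInstanceAs (Mono ((B.bc (cg I)).d (m + s) ≫ (B.bc (cg I)).f (m + s)))
  have hωx : ω'.hom ≫ (Over.pullback (cg I)).map (xY ≫ B.d (m + s) ≫ B.f (m + s)) =
      x ≫ (Over.pullback (cg I)).map (B.d c) ≫ (Over.pullback (cg I)).map (B.f c) := by
    rw [hx]
    apply dn_inj (cg I)
    rw [dn_map, hω', dn_pow, dn_map, ← Category.assoc xY, hxY, MonObj.pow_comp, MonObj.comp_pow, ha']
  have key : (ω'.hom ▷ _) ≫ μ₀.hom ≫ (Over.pullback (cg I)).map Ψ = (x ▷ _) ≫ φ := by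
    rw [← cancel_mono ((Over.pullback (cg I)).map (B.d (m + s)) ≫ (Over.pullback (cg I)).map (B.f (m + s))),
      Category.assoc, Category.assoc, Category.assoc, hφ, ← Functor.map_comp, ← Functor.map_comp, hΨ, map_mul_hom,
      MonObj.comp_mul, MonObj.comp_mul, MonObj.comp_mul]
    congr 1
    · rw [Functor.map_comp, ← Category.assoc μ₀.hom, hμ1, whiskerRight_fst_assoc, hωx, whiskerRight_fst_assoc]
    · rw [Functor.map_comp, ← Category.assoc μ₀.hom, hμ2, whiskerRight_snd_assoc, Functor.map_comp,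
        whiskerRight_snd_assoc]
  have h3 : (Over.pullback (cg I)).map Ψ = μ₀.inv ≫ (ω'.inv ▷ _) ≫ (x ▷ _) ≫ φ := by
    rw [← key, Iso.eq_inv_comp, inv_hom_whiskerRight_assoc]
  rw [h3]
  exact ((hφff.comp (hxff.whiskerRight _)).comp (IsFF.of_iso (whiskerRightIso ω'.symm _))).comp (IsFF.of_iso μ₀.symm)

/-- `D n` is flat for large `n`. -/
theorem flat_D_large (hI : IsLocalRing.maximalIdeal R ^ (s + 1) = ⊥) (hp0 : 0 < p)
    (hp : (p : R) ∈ IsLocalRing.maximalIdeal R) (B : Bun (Spec (CommRingCat.of R)) p r h) (hA : Smooth B.A.hom)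
    (hc : HC (B.bc (cg (IsLocalRing.maximalIdeal R))) c) {Q n : ℕ} (hQ : s ≤ Q) (hn : n = Q + c + s) :
    Flat (B.D n).hom := by
  subst hn
  let _ : Field (R ⧸ IsLocalRing.maximalIdeal R) := Ideal.Quotient.field (IsLocalRing.maximalIdeal R)
  let B' : Bun (Spec (CommRingCat.of (R ⧸ IsLocalRing.maximalIdeal R))) p r h := B.bc (cg (IsLocalRing.maximalIdeal R))
  -- the universal character
  have hNZ : NeZero (p ^ Q) := ⟨(Nat.pow_pos hp0).ne'⟩
  have hMQ : IsAffine (B.M Q).left := isAffine_of_isAffineHom (B.M Q).hom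
  obtain ⟨C, _, _, κ, hCfl, hκ, hκM, hu⟩ := exists_X R (B.F Q) (B.M Q) (B.i Q) (B.mu Q)
  obtain ⟨pmR, hpm1, hpm2, hpmff⟩ := exists_q' B hp0 (n := Q) (N := Q + c) c rfl
  obtain ⟨q', hq1, hq2, hqff⟩ := exists_q' B hp0 (n := Q + c) (N := Q + c + s) s rfl
  obtain ⟨V, a, t, x, htsyn, hVaff, hV, hx, hxff⟩ := exists_W (B := B') hp0 hc (Q := Q) (m := c) (N := Q + c) rfl le_rfl
    ((Over.pullback (cg (IsLocalRing.maximalIdeal R))).map pmR) (by
      change (Over.pullback _).map pmR ≫ (Over.pullback _).map (B.f Q) = (Over.pullback _).map (B.f (Q + c)) ^ p ^ c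
      rw [← Functor.map_comp, hpm2, map_pow_hom])
    (C0 (IsLocalRing.maximalIdeal R) C) (kap (IsLocalRing.maximalIdeal R) κ)
    (isChar_kap (IsLocalRing.maximalIdeal R) hκ) (triv_kap (IsLocalRing.maximalIdeal R) hκM)
    (fun E _ _ κ' h1 h2 => univ_kap (IsLocalRing.maximalIdeal R) hu E κ' h1 h2)
  obtain ⟨A', _, _, A₀, _, _, _, _, j, ρ, σ, γ, hfl, hρ, hk, hσ, hγ⟩ := exists_lift_syn (IsLocalRing.maximalIdeal R) V t
    htsyn
  change sV j ρ ≫ pt γ = _ at hγ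
  obtain ⟨a', ha'⟩ := exists_a hI hp B hA j ρ hρ hk σ hσ a
  obtain ⟨xY, hxY⟩ := exists_xY hI hp B hQ pmR q' hq2 κ hκ j ρ hρ hk a t hV γ hγ a' ha'
  obtain ⟨φ, hφ, hφff⟩ := exists_phi (B := B') hp0 hc (m := c) (n := Q + c + s) le_rfl (by omega)
  obtain ⟨Ψ, hΨ⟩ := exists_Psi B j ρ hρ hk a a' ha' xY hxY x hx hxff φ hφ hφff
  have hNZ' : NeZero (p ^ (Q + c + s)) := ⟨(Nat.pow_pos hp0).ne'⟩
  have i1 : IsAffine (B.M (Q + c + s)).left := isAffine_of_isAffineHom (B.M (Q + c + s)).hom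
  have i2 : IsAffine (B.D (Q + c + s)).left := isAffine_of_isAffineHom (B.D (Q + c + s)).hom
  have i3 : IsAffine (sp R A').left := inferInstanceAs (IsAffine (Spec _))
  have i4 : IsAffine (sp R A' ⊗ B.M (Q + c + s)).left := isAffine_tensor _ _
  have i5 : Flat (B.M (Q + c + s)).hom := flat_mu (B.mu (Q + c + s))
  have i6 : Flat (sp R A').hom := flat_sp
  have i7 : Flat (sp R A' ⊗ B.M (Q + c + s)).hom := flat_tensor _ _
  exact flat_of_bc (IsLocalRing.maximalIdeal R) ⟨s + 1, hI⟩ Ψ hΨ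

end K521.RigLarge
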