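import Groth.Agent.GrpSch.K521.RigChar
import Mathlib.Algebra.MonoidAlgebra.Basic
import Mathlib.Data.ZMod.Basic

/-!
# The locus where a character of `μ_N^r` is trivial is open and closed

`M ≅ μ_N^r` over `R` (`IsMu`), `lam` a character of `M` over `Spec C`: there is an idempotent `e : C` such that `lam` becomes
trivial over `B` exactly when `e ↦ 1`.
-/

set_option autoImplicit false
set_option linter.unusedSectionVars false
universe u

open CategoryTheory CategoryTheory.Limits MonoidalCategory CartesianMonoidalCategory MonObj AlgebraicGeometry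

noncomputable section

namespace K521.RigMu

open K270.MB CoactBr K521.RigChar

theorem exists_sp {R : Type u} [CommRing R] (W : Over (Spec (CommRingCat.of R))) [IsAffine W.left] :
    ∃ (E : Type u) (_ : CommRing E) (_ : Algebra R E), Nonempty (sp R E ≅ W) := by
  let E : Type u := Γ(W.left, ⊤)
  let ψ : CommRingCat.of R ⟶ CommRingCat.of E := Spec.preimage (W.left.isoSpec.inv ≫ W.hom)
  let _ : Algebra R E := ψ.hom.toAlgebra
  refine ⟨E, inferInstance, inferInstance, ⟨Over.isoMk W.left.isoSpec.symm ?_⟩⟩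
  exact (Spec.map_preimage (W.left.isoSpec.inv ≫ W.hom)).symm

theorem exists_pt {R E F : Type u} [CommRing R] [CommRing E] [Algebra R E] [CommRing F] [Algebra R F]
    (z : sp R E ⟶ sp R F) : ∃ φ : F →ₐ[R] E, pt φ = z := by
  obtain ⟨g, hg⟩ := Spec.map_surjective z.left
  have hw : Spec.map g ≫ Spec.map (CommRingCat.ofHom (algebraMap R F)) =
      Spec.map (CommRingCat.ofHom (algebraMap R E)) := by
    rw [hg]
    exact Over.w z
  rw [← Spec.map_comp] at hw
  have hw' := Spec.map_injective hw
  refine ⟨{ g.hom with commutes' := fun r => ?_ }, ?_⟩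
  · exact congrArg (fun f : CommRingCat.of R ⟶ CommRingCat.of E => f.hom r) hw'
  · apply Over.OverMorphism.ext
    rw [← hg]
    rfl

section

variable {R : Type u} [CommRing R] {M : Over (Spec (CommRingCat.of R))} [GrpObj M] {N r : ℕ}
  {χ : Fin r → U M} (hM : IsMu N r M χ)

variable (N r) in
/-- The character group. -/
abbrev Gm : Type := Multiplicative (Fin r → ZMod N)

/-- The generators. -/
def gen (j : Fin r) : Gm N r := Multiplicative.ofAdd (Pi.single j 1)

theorem gen_pow (j : Fin r) : gen (N := N) j ^ N = 1 := by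
  rw [gen, ← ofAdd_nsmul, ← Pi.single_smul]
  simp

variable {E E' : Type u} [CommRing E] [Algebra R E] [CommRing E'] [Algebra R E']

theorem exists_unit (ρ : Gm N r →* E) (j : Fin r) : ∃ w : U (sp R E), toK w = ρ (gen j) :=
  exists_toK (k := R) (b := ρ (gen j)⁻¹) (by rw [← map_mul, mul_inv_cancel, map_one])

/-- The units of a homomorphism. -/
def un (ρ : Gm N r →* E) (j : Fin r) : U (sp R E) := (exists_unit ρ j).choose

theorem toK_un (ρ : Gm N r →* E) (j : Fin r) : toK (un (R := R) ρ j) = ρ (gen j) := (exists_unit ρ j).choose_spec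

theorem toK_pow (w : U (sp R E)) (n : ℕ) : toK (w ^ n) = toK w ^ n := map_pow _ _ _

theorem un_pow (ρ : Gm N r →* E) (j : Fin r) : un (R := R) ρ j ^ N = 1 := by
  apply toK_inj
  rw [toK_pow, toK_un, ← map_pow, gen_pow, map_one, toK_one]

/-- The point of a homomorphism. -/
def pnt (ρ : Gm N r →* E) : sp R E ⟶ M := (hM.bij (un ρ) (un_pow ρ)).choose

theorem ures_pnt (ρ : Gm N r →* E) (j : Fin r) : ures (pnt hM ρ) (χ j) = un ρ j :=
  (hM.bij (un ρ) (un_pow ρ)).choose_spec.1 j

include hM in
theorem ext_pt {T : Over (Spec (CommRingCat.of R))} {x y : T ⟶ M} (h : ∀ j, ures x (χ j) = ures y (χ j)) : x = y := by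
  have hv : ∀ j, (ures y (χ j)) ^ N = 1 := fun j => by rw [← map_pow, hM.pow, map_one]
  exact (hM.bij (fun j => ures y (χ j)) hv).unique h fun _ => rfl

theorem pnt_comp (ρ : Gm N r →* E) (φ : E →ₐ[R] E') : pt φ ≫ pnt hM ρ = pnt hM ((φ : E →* E').comp ρ) := by
  apply ext_pt hM
  intro j
  rw [ures_comp, ures_pnt, ures_pnt]
  apply toK_inj
  rw [toK_ures, toK_un, toK_un]
  rfl

theorem pnt_mul (ρ ρ' : Gm N r →* E) : pnt hM ρ * pnt hM ρ' = pnt hM (ρ * ρ') := by
  apply ext_pt hM
  intro j
  rw [hM.mul, ures_pnt, ures_pnt, ures_pnt]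
  apply toK_inj
  rw [toK_mul, toK_un, toK_un, toK_un]
  rfl

theorem exists_pnt [NeZero N] (y : sp R E ⟶ M) : ∃ ρ : Gm N r →* E, pnt hM ρ = y := by
  let b : Fin r → E := fun j => toK (ures y (χ j))
  have hb : ∀ j, b j ^ N = 1 := fun j => by
    rw [← toK_pow, ← map_pow, hM.pow, map_one, toK_one]
  have hpow : ∀ (j : Fin r) (a c : ZMod N), b j ^ (a + c).val = b j ^ a.val * b j ^ c.val := by
    intro j a c
    rw [ZMod.val_add, ← pow_add]
    conv_rhs => rw [← Nat.mod_add_div (a.val + c.val) N, pow_add, pow_mul, hb, _root_.one_pow, _root_.mul_one]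
  let ρ : Gm N r →* E :=
    { toFun := fun a => ∏ j, b j ^ (Multiplicative.toAdd a j).val
      map_one' := by
        refine Finset.prod_eq_one fun j _ => ?_
        rw [toAdd_one, Pi.zero_apply, ZMod.val_zero, pow_zero]
      map_mul' := fun a c => by
        rw [← Finset.prod_mul_distrib]
        refine Finset.prod_congr rfl fun j _ => ?_
        rw [toAdd_mul, Pi.add_apply, hpow] }
  refine ⟨ρ, ?_⟩
  apply ext_pt hM
  intro j
  rw [ures_pnt]
  apply toK_inj
  rw [toK_un]
  change ∏ i, b i ^ (Multiplicative.toAdd (gen (N := N) j) i).val = b j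
  rw [Finset.prod_eq_single j]
  · rw [gen, toAdd_ofAdd, Pi.single_eq_same]
    by_cases h : N = 1
    · subst h
      have h1 := hb j
      rw [pow_one] at h1
      rw [h1, one_pow]
    · have : Fact (1 < N) := ⟨by have := NeZero.pos N; omega⟩
      rw [ZMod.val_one, pow_one]
  · intro i _ hij
    rw [gen, toAdd_ofAdd, Pi.single_eq_of_ne hij, ZMod.val_zero, pow_zero]
  · intro h
    exact absurd (Finset.mem_univ j) h

variable {C : Type u} [CommRing C] [Algebra R C] (lam : U (M ⊗ sp R C))

/-- The value of the character. -/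
def val (ρ : Gm N r →* E) (σ : C →ₐ[R] E) : E := toK (ures (lift (pnt hM ρ) (pt σ)) lam)

theorem val_comp (ρ : Gm N r →* E) (σ : C →ₐ[R] E) (φ : E →ₐ[R] E') :
    φ (val hM lam ρ σ) = val hM lam ((φ : E →* E').comp ρ) (φ.comp σ) := by
  rw [val, val, ← toK_ures, ← ures_comp, comp_lift, pnt_comp, pt_comp]

theorem val_mul (h : IsChar M lam) (ρ ρ' : Gm N r →* E) (σ : C →ₐ[R] E) :
    val hM lam (ρ * ρ') σ = val hM lam ρ σ * val hM lam ρ' σ := by
  rw [val, val, val, ← pnt_mul, h, toK_mul]

/-- The evaluation. -/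
def ev (σ : C →ₐ[R] E) (ρ : Gm N r →* E) : MonoidAlgebra C (Gm N r) →ₐ[R] E :=
  MonoidAlgebra.liftNCAlgHom σ ρ fun _ _ => Commute.all _ _

theorem ev_single (σ : C →ₐ[R] E) (ρ : Gm N r →* E) (g : Gm N r) (c : C) :
    ev σ ρ (MonoidAlgebra.single g c) = σ c * ρ g := MonoidAlgebra.liftNC_single _ _ _ _

/-- The inclusion of the coefficients. -/
def inc (C : Type u) [CommRing C] [Algebra R C] : C →ₐ[R] MonoidAlgebra C (Gm N r) where
  toFun c := MonoidAlgebra.single 1 c
  map_one' := rfl
  map_mul' a b := by rw [MonoidAlgebra.single_mul_single, _root_.one_mul]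
  map_zero' := MonoidAlgebra.single_zero _
  map_add' a b := MonoidAlgebra.single_add _ _ _
  commutes' _ := rfl

theorem inc_apply (c : C) : inc (R := R) (N := N) (r := r) C c = MonoidAlgebra.single 1 c := rfl

/-- The universal value. -/
def lu : MonoidAlgebra C (Gm N r) := val hM lam (MonoidAlgebra.of C (Gm N r)) (inc C)

theorem val_eq (ρ : Gm N r →* E) (σ : C →ₐ[R] E) : val hM lam ρ σ = ev σ ρ (lu hM lam) := by
  rw [lu, val_comp]
  congr 1
  · apply MonoidHom.ext
    intro g
    change ρ g = ev σ ρ (MonoidAlgebra.single g 1)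
    rw [ev_single, map_one, _root_.one_mul]
  · ext c
    change σ c = ev σ ρ (MonoidAlgebra.single 1 c)
    rw [ev_single, map_one, _root_.mul_one]

theorem key (h : IsChar M lam) (g : Gm N r) :
    MonoidAlgebra.single g ((lu hM lam).coeff g) = lu hM lam * MonoidAlgebra.single 1 ((lu hM lam).coeff g) := by
  let E₁ := MonoidAlgebra C (Gm N r)
  let E₂ := MonoidAlgebra E₁ (Gm N r)
  let c₁ : E₁ →ₐ[R] E₂ := inc E₁
  let σ : C →ₐ[R] E₂ := c₁.comp (inc C)
  let ρ₁ : Gm N r →* E₂ := (c₁ : E₁ →* E₂).comp (MonoidAlgebra.of C (Gm N r))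
  let ρ₂ : Gm N r →* E₂ := MonoidAlgebra.of E₁ (Gm N r)
  have h1 := val_mul hM lam h ρ₁ ρ₂ σ
  rw [val_eq, val_eq, val_eq] at h1
  have h2 : ∀ l : E₁, (ev σ (ρ₁ * ρ₂) l).coeff g = MonoidAlgebra.single g (l.coeff g) := by
    intro l
    induction l using MonoidAlgebra.induction_linear with
    | zero =>
      rw [map_zero, MonoidAlgebra.coeff_zero, MonoidAlgebra.coeff_zero, Finsupp.zero_apply, Finsupp.zero_apply,
        MonoidAlgebra.single_zero]
    | add x y hx hy =>
      rw [map_add, MonoidAlgebra.coeff_add, Finsupp.add_apply, hx, hy, MonoidAlgebra.coeff_add, Finsupp.add_apply,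
        MonoidAlgebra.single_add]
    | single a b =>
      rw [ev_single]
      have e1 : σ b * (ρ₁ * ρ₂) a = MonoidAlgebra.single a (MonoidAlgebra.single a b : E₁) := by
        change (MonoidAlgebra.single 1 (MonoidAlgebra.single 1 b : E₁) : E₂) *
          ((MonoidAlgebra.single 1 (MonoidAlgebra.single a 1 : E₁) : E₂) *
            (MonoidAlgebra.single a (1 : E₁) : E₂)) = _
        rw [MonoidAlgebra.single_mul_single, MonoidAlgebra.single_mul_single]
        rw [_root_.one_mul, _root_.one_mul, _root_.mul_one, MonoidAlgebra.single_mul_single, _root_.one_mul, _root_.mul_one]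
      rw [e1, MonoidAlgebra.coeff_single, MonoidAlgebra.coeff_single, Finsupp.single_apply, Finsupp.single_apply]
      split_ifs with hag
      · rw [hag]
      · rw [MonoidAlgebra.single_zero]
  have h3 : ev σ ρ₁ (lu hM lam) = MonoidAlgebra.single 1 (lu hM lam) := by
    have h4 : ∀ l : E₁, ev σ ρ₁ l = (MonoidAlgebra.single 1 l : E₂) := by
      intro l
      induction l using MonoidAlgebra.induction_linear with
      | zero => rw [map_zero, MonoidAlgebra.single_zero]
      | add x y hx hy => rw [map_add, hx, hy, MonoidAlgebra.single_add]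
      | single a b =>
        rw [ev_single]
        change (MonoidAlgebra.single 1 (MonoidAlgebra.single 1 b : E₁) : E₂) *
          (MonoidAlgebra.single 1 (MonoidAlgebra.single a 1 : E₁) : E₂) = _
        rw [MonoidAlgebra.single_mul_single, MonoidAlgebra.single_mul_single, _root_.one_mul, _root_.one_mul,
          _root_.mul_one]
    exact h4 _
  have h5 : ∀ l : E₁, (ev σ ρ₂ l).coeff g = MonoidAlgebra.single 1 (l.coeff g) := by
    intro l
    induction l using MonoidAlgebra.induction_linear with
    | zero =>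
      rw [map_zero, MonoidAlgebra.coeff_zero, MonoidAlgebra.coeff_zero, Finsupp.zero_apply, Finsupp.zero_apply,
        MonoidAlgebra.single_zero]
    | add x y hx hy =>
      rw [map_add, MonoidAlgebra.coeff_add, Finsupp.add_apply, hx, hy, MonoidAlgebra.coeff_add, Finsupp.add_apply,
        MonoidAlgebra.single_add]
    | single a b =>
      rw [ev_single]
      have e1 : σ b * ρ₂ a = MonoidAlgebra.single a (MonoidAlgebra.single 1 b : E₁) := by
        change (MonoidAlgebra.single 1 (MonoidAlgebra.single 1 b : E₁) : E₂) *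
            (MonoidAlgebra.single a (1 : E₁) : E₂) = _
        rw [MonoidAlgebra.single_mul_single, _root_.one_mul, _root_.mul_one]
      rw [e1, MonoidAlgebra.coeff_single, MonoidAlgebra.coeff_single, Finsupp.single_apply, Finsupp.single_apply]
      split_ifs with hag
      · rfl
      · rw [MonoidAlgebra.single_zero]
  have h6 := congrArg (fun z : E₂ => z.coeff g) h1
  beta_reduce at h6
  rw [h2, h3, MonoidAlgebra.coeff_single_one_mul, h5] at h6
  exact h6

/-- The idempotent. -/
theorem exists_idem [NeZero N] (hM : IsMu N r M χ) [IsAffine M.left] (lam : U (M ⊗ sp R C)) (h : IsChar M lam) :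
    ∃ e : C, e * e = e ∧ ∀ (B : Type u) [CommRing B] [Algebra R B] (φ : C →ₐ[R] B),
      φ e = 1 ↔ ures (M ◁ pt φ) lam = 1 := by
  let l := lu hM lam
  refine ⟨l.coeff 1, ?_, fun B _ _ φ => ⟨fun hφ => ?_, fun hφ => ?_⟩⟩
  · have h1 := congrArg (fun z : MonoidAlgebra C (Gm N r) => z.coeff 1) (key hM lam h 1)
    beta_reduce at h1
    rw [mul_comm, MonoidAlgebra.coeff_single_one_mul, MonoidAlgebra.coeff_single, Finsupp.single_eq_same] at h1
    exact h1.symm
  · have i1 : IsAffine (sp R B).left := inferInstanceAs (IsAffine (Spec (CommRingCat.of B)))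
    have : IsAffine (M ⊗ sp R B).left := inferInstanceAs (IsAffine (pullback M.hom (sp R B).hom))
    obtain ⟨E, _, _, ⟨j⟩⟩ := exists_sp (M ⊗ sp R B)
    obtain ⟨ρ, hρ⟩ := exists_pnt hM (j.hom ≫ fst M (sp R B))
    obtain ⟨τ, hτ⟩ := exists_pt (j.hom ≫ snd M (sp R B))
    have h1 : ures j.hom (ures (M ◁ pt φ) lam) = 1 := by
      have e1 : j.hom ≫ M ◁ pt φ = lift (pnt hM ρ) (pt (τ.comp φ)) := by
        rw [hρ, pt_comp, hτ]
        ext1 <;> simp
      rw [← ures_comp, e1]
      apply toK_inj
      rw [toK_one]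
      change val hM lam ρ (τ.comp φ) = 1
      rw [val_eq]
      have h2 := congrArg (ev (τ.comp φ) ρ) (key hM lam h 1)
      have h3 : (τ.comp φ) (l.coeff 1) = 1 := by
        change τ (φ (l.coeff 1)) = 1
        rw [hφ, map_one]
      rw [map_mul, ev_single, h3, map_one] at h2
      rw [_root_.mul_one, _root_.mul_one] at h2
      exact h2.symm
    have h4 := congrArg (ures j.inv) h1
    rw [← ures_comp, Iso.inv_hom_id, ures_id, map_one] at h4
    exact h4
  · have h1 : val hM lam (MonoidAlgebra.of B (Gm N r)) ((inc B).comp φ) = 1 := by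
      have e1 : lift (pnt hM (MonoidAlgebra.of B (Gm N r))) (pt ((inc B).comp φ)) =
          lift (pnt hM (MonoidAlgebra.of B (Gm N r))) (pt (inc B)) ≫ (M ◁ pt φ) := by
        rw [lift_whiskerLeft, ← pt_comp]
      rw [val, e1, ures_comp, hφ, map_one, toK_one]
    rw [val_eq] at h1
    have h2 : ∀ x : MonoidAlgebra C (Gm N r), (ev ((inc (R := R) B).comp φ) (MonoidAlgebra.of B (Gm N r)) x).coeff 1 =
        φ (x.coeff 1) := by
      intro x
      induction x using MonoidAlgebra.induction_linear with
      | zero =>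
        rw [map_zero, MonoidAlgebra.coeff_zero, MonoidAlgebra.coeff_zero, Finsupp.zero_apply, Finsupp.zero_apply,
          map_zero]
      | add x y hx hy =>
        rw [map_add, MonoidAlgebra.coeff_add, Finsupp.add_apply, hx, hy, MonoidAlgebra.coeff_add, Finsupp.add_apply,
          map_add]
      | single a b =>
        rw [ev_single]
        have e1 : ((inc (R := R) B).comp φ) b * (MonoidAlgebra.of B (Gm N r)) a = MonoidAlgebra.single a (φ b) := by
          change (MonoidAlgebra.single 1 (φ b) : MonoidAlgebra B (Gm N r)) * MonoidAlgebra.single a 1 = _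
          rw [MonoidAlgebra.single_mul_single, _root_.one_mul, _root_.mul_one]
        rw [e1, MonoidAlgebra.coeff_single, MonoidAlgebra.coeff_single, Finsupp.single_apply, Finsupp.single_apply]
        split_ifs with ha
        · rfl
        · rw [map_zero]
    rw [← h2, h1, MonoidAlgebra.coeff_one_one]

end

end K521.RigMu
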