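import Groth.Agent.Sga67.TorsionLift
import Groth.Agent.SGA3.K211.StalkExt
import Groth.Agent.GrpSch.K521.RigMu

/-!
# The kernel of the reduction of points modulo a nilpotent ideal containing `p` is killed by a power of `p`
-/

set_option autoImplicit false
set_option linter.unusedSectionVars false
universe u

open CategoryTheory CategoryTheory.Limits AlgebraicGeometry MonObj

noncomputable section

namespace K521.RigTor

open Groth.Agent.Sga67.TorsionLift

variable {R : Type u} [CommRing R] {T : Type u} [CommRing T] [Algebra R T] (B : Over (Spec (CommRingCat.of R)))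
  [GrpObj B]

/-- Points which agree modulo an ideal in the maximal ideal agree at the closed point. -/
theorem closedPoint_eq [IsLocalRing T] (I : Ideal T) (hI : I ≤ IsLocalRing.maximalIdeal T) (x y : sp R T ⟶ B)
    (h : spMap (Ideal.Quotient.mkₐ R I) ≫ x = spMap (Ideal.Quotient.mkₐ R I) ≫ y) :
    x.left (IsLocalRing.closedPoint T) = y.left (IsLocalRing.closedPoint T) := by
  have h0 : Nontrivial (T ⧸ I) := Ideal.Quotient.nontrivial_iff.2 (fun h => by
    rw [h] at hI
    exact (IsLocalRing.maximalIdeal.isMaximal T).ne_top (top_le_iff.1 hI))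
  have : IsLocalRing (T ⧸ I) := IsLocalRing.of_surjective' (Ideal.Quotient.mk I) Ideal.Quotient.mk_surjective
  have : IsLocalHom (Ideal.Quotient.mk I) :=
    IsLocalHom.of_surjective (Ideal.Quotient.mk I) Ideal.Quotient.mk_surjective
  have hcl : Spec.map (CommRingCat.ofHom (Ideal.Quotient.mk I)) (IsLocalRing.closedPoint (T ⧸ I)) =
      IsLocalRing.closedPoint T := IsLocalRing.comap_closedPoint _
  have h1 : (spMap (Ideal.Quotient.mkₐ R I) ≫ x).left (IsLocalRing.closedPoint (T ⧸ I)) =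
      (spMap (Ideal.Quotient.mkₐ R I) ≫ y).left (IsLocalRing.closedPoint (T ⧸ I)) := by rw [h]
  rw [← hcl]
  exact h1

/-- One step. -/
theorem pow_eq_one_step [IsLocalRing T] (J : Ideal T) (hJm : J ≤ IsLocalRing.maximalIdeal T)
    (hJ : ∀ a ∈ J, ∀ b ∈ J, a * b = 0) (p : ℕ) (hp : ∀ a ∈ J, (p : T) * a = 0) (z : sp R T ⟶ B)
    (hz : spMap (Ideal.Quotient.mkₐ R J) ≫ z = 1) : z ^ p = 1 := by
  obtain ⟨O, _, _, j, hj, hx⟩ := exists_chart B ((1 : sp R T ⟶ B).left (IsLocalRing.closedPoint T))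
  obtain ⟨e, he⟩ := exists_factor B j 1 hx
  obtain ⟨f, hf⟩ := exists_factor B j z (by
    rw [closedPoint_eq B J hJm z 1 (by rw [hz, MonObj.comp_one])]
    exact hx)
  have hfe : ∀ o, f o - e o ∈ J := by
    have h1 : (Ideal.Quotient.mkₐ R J).comp f = (Ideal.Quotient.mkₐ R J).comp e := by
      apply factor_injective B j
      rw [← spMap_comp, ← spMap_comp, Category.assoc, Category.assoc, ← hf, ← he, MonObj.comp_one]
      exact hz
    intro o
    have h2 := congrArg (fun g => g o) h1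
    exact Ideal.Quotient.eq.1 h2
  obtain ⟨k, hk1, hk2⟩ := pow_eq B j J hJm hJ e f he.symm hfe p
  have hke : k = e := by
    ext o
    rw [hk1, hp _ (hfe o), add_zero]
  rw [hf, hk2, hke, ← he]

theorem pow_eq_one_local [IsLocalRing T] (I : Ideal T) (hIm : I ≤ IsLocalRing.maximalIdeal T) (p : ℕ)
    (hp : (p : T) ∈ I) (z : sp R T ⟶ B) (hz : spMap (Ideal.Quotient.mkₐ R I) ≫ z = 1) (l : ℕ) :
    spMap (Ideal.Quotient.mkₐ R (I ^ (l + 1))) ≫ z ^ p ^ l = 1 := by
  induction l with
  | zero =>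
    have h1 : I ^ (0 + 1) = I := by rw [zero_add, _root_.pow_one]
    rw [h1, _root_.pow_zero, _root_.pow_one]
    exact hz
  | succ l ih =>
    let K : Ideal T := I ^ (l + 1 + 1)
    have hK : K ≤ IsLocalRing.maximalIdeal T := (Ideal.pow_le_self (by omega)).trans hIm
    have h0 : Nontrivial (T ⧸ K) := Ideal.Quotient.nontrivial_iff.2 (fun h => by
      rw [h] at hK
      exact (IsLocalRing.maximalIdeal.isMaximal T).ne_top (top_le_iff.1 hK))
    have : IsLocalRing (T ⧸ K) := IsLocalRing.of_surjective' (Ideal.Quotient.mk K) Ideal.Quotient.mk_surjective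
    let J : Ideal (T ⧸ K) := (I ^ (l + 1)).map (Ideal.Quotient.mk K)
    have hJm : J ≤ IsLocalRing.maximalIdeal (T ⧸ K) := by
      rw [← IsLocalRing.map_maximalIdeal_of_surjective (Ideal.Quotient.mk K) Ideal.Quotient.mk_surjective]
      exact Ideal.map_mono ((Ideal.pow_le_self (by omega)).trans hIm)
    have hJJ : ∀ a ∈ J, ∀ b ∈ J, a * b = 0 := by
      intro a ha b hb
      have h1 : a * b ∈ J * J := Ideal.mul_mem_mul ha hb
      have h2 : J * J = ⊥ := by
        rw [← Ideal.map_mul, ← pow_add, Ideal.map_eq_bot_iff_le_ker, Ideal.mk_ker]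
        exact Ideal.pow_le_pow_right (by omega)
      rw [h2] at h1
      exact h1
    have hpJ : ∀ a ∈ J, (p : T ⧸ K) * a = 0 := by
      intro a ha
      have h1 : (p : T ⧸ K) * a ∈ I.map (Ideal.Quotient.mk K) * J := by
        refine Ideal.mul_mem_mul ?_ ha
        have := Ideal.mem_map_of_mem (Ideal.Quotient.mk K) hp
        rwa [map_natCast] at this
      have h2 : I.map (Ideal.Quotient.mk K) * J = ⊥ := by
        rw [← Ideal.map_mul, ← pow_succ', Ideal.map_eq_bot_iff_le_ker, Ideal.mk_ker]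
      rw [h2] at h1
      exact h1
    let q : T →ₐ[R] T ⧸ K := Ideal.Quotient.mkₐ R K
    have h3 : (spMap q ≫ z ^ p ^ l) ^ p = 1 := by
      refine pow_eq_one_step B J hJm hJJ p hpJ (spMap q ≫ z ^ p ^ l) ?_
      -- `T ⧸ K ⟶ (T ⧸ K) ⧸ J` factors through `T ⧸ I ^ (l + 1)`
      let σ : T ⧸ I ^ (l + 1) →ₐ[R] (T ⧸ K) ⧸ J := Ideal.quotientMapₐ J (Ideal.Quotient.mkₐ R K) Ideal.le_comap_map
      have hσ : (Ideal.Quotient.mkₐ R J).comp q = σ.comp (Ideal.Quotient.mkₐ R (I ^ (l + 1))) := by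
        ext x
        rfl
      rw [← Category.assoc, spMap_comp, hσ, ← spMap_comp, Category.assoc, ih, MonObj.comp_one]
    rw [← MonObj.comp_pow, ← pow_mul, ← pow_succ] at h3
    exact h3

/-- The global form. -/
theorem pow_eq_one_of_nil (I : Ideal T) (p s : ℕ) (hp : (p : T) ∈ I) (hs : I ^ (s + 1) = ⊥) (z : sp R T ⟶ B)
    (hz : spMap (Ideal.Quotient.mkₐ R I) ≫ z = 1) : z ^ p ^ s = 1 := by
  apply Over.OverMorphism.ext
  apply Groth.Agent.SGA3.K211.StalkExt.hom_ext
  intro x
  obtain ⟨φ, hφ⟩ := Spec.map_surjective ((Spec (CommRingCat.of T)).fromSpecStalk x)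
  let T' : Type u := (Spec (CommRingCat.of T)).presheaf.stalk x
  let _ : Algebra R T' := (φ.hom.comp (algebraMap R T)).toAlgebra
  let ψ : T →ₐ[R] T' := { φ.hom with commutes' := fun _ => rfl }
  have hloc : IsLocalRing T' := inferInstanceAs (IsLocalRing ((Spec (CommRingCat.of T)).presheaf.stalk x))
  let I' : Ideal T' := I.map (ψ : T →+* T')
  have hI' : I' ^ (s + 1) = ⊥ := by
    rw [← Ideal.map_pow, hs]
    exact Ideal.map_bot
  have hIm : I' ≤ IsLocalRing.maximalIdeal T' := by
    intro a ha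
    have h1 : a ^ (s + 1) ∈ I' ^ (s + 1) := Ideal.pow_mem_pow ha _
    rw [hI'] at h1
    have h2 : a ^ (s + 1) = 0 := h1
    have h3 : a ^ (s + 1) ∈ IsLocalRing.maximalIdeal T' := by rw [h2]; exact Ideal.zero_mem _
    exact (IsLocalRing.maximalIdeal.isMaximal T').isPrime.mem_of_pow_mem _ h3
  have hp' : (p : T') ∈ I' := by
    have := Ideal.mem_map_of_mem (ψ : T →+* T') hp
    rwa [map_natCast] at this
  have h1 : (spMap ψ ≫ z) ^ p ^ s = 1 := by
    have h2 : spMap (Ideal.Quotient.mkₐ R I') ≫ spMap ψ ≫ z = 1 := by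
      let σ : T ⧸ I →ₐ[R] T' ⧸ I' := Ideal.quotientMapₐ I' ψ Ideal.le_comap_map
      have hσ : (Ideal.Quotient.mkₐ R I').comp ψ = σ.comp (Ideal.Quotient.mkₐ R I) := by
        ext x
        rfl
      rw [← Category.assoc, spMap_comp, hσ, ← spMap_comp, Category.assoc, hz, MonObj.comp_one]
    have h3 := pow_eq_one_local B I' hIm p hp' (spMap ψ ≫ z) h2 s
    have h4 : Function.Bijective (Ideal.Quotient.mkₐ R (I' ^ (s + 1))) := by
      refine ⟨?_, Ideal.Quotient.mkₐ_surjective _ _⟩
      rw [injective_iff_map_eq_zero]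
      intro a ha
      have h5 : a ∈ I' ^ (s + 1) := Ideal.Quotient.eq_zero_iff_mem.1 ha
      rw [hI'] at h5
      exact h5
    have h6 : IsIso (spMap (Ideal.Quotient.mkₐ R (I' ^ (s + 1)))) := by
      let e := AlgEquiv.ofBijective (Ideal.Quotient.mkₐ R (I' ^ (s + 1))) h4
      refine ⟨spMap (e.symm : _ →ₐ[R] _), ?_, ?_⟩
      · have h7 : (Ideal.Quotient.mkₐ R (I' ^ (s + 1))).comp (e.symm : _ →ₐ[R] _) = AlgHom.id R _ := by
          ext x
          exact e.apply_symm_apply _
        rw [spMap_comp, h7]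
        ext1
        exact Spec.map_id _
      · have h7 : ((e.symm : _ →ₐ[R] _)).comp (Ideal.Quotient.mkₐ R (I' ^ (s + 1))) = AlgHom.id R _ := by
          ext x
          exact e.symm_apply_apply _
        rw [spMap_comp, h7]
        ext1
        exact Spec.map_id _
    have h8 : Epi (spMap (Ideal.Quotient.mkₐ R (I' ^ (s + 1)))) := inferInstance
    rw [← cancel_epi (spMap (Ideal.Quotient.mkₐ R (I' ^ (s + 1)))), h3, MonObj.comp_one]
  rw [← MonObj.comp_pow] at h1
  have h9 := congrArg (fun w => w.left) (h1.trans (MonObj.comp_one (spMap ψ)).symm)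
  have h10 : (sp R T).left.fromSpecStalk x = (spMap ψ).left := hφ.symm
  exact (congrArg (fun w => w ≫ (z ^ p ^ s).left) h10).trans
    (h9.trans (congrArg (fun w => w ≫ (1 : sp R T ⟶ B).left) h10).symm)

end K521.RigTor
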