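import Groth.Agent.GrpSch.K521.RigLift0
import Groth.Agent.GrpSch.K521.RigK2
import Groth.Agent.GrpSch.K521.RigTor
import Groth.Agent.S6826
import Groth.Agent.SGA1.K151.NilLift

/-!
# Flatness of `D n` over an Artinian base for large `n`
-/

set_option autoImplicit false
set_option linter.unusedSectionVars false
universe u

open CategoryTheory CategoryTheory.Limits MonoidalCategory CartesianMonoidalCategory MonObj GrpObj AlgebraicGeometry

noncomputable section

namespace K521.RigLift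

open K270.MB CoactBr K521.RigChar K521.RigMu K521.RigXQ K521.RigQuot K521.RigPerf K521.RigBun K521.RigFF K521.RigMu2
  K521.RigEC K521.RigK1 K521.RigV K521.RigK2 K521.RigNil K521.RigCmp K521.RigLift0

theorem map_pow_hom {S S' : Scheme.{u}} (g : S' ⟶ S) {X A : Over S} [GrpObj A] (x : X ⟶ A) (n : ℕ) :
    (Over.pullback g).map (x ^ n) = (Over.pullback g).map x ^ n := by
  apply dn_inj g
  rw [dn_pow]
  have h1 : ∀ w : X ⟶ A, dn g ((Over.pullback g).map w) = dn g (𝟙 (Red.bc g X)) ≫ w := fun w => by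
    rw [← dn_map, Category.id_comp]
  rw [h1, h1, MonObj.comp_pow]

theorem map_mul_hom {S S' : Scheme.{u}} (g : S' ⟶ S) {X A : Over S} [GrpObj A] (x y : X ⟶ A) :
    (Over.pullback g).map (x * y) = (Over.pullback g).map x * (Over.pullback g).map y := by
  apply dn_inj g
  rw [dn_mul]
  have h1 : ∀ w : X ⟶ A, dn g ((Over.pullback g).map w) = dn g (𝟙 (Red.bc g X)) ≫ w := fun w => by
    rw [← dn_map, Category.id_comp]
  rw [h1, h1, h1, MonObj.comp_mul]

/-- Lifting of a scheme over the closed fibre of `Spec C` which is syntomic over it. -/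
theorem exists_lift_syn {R : Type u} [CommRing R] (I : Ideal R) {C : Type u} [CommRing C] [Algebra R C]
    [Module.Flat R C] (V : Over (Spec (CommRingCat.of (R ⧸ I)))) [IsAffine V.left] (t : V ⟶ sp (R ⧸ I) (C0 I C))
    (ht : Synt.IsSyntomicMor t.left) :
    ∃ (A' : Type u) (_ : CommRing A') (_ : Algebra R A') (A₀ : Type u) (_ : CommRing A₀) (_ : Algebra R A₀)
      (_ : Algebra (R ⧸ I) A₀) (_ : IsScalarTower R (R ⧸ I) A₀) (j : sp (R ⧸ I) A₀ ≅ V) (ρ : A' →ₐ[R] A₀)
      (σ : A₀ →ₐ[R] A' ⧸ I.map (algebraMap R A'))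
      (γ : C →ₐ[R] A'),
      Module.Flat R A' ∧ Function.Surjective ρ ∧ RingHom.ker ρ = I.map (algebraMap R A') ∧
        σ.comp ρ = Ideal.Quotient.mkₐ R (I.map (algebraMap R A')) ∧
        ((Over.map (cg I)).map j.inv ≫ (th I A₀).hom ≫ pt ρ) ≫ pt γ = (Over.map (cg I)).map t ≫ jC I C := by
  obtain ⟨A₀, _, _, ⟨j⟩⟩ := exists_sp V
  obtain ⟨t', ht'⟩ := exists_pt (j.hom ≫ t)
  let _ : Algebra (C0 I C) A₀ := t'.toRingHom.toAlgebra
  have hsyn : Synt.IsSyntomic (C0 I C) A₀ := by
    rw [← K563.SchNhd.isSyntomicMor_spec_iff]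
    have h1 : Spec.map (CommRingCat.ofHom (algebraMap (C0 I C) A₀)) = j.hom.left ≫ t.left := by
      rw [← Over.comp_left, ← ht']
      rfl
    rw [h1]
    have h2 := isIso_left j
    have h3 : IsOpenImmersion j.hom.left := @IsOpenImmersion.of_isIso _ _ j.hom.left h2
    exact @K563.SchNhd.isSyntomicMor_openImmersion_comp _ _ _ j.hom.left h3 t.left ht
  obtain ⟨A', _, _, hA', ⟨e⟩⟩ := Groth.Agent.S6826.result (R := C) (A₀ := A₀) (I.map (algebraMap R C)) hsyn
  let _ : Algebra R A' := ((algebraMap C A').comp (algebraMap R C)).toAlgebra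
  have htow : IsScalarTower R C A' := IsScalarTower.of_algebraMap_eq fun _ => rfl
  have hfl1 : Module.Flat C A' := hA'.1
  have hfl : Module.Flat R A' := Module.Flat.trans R C A'
  let _ : Algebra R A₀ := ((algebraMap (R ⧸ I) A₀).comp (Ideal.Quotient.mk I)).toAlgebra
  have htow0 : IsScalarTower R (R ⧸ I) A₀ := IsScalarTower.of_algebraMap_eq fun _ => rfl
  let I' : Ideal A' := (I.map (algebraMap R C)).map (algebraMap C A')
  have hI' : I' = I.map (algebraMap R A') := by
    rw [IsScalarTower.algebraMap_eq R C A', ← Ideal.map_map]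
  let ρ : A' →ₐ[R] A₀ :=
    { (e : (A' ⧸ I') →+* A₀).comp (Ideal.Quotient.mk I') with
      commutes' := fun x => by
        have h1 : e (algebraMap (C0 I C) (A' ⧸ I') (algebraMap (R ⧸ I) (C0 I C) (Ideal.Quotient.mk I x))) =
          algebraMap (C0 I C) A₀ (algebraMap (R ⧸ I) (C0 I C) (Ideal.Quotient.mk I x)) := e.commutes _
        have h2 : algebraMap (C0 I C) A₀ (algebraMap (R ⧸ I) (C0 I C) (Ideal.Quotient.mk I x)) =
          algebraMap (R ⧸ I) A₀ (Ideal.Quotient.mk I x) := t'.commutes _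
        exact h1.trans h2 }
  have hρs : Function.Surjective ρ := by
    intro y
    obtain ⟨z, hz⟩ := e.surjective y
    obtain ⟨x, hx⟩ := Ideal.Quotient.mk_surjective z
    exact ⟨x, by rw [← hz, ← hx]; rfl⟩
  have hρk : RingHom.ker ρ = I' := by
    ext x
    rw [RingHom.mem_ker]
    change e (Ideal.Quotient.mk I' x) = 0 ↔ _
    rw [EmbeddingLike.map_eq_zero_iff, Ideal.Quotient.eq_zero_iff_mem]
  have hσ : ∃ σ : A₀ →ₐ[R] A' ⧸ I.map (algebraMap R A'),
      σ.comp ρ = Ideal.Quotient.mkₐ R (I.map (algebraMap R A')) := by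
    rw [← hI']
    refine ⟨{ (e.symm : A₀ →+* (A' ⧸ I')) with
      commutes' := fun x => ?_ }, ?_⟩
    · have h1 : algebraMap R A₀ x = ρ (algebraMap R A' x) := (ρ.commutes x).symm
      change e.symm (algebraMap R A₀ x) = _
      rw [h1]
      exact e.symm_apply_apply _
    · ext x
      exact e.symm_apply_apply _
  obtain ⟨σ, hσ⟩ := hσ
  refine ⟨A', inferInstance, inferInstance, A₀, inferInstance, inferInstance, inferInstance, htow0, j, ρ, σ,
    IsScalarTower.toAlgHom R C A', hfl, hρs, hρk.trans hI', hσ, ?_⟩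
  have h3 : ρ.comp (IsScalarTower.toAlgHom R C A') =
      (t'.restrictScalars R).comp (Ideal.Quotient.mkₐ R (I.map (algebraMap R C))) := by
    ext x
    exact e.commutes (Ideal.Quotient.mk _ x)
  rw [Category.assoc, Category.assoc, ← pt_comp, h3, pt_comp, ← Category.assoc (th I A₀).hom, ← th_pt,
    ← Category.assoc, ← Category.assoc, ← Functor.map_comp, ht', Iso.inv_hom_id_assoc, Category.assoc, jC]

section lift

variable {R : Type u} [CommRing R] {I : Ideal R} {s : ℕ} (hI : I ^ (s + 1) = ⊥) {A' : Type u} [CommRing A'] [Algebra R A']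
  {A₀ : Type u} [CommRing A₀] [Algebra R A₀] (ρ : A' →ₐ[R] A₀) (hρ : Function.Surjective ρ)
  (hk : RingHom.ker ρ = I.map (algebraMap R A')) {A : Over (Spec (CommRingCat.of R))}

include hI hρ hk in
/-- Lifting of points. -/
theorem exists_lift_pt (hA : Smooth A.hom) (α : sp R A₀ ⟶ A) : ∃ α' : sp R A' ⟶ A, pt ρ ≫ α' = α := by
  have hf := ((Groth.Agent.S1488.result A.hom).mp hA).2
  obtain ⟨l, hl1, hl2⟩ := K151.NilLift.exists_lift_surj hf (s + 1) (A := CommRingCat.of A') (B := CommRingCat.of A₀)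
    (CommRingCat.ofHom (ρ : A' →+* A₀)) hρ (by
      change RingHom.ker ρ ^ _ = ⊥
      rw [hk, ← Ideal.map_pow]
      have h1 : I ^ 2 ^ (s + 1) ≤ I ^ (s + 1) := Ideal.pow_le_pow_right Nat.lt_two_pow_self.le
      rw [hI, le_bot_iff] at h1
      rw [h1, Ideal.map_bot]) α.left (Spec.map (CommRingCat.ofHom (algebraMap R A'))) (by
      have h1 : Spec.map (CommRingCat.ofHom (ρ : A' →+* A₀)) ≫ Spec.map (CommRingCat.ofHom (algebraMap R A')) =
          Spec.map (CommRingCat.ofHom (algebraMap R A₀)) := by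
        rw [← Spec.map_comp, ← CommRingCat.ofHom_comp]
        congr 2
        exact ρ.comp_algebraMap
      exact h1.trans (Over.w α).symm)
  refine ⟨Over.homMk l hl2, ?_⟩
  ext
  exact hl1

include hI in
theorem pow_eq_one_of_pt [GrpObj A] {p : ℕ} (hp : (p : R) ∈ I) (σ : A₀ →ₐ[R] A' ⧸ I.map (algebraMap R A'))
    (hσ : σ.comp ρ = Ideal.Quotient.mkₐ R (I.map (algebraMap R A'))) (z : sp R A' ⟶ A) (hz : pt ρ ≫ z = 1) :
    z ^ p ^ s = 1 := by
  refine K521.RigTor.pow_eq_one_of_nil (T := A') A (I.map (algebraMap R A')) p s ?_ ?_ z ?_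
  · have := Ideal.mem_map_of_mem (algebraMap R A') hp
    rwa [map_natCast] at this
  · rw [← Ideal.map_pow, hI, Ideal.map_bot]
  · have h1 : pt (Ideal.Quotient.mkₐ R (I.map (algebraMap R A'))) ≫ z = 1 := by
      rw [← hσ, pt_comp, Category.assoc, hz, MonObj.comp_one]
    exact h1

end lift

end K521.RigLift
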