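import Groth.Agent.GrpSch.K521.RigFF
import Mathlib.RingTheory.AdjoinRoot

/-!
# Roots of unity in a tower `M m = μ_(p^m) ^ r`
-/

set_option autoImplicit false
set_option linter.unusedSectionVars false
universe u

open CategoryTheory CategoryTheory.Limits MonoidalCategory CartesianMonoidalCategory MonObj GrpObj AlgebraicGeometry

noncomputable section

namespace K521.RigMu2

open K270.MB CoactBr K521.RigChar K521.RigMu K521.RigPerf K521.RigBun K521.RigFF

section roots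

open Polynomial

theorem exists_root (N : ℕ) (hN : 0 < N) (B : Type u) [CommRing B] (v : Bˣ) :
    ∃ (B' : Type u) (_ : CommRing B') (_ : Algebra B B'), Module.FaithfullyFlat B B' ∧
      ∃ w : B'ˣ, w ^ N = Units.map (algebraMap B B' : B →* B') v := by
  rcases subsingleton_or_nontrivial B with hB | hB
  · exact ⟨B, inferInstance, inferInstance, inferInstance, 1, Units.ext (Subsingleton.elim _ _)⟩
  · let g : B[X] := X ^ N - C (v : B)
    have hg : g.Monic := monic_X_pow_sub_C _ hN.ne'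
    have hdeg : g.natDegree = N := natDegree_X_pow_sub_C
    let b := (AdjoinRoot.powerBasis' hg).basis
    have hdim : (AdjoinRoot.powerBasis' hg).dim = N := by
      rw [AdjoinRoot.powerBasis'_dim, hdeg]
    have hfree : Module.Free B (AdjoinRoot g) := Module.Free.of_basis b
    have hnt : Nontrivial (AdjoinRoot g) := nontrivial_of_ne _ _ (b.ne_zero ⟨0, by rw [hdim]; exact hN⟩)
    have h1 : (AdjoinRoot.root g) ^ N = algebraMap B (AdjoinRoot g) v := by
      have h2 : AdjoinRoot.mk g g = 0 := AdjoinRoot.mk_self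
      have h3 : AdjoinRoot.mk g g = (AdjoinRoot.root g) ^ N - algebraMap B (AdjoinRoot g) v := by
        change AdjoinRoot.mk g (X ^ N - C (v : B)) = _
        rw [map_sub, map_pow, AdjoinRoot.mk_X]
        rfl
      rw [h3] at h2
      exact sub_eq_zero.1 h2
    have h4 : IsUnit ((AdjoinRoot.root g) ^ N) := by
      rw [h1]
      exact v.isUnit.map _
    have h5 : IsUnit (AdjoinRoot.root g) := (isUnit_pow_iff hN.ne').1 h4
    obtain ⟨w, hw⟩ := h5
    refine ⟨AdjoinRoot g, inferInstance, inferInstance, inferInstance, w, Units.ext ?_⟩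
    rw [Units.val_pow_eq_pow_val, hw, h1]
    rfl

theorem exists_roots (N : ℕ) (hN : 0 < N) (r : ℕ) : ∀ (B : Type u) [CommRing B] (v : Fin r → Bˣ),
    ∃ (B' : Type u) (_ : CommRing B') (_ : Algebra B B'), Module.FaithfullyFlat B B' ∧
      ∃ w : Fin r → B'ˣ, ∀ j, w j ^ N = Units.map (algebraMap B B' : B →* B') (v j) := by
  induction r with
  | zero =>
    intro B _ v
    exact ⟨B, inferInstance, inferInstance, inferInstance, Fin.elim0, fun j => j.elim0⟩
  | succ r ih =>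
    intro B _ v
    obtain ⟨B₁, _, _, hB₁, w₁, hw₁⟩ := ih B (fun j => v j.succ)
    obtain ⟨B₂, _, i2, hB₂, w₂, hw₂⟩ := exists_root N hN B₁ (Units.map (algebraMap B B₁ : B →* B₁) (v 0))
    let _ : Algebra B B₂ := ((algebraMap B₁ B₂).comp (algebraMap B B₁)).toAlgebra
    have : IsScalarTower B B₁ B₂ := IsScalarTower.of_algebraMap_eq fun _ => rfl
    refine ⟨B₂, inferInstance, inferInstance, Module.FaithfullyFlat.trans B B₁ B₂,
      Fin.cons w₂ (fun j => Units.map (algebraMap B₁ B₂ : B₁ →* B₂) (w₁ j)), fun j => ?_⟩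
    refine Fin.cases ?_ (fun j => ?_) j
    · rw [Fin.cons_zero, hw₂]
      rfl
    · rw [Fin.cons_succ, ← map_pow, hw₁]
      rfl

end roots

section tower

variable {S : Scheme.{u}} {p r h : ℕ} (B : Bun S p r h)

/-- Points of `A` in `D n`. -/
def InD (n : ℕ) {T : Over S} (x : T ⟶ B.A) : Prop := Fac (B.d n ≫ B.f n) x

/-- Points of `A` in `M n`. -/
def InM (n : ℕ) {T : Over S} (x : T ⟶ B.A) : Prop := Fac (B.i n ≫ B.f n) x

variable {B}

theorem fac_comp {X Y : Over S} {i : X ⟶ Y} {T T' : Over S} {x : T ⟶ Y} (h : Fac i x) (g : T' ⟶ T) :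
    Fac i (g ≫ x) := by
  obtain ⟨y, rfl⟩ := h
  exact ⟨g ≫ y, by rw [Category.assoc]⟩

theorem fac_mul {X Y : Over S} [GrpObj X] [GrpObj Y] {i : X ⟶ Y} [IsMonHom i] {T : Over S} {x y : T ⟶ Y}
    (h : Fac i x) (h' : Fac i y) : Fac i (x * y) := by
  obtain ⟨a, rfl⟩ := h
  obtain ⟨b, rfl⟩ := h'
  exact ⟨a * b, by rw [MonObj.mul_comp]⟩

theorem fac_inv {X Y : Over S} [GrpObj X] [GrpObj Y] {i : X ⟶ Y} [IsMonHom i] {T : Over S} {x : T ⟶ Y}
    (h : Fac i x) : Fac i x⁻¹ := by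
  obtain ⟨a, rfl⟩ := h
  exact ⟨a⁻¹, by rw [RigQuot.inv_comp]⟩

theorem fac_pow {X Y : Over S} [GrpObj X] [GrpObj Y] {i : X ⟶ Y} [IsMonHom i] {T : Over S} {x : T ⟶ Y}
    (h : Fac i x) (n : ℕ) : Fac i (x ^ n) := by
  obtain ⟨a, rfl⟩ := h
  exact ⟨a ^ n, by rw [MonObj.pow_comp]⟩

theorem InM.comp {n : ℕ} {T T' : Over S} {x : T ⟶ B.A} (hx : InM B n x) (g : T' ⟶ T) : InM B n (g ≫ x) := fac_comp hx g

theorem InD.comp {n : ℕ} {T T' : Over S} {x : T ⟶ B.A} (hx : InD B n x) (g : T' ⟶ T) : InD B n (g ≫ x) := fac_comp hx g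

theorem InM.mul {n : ℕ} {T : Over S} {x y : T ⟶ B.A} (hx : InM B n x) (hy : InM B n y) : InM B n (x * y) := fac_mul hx hy

theorem InD.mul {n : ℕ} {T : Over S} {x y : T ⟶ B.A} (hx : InD B n x) (hy : InD B n y) : InD B n (x * y) := fac_mul hx hy

theorem InM.inv {n : ℕ} {T : Over S} {x : T ⟶ B.A} (hx : InM B n x) : InM B n x⁻¹ := fac_inv hx

theorem InD.inv {n : ℕ} {T : Over S} {x : T ⟶ B.A} (hx : InD B n x) : InD B n x⁻¹ := fac_inv hx

theorem InM.pow {n : ℕ} {T : Over S} {x : T ⟶ B.A} (hx : InM B n x) (j : ℕ) : InM B n (x ^ j) := fac_pow hx j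

theorem InD.pow {n : ℕ} {T : Over S} {x : T ⟶ B.A} (hx : InD B n x) (j : ℕ) : InD B n (x ^ j) := fac_pow hx j

theorem InM.tors {n : ℕ} {T : Over S} {x : T ⟶ B.A} (hx : InM B n x) : x ^ p ^ n = 1 := by
  obtain ⟨y, rfl⟩ := hx
  rw [← Category.assoc]
  exact pow_f B n _

theorem InD.tors {n : ℕ} {T : Over S} {x : T ⟶ B.A} (hx : InD B n x) : x ^ p ^ n = 1 := by
  obtain ⟨y, rfl⟩ := hx
  rw [← Category.assoc]
  exact pow_f B n _

theorem InM.inD {n : ℕ} {T : Over S} {x : T ⟶ B.A} (hx : InM B n x) : InD B n x := by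
  obtain ⟨y, rfl⟩ := hx
  obtain ⟨z, hz⟩ := (B.rad n (y ≫ B.i n)).2 (fun g y' => by
    rw [← Category.assoc]
    exact B.mu_left n _ _)
  exact ⟨z, by rw [← Category.assoc, hz, Category.assoc]⟩

variable (B) in
theorem exists_tt (n j : ℕ) : ∃ s : B.M n ⟶ B.M (n + j), s ≫ B.i (n + j) ≫ B.f (n + j) = B.i n ≫ B.f n ∧
    ∀ l, ures s (B.χ (n + j) l) = B.χ n l := by
  induction j with
  | zero => exact ⟨𝟙 _, by rw [Category.id_comp]; rfl, fun l => ures_id _⟩
  | succ j ih =>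
    obtain ⟨s, hs, hχ⟩ := ih
    refine ⟨s ≫ B.t (n + j), ?_, fun l => ?_⟩
    · have h1 := B.ht (n + j)
      rw [Category.assoc]
      rw [← hs, ← h1]
      rfl
    · rw [ures_comp]
      have h1 := B.htχ (n + j) l
      exact (congrArg (ures s) h1).trans (hχ l)

theorem InM.up {n N : ℕ} (hN : n ≤ N) {T : Over S} {x : T ⟶ B.A} (hx : InM B n x) : InM B N x := by
  obtain ⟨j, rfl⟩ := Nat.exists_eq_add_of_le hN
  obtain ⟨s, hs, -⟩ := exists_tt B n j
  obtain ⟨y, rfl⟩ := hx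
  exact ⟨y ≫ s, by rw [Category.assoc, hs]⟩

theorem ext_mu {N r : ℕ} {M : Over S} [GrpObj M] {χ : Fin r → U M} (hM : IsMu N r M χ) {T : Over S} {x y : T ⟶ M}
    (h : ∀ j, ures x (χ j) = ures y (χ j)) : x = y := by
  have hv : ∀ j, (ures y (χ j)) ^ N = 1 := fun j => by rw [← map_pow, hM.pow, map_one]
  exact (hM.bij (fun j => ures y (χ j)) hv).unique h fun _ => rfl

theorem ures_mu_pow {N r : ℕ} {M : Over S} [GrpObj M] {χ : Fin r → U M} (hM : IsMu N r M χ) {T : Over S} (x : T ⟶ M)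
    (j : Fin r) (n : ℕ) : ures (x ^ n) (χ j) = ures x (χ j) ^ n := by
  induction n with
  | zero =>
    rw [_root_.pow_zero, _root_.pow_zero]
    have h1 := hM.mul (1 : T ⟶ M) 1 j
    rw [_root_.one_mul] at h1
    exact mul_eq_left.1 h1.symm
  | succ n ih => rw [_root_.pow_succ, _root_.pow_succ, hM.mul, ih]

theorem InM.down {n N : ℕ} (hN : n ≤ N) {T : Over S} {x : T ⟶ B.A} (hx : InM B N x) (h1 : x ^ p ^ n = 1) :
    InM B n x := by
  obtain ⟨j, rfl⟩ := Nat.exists_eq_add_of_le hN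
  obtain ⟨s, hs, hχ⟩ := exists_tt B n j
  obtain ⟨y, rfl⟩ := hx
  have hy : y ^ p ^ n = 1 := by
    rw [← cancel_mono (B.i (n + j) ≫ B.f (n + j)), MonObj.pow_comp, MonObj.one_comp, h1]
  obtain ⟨z, hz, -⟩ := (B.mu n).bij (fun l => ures y (B.χ (n + j) l)) (fun l => by
    rw [← ures_mu_pow (B.mu (n + j)), hy]
    have h2 := ures_mu_pow (B.mu (n + j)) (1 : T ⟶ B.M (n + j)) l 0
    rw [_root_.pow_zero, _root_.pow_zero] at h2
    exact h2)
  have h3 : z ≫ s = y := by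
    apply ext_mu (B.mu (n + j))
    intro l
    rw [ures_comp, hχ, hz]
  exact ⟨z, by rw [← h3, Category.assoc, hs]⟩

end tower

section loc

variable {R : Type u} [CommRing R] {p r h : ℕ} {B : Bun (Spec (CommRingCat.of R)) p r h}

theorem isFF_pt {E E' : Type u} [CommRing E] [Algebra R E] [CommRing E'] [Algebra R E'] (φ : E →ₐ[R] E')
    (hφ : (φ : E →+* E').FaithfullyFlat) : IsFF (pt φ) := by
  have h1 := (flat_and_surjective_SpecMap_iff (CommRingCat.ofHom (φ : E →+* E'))).2 hφ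
  exact ⟨h1.1, h1.2, inferInstanceAs (QuasiCompact (Spec.map (CommRingCat.ofHom (φ : E →+* E'))))⟩

theorem exists_toK_unit {E : Type u} [CommRing E] [Algebra R E] (v : Eˣ) : ∃ w : U (sp R E), toK w = v :=
  exists_toK (k := R) (b := (v⁻¹ : Eˣ)) (Units.mul_inv v)

variable (B) in
/-- Divisibility of `M`. -/
theorem exists_div₀ (hp : 0 < p) (n j : ℕ) : ∃ (T : Over (Spec (CommRingCat.of R))) (g : T ⟶ B.M n) (y : T ⟶ B.M (n + j)),
    IsFF g ∧ (y ≫ B.i (n + j) ≫ B.f (n + j)) ^ p ^ j = g ≫ B.i n ≫ B.f n := by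
  obtain ⟨s, hs, hχ⟩ := exists_tt B n j
  have : IsAffine (B.M n).left := isAffine_of_isAffineHom (B.M n).hom
  obtain ⟨E, _, _, ⟨e⟩⟩ := exists_sp (B.M n)
  let v : Fin r → Eˣ := fun l => Units.mkOfMulEqOne (toK (ures e.hom (B.χ n l))) (toK (ures e.hom (B.χ n l))⁻¹) (by
    rw [← toK_mul, mul_inv_cancel, toK_one])
  have hv : ∀ l, (v l : E) = toK (ures e.hom (B.χ n l)) := fun l => rfl
  obtain ⟨E', _, _, hE', w, hw⟩ := exists_roots (p ^ j) (Nat.pow_pos hp) r E v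
  let _ : Algebra R E' := ((algebraMap E E').comp (algebraMap R E)).toAlgebra
  have : IsScalarTower R E E' := IsScalarTower.of_algebraMap_eq fun _ => rfl
  let φ : E →ₐ[R] E' := IsScalarTower.toAlgHom R E E'
  have hφ : IsFF (pt φ) := isFF_pt φ (by
    change (algebraMap E E').FaithfullyFlat
    rwa [RingHom.faithfullyFlat_algebraMap_iff])
  have hw' : ∀ l, ∃ w' : U (sp R E'), toK w' = w l := fun l => exists_toK_unit (w l)
  choose w' hw' using hw'
  have hkey : ∀ l, w' l ^ p ^ j = ures (pt φ) (ures e.hom (B.χ n l)) := by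
    intro l
    apply toK_inj
    rw [toK_pow, hw', toK_ures, ← hv]
    exact congrArg Units.val (hw l)
  obtain ⟨y, hy, -⟩ := (B.mu (n + j)).bij w' (fun l => by
    have h1 : w' l ^ p ^ (n + j) = (w' l ^ p ^ j) ^ p ^ n := by rw [← pow_mul, ← pow_add, add_comm j n]
    rw [h1, hkey, ← map_pow, ← map_pow, (B.mu n).pow, map_one, map_one])
  refine ⟨sp R E', pt φ ≫ e.hom, y, (IsFF.of_iso e).comp hφ, ?_⟩
  have h2 : y ^ p ^ j = (pt φ ≫ e.hom) ≫ s := by
    apply ext_mu (B.mu (n + j))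
    intro l
    rw [ures_mu_pow (B.mu (n + j)), hy, hkey, ures_comp, hχ, ures_comp]
  rw [← MonObj.pow_comp, h2, Category.assoc, hs]

theorem InM.exists_div (hp : 0 < p) {n N : ℕ} (j : ℕ) (hN : N = n + j) {T : Over (Spec (CommRingCat.of R))} {x : T ⟶ B.A}
    (hx : InM B n x) : ∃ (T' : Over (Spec (CommRingCat.of R))) (g : T' ⟶ T) (y : T' ⟶ B.A), IsFF g ∧ InM B N y ∧
      y ^ p ^ j = g ≫ x := by
  subst hN
  obtain ⟨T₀, g₀, y₀, hg₀, hy₀⟩ := exists_div₀ B hp n j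
  obtain ⟨x', rfl⟩ := hx
  obtain ⟨T', g, z, hg, hz⟩ := hg₀.exists_lift x'
  refine ⟨T', g, (z ≫ y₀) ≫ B.i (n + j) ≫ B.f (n + j), hg, ⟨_, rfl⟩, ?_⟩
  rw [Category.assoc, ← MonObj.comp_pow, hy₀, ← Category.assoc, hz, Category.assoc]

variable [IsLocalRing R] [IsNoetherianRing R]

theorem exists_q' (B : Bun (Spec (CommRingCat.of R)) p r h) (hp : 0 < p) {n N : ℕ} (j : ℕ) (hN : N = n + j) :
    ∃ q : B.F N ⟶ B.F n, IsMonHom q ∧ q ≫ B.f n = B.f N ^ p ^ j ∧ IsFF q := by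
  subst hN
  exact exists_q B hp n j

theorem inD_iff (hp : 0 < p) {n N : ℕ} (hN : n ≤ N) {T : Over (Spec (CommRingCat.of R))} {x : T ⟶ B.A}
    (hx : x ^ p ^ n = 1) : InD B N x ↔ InD B n x := by
  obtain ⟨j, rfl⟩ := Nat.exists_eq_add_of_le hN
  obtain ⟨q, hq, hqf, hqff⟩ := exists_q B hp n j
  obtain ⟨x₀, rfl⟩ := B.tors n x hx
  obtain ⟨x', hx'⟩ := exists_F B hN x₀
  have h1 : InD B n (x₀ ≫ B.f n) ↔ Fac (B.d n) x₀ := by
    constructor
    · rintro ⟨z, hz⟩
      exact ⟨z, by rw [← cancel_mono (B.f n), Category.assoc, hz]⟩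
    · rintro ⟨z, hz⟩
      exact ⟨z, by rw [← Category.assoc, hz]⟩
  have h2 : InD B (n + j) (x₀ ≫ B.f n) ↔ Fac (B.d (n + j)) x' := by
    rw [← hx']
    constructor
    · rintro ⟨z, hz⟩
      exact ⟨z, by rw [← cancel_mono (B.f (n + j)), Category.assoc, hz]⟩
    · rintro ⟨z, hz⟩
      exact ⟨z, by rw [← Category.assoc, hz]⟩
  have key : ∀ {T' : Over (Spec (CommRingCat.of R))} (g : T' ⟶ T) (y : T' ⟶ B.F (n + j)),
      (B.e (n + j)).e (g ≫ x') y = (B.e n).e (g ≫ x₀) (y ≫ q) := by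
    intro T' g y
    apply compat' B n j
    · rw [Category.assoc, hx', Category.assoc]
    · rw [Category.assoc, hqf, MonObj.comp_pow]
  rw [h1, h2, B.rad, B.rad]
  constructor
  · intro h T' g y
    obtain ⟨T'', g', y', hg', hy'⟩ := hqff.exists_lift y
    apply hg'.injective
    rw [map_one, ← (B.e n).nat, ← Category.assoc, ← hy', ← key]
    exact h _ _
  · intro h T' g y
    rw [key]
    exact h _ _

end loc

end K521.RigMu2
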