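import Groth.Agent.GrpSch.K521.RigCmp
import Groth.Agent.GrpSch.K521.RigMu2

/-!
# Preparations for the lifting argument
-/

set_option autoImplicit false
set_option linter.unusedSectionVars false
universe u

open CategoryTheory CategoryTheory.Limits MonoidalCategory CartesianMonoidalCategory MonObj GrpObj AlgebraicGeometry

noncomputable section

namespace K521.RigLift0

open K270.MB CoactBr K521.RigChar K521.RigMu K521.RigXQ K521.RigPerf K521.RigBun K521.RigFF K521.RigNil K521.RigCmp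

/-! ## Powers of elements congruent to one -/

theorem pow_sub_mem {E : Type*} [CommRing E] (K : Ideal E) (p : ℕ) (hp : (p : E) ∈ K) (x : E) (hx : x - 1 ∈ K) (l : ℕ) :
    x ^ p ^ l - 1 ∈ K ^ (l + 1) := by
  induction l with
  | zero => simpa using hx
  | succ l ih =>
    have h1 : x ^ p ^ (l + 1) - 1 = (x ^ p ^ l - 1) * ∑ i ∈ Finset.range p, (x ^ p ^ l) ^ i := by
      rw [mul_geom_sum, ← pow_mul, ← pow_succ]
    have h2 : ∑ i ∈ Finset.range p, (x ^ p ^ l) ^ i ∈ K := by
      rw [← Ideal.Quotient.eq_zero_iff_mem, map_sum]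
      have h3 : Ideal.Quotient.mk K (x ^ p ^ l) = 1 := by
        have h4 : x ^ p ^ l - 1 ∈ K := Ideal.pow_le_self (by omega) ih
        have h5 := Ideal.Quotient.eq.2 h4
        rw [h5, map_one]
      have h6 : ∀ i ∈ Finset.range p, Ideal.Quotient.mk K ((x ^ p ^ l) ^ i) = 1 := fun i _ => by
        rw [map_pow, h3, one_pow]
      rw [Finset.sum_congr rfl h6, Finset.sum_const, Finset.card_range, nsmul_eq_mul, _root_.mul_one, ← map_natCast
        (Ideal.Quotient.mk K), Ideal.Quotient.eq_zero_iff_mem]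
      exact hp
    rw [h1, pow_succ]
    exact Ideal.mul_mem_mul ih h2

variable {R : Type u} [CommRing R]

/-- A unit which is trivial on the closed fibre is killed by a power of `p`. -/
theorem unit_pow_eq_one (I : Ideal R) (p s : ℕ) (hp : (p : R) ∈ I) (hI : I ^ (s + 1) = ⊥)
    (W : Over (Spec (CommRingCat.of R))) [IsAffine W.left] (u : U W)
    (hu : ∀ (Z : Over (Spec (CommRingCat.of (R ⧸ I)))) (z : (Over.map (cg I)).obj Z ⟶ W), ures z u = 1) :
    u ^ p ^ s = 1 := by
  obtain ⟨E, _, _, ⟨j⟩⟩ := exists_sp W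
  have h0 := hu (sp (R ⧸ I) (C0 I E)) (jC I E ≫ j.hom)
  rw [ures_comp, jC, ures_comp] at h0
  have h1 := congrArg (ures (th I (C0 I E)).inv) h0
  rw [← ures_comp, Iso.inv_hom_id, ures_id, map_one] at h1
  have h2 := congrArg toK h1
  rw [toK_ures, toK_one] at h2
  have h3 : toK (ures j.hom u) - 1 ∈ I.map (algebraMap R E) := by
    rw [← Ideal.Quotient.eq_zero_iff_mem, map_sub, map_one, sub_eq_zero]
    exact h2
  have h4 := pow_sub_mem _ p (by
    have := Ideal.mem_map_of_mem (algebraMap R E) hp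
    rwa [map_natCast] at this) _ h3 s
  rw [← Ideal.map_pow, hI, Ideal.map_bot] at h4
  have h5 : toK (ures j.hom (u ^ p ^ s)) = 1 := by
    rw [map_pow, toK_pow]
    exact sub_eq_zero.1 h4
  have h6 : ures j.hom (u ^ p ^ s) = ures j.hom 1 := by
    rw [map_one]
    apply toK_inj
    rw [h5, toK_one]
  exact (ures_iso_bij j.hom).1 h6

/-! ## Flatness of `μ_N ^ r` -/

theorem flat_mu {M : Over (Spec (CommRingCat.of R))} [GrpObj M] {N r : ℕ} [NeZero N] {χ : Fin r → U M}
    (hM : IsMu N r M χ) [IsAffine M.left] : Flat M.hom := by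
  obtain ⟨E, _, _, ⟨j⟩⟩ := exists_sp M
  obtain ⟨ρ, hρ⟩ := exists_pnt hM j.hom
  let ρ₀ : Gm N r →* MonoidAlgebra R (Gm N r) := MonoidAlgebra.of R (Gm N r)
  let φ : MonoidAlgebra R (Gm N r) →ₐ[R] E := MonoidAlgebra.lift R E (Gm N r) ρ
  have hφ : (φ : MonoidAlgebra R (Gm N r) →* E).comp ρ₀ = ρ := by
    ext x
    exact MonoidAlgebra.lift_single _ _ _ |>.trans (one_smul _ _)
  obtain ⟨ψ, hψ⟩ := exists_pt (pnt hM ρ₀ ≫ j.inv)
  have h1 : φ.comp ψ = AlgHom.id R E := by
    apply pt_injective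
    rw [pt_comp, hψ, ← Category.assoc, pnt_comp, hφ, hρ, Iso.hom_inv_id, pt_id]
  have h2 : Module.Flat R E := Module.Flat.of_retract ψ.toLinearMap φ.toLinearMap (by
    ext x
    exact congrArg (fun f : E →ₐ[R] E => f x) h1)
  have h3 := isIso_left j
  have hw : j.hom.left ≫ M.hom = Spec.map (CommRingCat.ofHom (algebraMap R E)) := Over.w j.hom
  have h4 : Flat (Spec.map (CommRingCat.ofHom (algebraMap R E))) := by
    rw [Flat.SpecMap_iff]
    exact (RingHom.flat_algebraMap_iff (R := R) (S := E)).mpr h2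
  have h5 : M.hom = inv j.hom.left ≫ Spec.map (CommRingCat.ofHom (algebraMap R E)) := by
    rw [← hw, IsIso.inv_hom_id_assoc]
  rw [h5]
  exact MorphismProperty.comp_mem _ _ _ (inferInstance : Flat (inv j.hom.left)) h4

/-! ## The closed fibre of `Spec A'` -/

theorem isPushout_of_ker {A B C D : CommRingCat.{u}} (f : A ⟶ B) (g : A ⟶ C) (i : B ⟶ D) (j : C ⟶ D)
    (w : f ≫ i = g ≫ j) (hg : Function.Surjective g.hom) (hi : Function.Surjective i.hom)
    (hk : RingHom.ker i.hom = (RingHom.ker g.hom).map f.hom) : IsPushout f g i j := by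
  have hker : ∀ {X : CommRingCat.{u}} (a : B ⟶ X) (b : C ⟶ X), f ≫ a = g ≫ b →
      RingHom.ker i.hom ≤ RingHom.ker a.hom := by
    intro X a b hab
    rw [hk, Ideal.map_le_iff_le_comap]
    intro x hx
    rw [RingHom.mem_ker] at hx
    rw [Ideal.mem_comap, RingHom.mem_ker]
    have h1 : a.hom (f.hom x) = b.hom (g.hom x) := congrArg (fun z => z.hom x) hab
    rw [h1, hx, map_zero]
  let desc : ∀ s : PushoutCocone f g, D →+* s.pt := fun s =>
    RingHom.liftOfRightInverse i.hom (Function.surjInv hi) (Function.rightInverse_surjInv hi)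
      ⟨s.inl.hom, hker s.inl s.inr s.condition⟩
  have hd : ∀ (s : PushoutCocone f g) (x : B), desc s (i.hom x) = s.inl.hom x := fun s x =>
    RingHom.liftOfRightInverse_comp_apply i.hom (Function.surjInv hi) (Function.rightInverse_surjInv hi)
      ⟨s.inl.hom, hker s.inl s.inr s.condition⟩ x
  refine ⟨⟨w⟩, ⟨PushoutCocone.IsColimit.mk _ (fun s => CommRingCat.ofHom (desc s)) ?_ ?_ ?_⟩⟩
  · intro s
    ext x
    exact hd s x
  · intro s
    ext y
    obtain ⟨x, rfl⟩ := hg y
    have h1 : j.hom (g.hom x) = i.hom (f.hom x) := congrArg (fun z => z.hom x) w.symm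
    have h2 : s.inr.hom (g.hom x) = s.inl.hom (f.hom x) := congrArg (fun z => z.hom x) s.condition.symm
    change desc s (j.hom (g.hom x)) = s.inr.hom (g.hom x)
    rw [h1, h2, hd]
  · intro s m h1 _
    ext y
    obtain ⟨x, rfl⟩ := hi y
    exact (congrArg (fun z => z.hom x) h1).trans (hd s x).symm

/-- The closed fibre of `Spec A'`. -/
theorem isIso_omega (I : Ideal R) {A' : Type u} [CommRing A'] [Algebra R A'] {A₀ : Type u} [CommRing A₀] [Algebra R A₀]
    [Algebra (R ⧸ I) A₀] [IsScalarTower R (R ⧸ I) A₀] (ρ : A' →ₐ[R] A₀) (hρ : Function.Surjective ρ)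
    (hk : RingHom.ker ρ = I.map (algebraMap R A')) :
    IsIso (upp (cg I) ((th I A₀).hom ≫ pt ρ) : sp (R ⧸ I) A₀ ⟶ Red.bc (cg I) (sp R A')) := by
  have sq := isPullback_SpecMap_of_isPushout _ _ _ _ (isPushout_of_ker (CommRingCat.ofHom (algebraMap R A'))
    (CommRingCat.ofHom (Ideal.Quotient.mk I)) (CommRingCat.ofHom (ρ : A' →+* A₀))
    (CommRingCat.ofHom (algebraMap (R ⧸ I) A₀)) (by
      ext r
      change ρ (algebraMap R A' r) = algebraMap (R ⧸ I) A₀ (algebraMap R (R ⧸ I) r)
      rw [AlgHom.commutes, ← IsScalarTower.algebraMap_apply]) Ideal.Quotient.mk_surjective hρ (by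
      change RingHom.ker ρ = (RingHom.ker (Ideal.Quotient.mk I)).map (algebraMap R A')
      rw [hk, Ideal.mk_ker]))
  have h1 : (upp (cg I) ((th I A₀).hom ≫ pt ρ)).left = sq.isoPullback.hom := by
    apply pullback.hom_ext
    · have h2 := congrArg (fun z => z.left) (dn_upp (cg I) ((th I A₀).hom ≫ pt ρ))
      exact (h2.trans (Category.id_comp _)).trans sq.isoPullback_hom_fst.symm
    · exact (Over.w (upp (cg I) ((th I A₀).hom ≫ pt ρ))).trans sq.isoPullback_hom_snd.symm
  have h2 : IsIso ((Over.forget _).map (upp (cg I) ((th I A₀).hom ≫ pt ρ))) := by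
    change IsIso (upp (cg I) ((th I A₀).hom ≫ pt ρ)).left
    rw [h1]
    infer_instance
  exact isIso_of_reflects_iso _ (Over.forget _)

end K521.RigLift0
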