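import Groth.Agent.GrpSch.K521.RigFF
import Groth.Agent.S0400
import Groth.Agent.S0396

/-!
# Fibral flatness over a nilpotent thickening
-/

set_option autoImplicit false
set_option linter.unusedSectionVars false
universe u

open CategoryTheory CategoryTheory.Limits MonoidalCategory CartesianMonoidalCategory MonObj GrpObj AlgebraicGeometry

noncomputable section

namespace K521.RigNil

open K270.MB CoactBr TensorProduct K521.RigChar K521.RigMu K521.RigXQ K521.RigPerf K521.RigBun K521.RigFF

variable {R : Type u} [CommRing R]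

/-- The closed immersion of the quotient. -/
abbrev cg (I : Ideal R) : Spec (CommRingCat.of (R ⧸ I)) ⟶ Spec (CommRingCat.of R) :=
  Spec.map (CommRingCat.ofHom (Ideal.Quotient.mk I))

theorem comap_surjective_of_nil {E : Type u} [CommRing E] (J : Ideal E) (hJ : IsNilpotent J) :
    Function.Surjective (Spec.map (CommRingCat.ofHom (Ideal.Quotient.mk J))) := by
  have h0 : Function.Surjective (PrimeSpectrum.comap (Ideal.Quotient.mk J)) := by
    intro z
    have h1 : z ∈ Set.range (PrimeSpectrum.comap (Ideal.Quotient.mk J)) := by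
      rw [range_comap_of_surjective _ _ Ideal.Quotient.mk_surjective, Ideal.mk_ker, PrimeSpectrum.mem_zeroLocus]
      obtain ⟨n, hn⟩ := hJ
      have h2 : J ^ n ≤ z.asIdeal := by rw [hn]; exact bot_le
      exact z.isPrime.le_of_pow_le h2
    exact h1
  exact h0

/-- Fibral flatness. -/
theorem ff_of_bc (I : Ideal R) (hI : IsNilpotent I) {X Z : Over (Spec (CommRingCat.of R))} [IsAffine X.left]
    [IsAffine Z.left] [Flat X.hom] (u : X ⟶ Z) (h : IsFF ((Over.pullback (cg I)).map u)) : IsFF u := by
  obtain ⟨B, _, _, ⟨i⟩⟩ := exists_sp X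
  obtain ⟨E, _, _, ⟨j⟩⟩ := exists_sp Z
  obtain ⟨ψ, hψ⟩ := exists_pt (i.hom ≫ u ≫ j.inv)
  let _ : Algebra E B := ψ.toRingHom.toAlgebra
  have : IsScalarTower R E B := IsScalarTower.of_algebraMap_eq fun x => (ψ.commutes x).symm
  have hil := isIso_left i
  have hBflat : Module.Flat R B := by
    have hw : i.hom.left ≫ X.hom = Spec.map (CommRingCat.ofHom (algebraMap R B)) := Over.w i.hom
    have h1 : Flat (i.hom.left ≫ X.hom) := inferInstance
    rw [hw] at h1
    have h2 : Flat (Spec.map (CommRingCat.ofHom (algebraMap R B))) := h1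
    rw [Flat.SpecMap_iff] at h2
    exact (RingHom.flat_algebraMap_iff (R := R) (S := B)).mp h2
  -- reduction to affine
  have hu' : u = i.inv ≫ pt ψ ≫ j.hom := by rw [hψ]; simp
  have h' : IsFF ((Over.pullback (cg I)).map (pt ψ)) := by
    rw [hψ, Functor.map_comp, Functor.map_comp]
    exact ((IsFF.of_iso ((Over.pullback (cg I)).mapIso j.symm)).comp h).comp
      (IsFF.of_iso ((Over.pullback (cg I)).mapIso i))
  let J : Ideal E := I.map (algebraMap R E)
  have hJ : IsNilpotent J := by
    obtain ⟨n, hn⟩ := hI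
    exact ⟨n, by rw [← Ideal.map_pow, hn]; exact Ideal.map_bot⟩
  let E₀ := E ⧸ J
  let s : R ⧸ I →+* E₀ := Ideal.quotientMap J (algebraMap R E) Ideal.le_comap_map
  let mk' : Spec (CommRingCat.of E₀) ⟶ Spec (CommRingCat.of E) := Spec.map (CommRingCat.ofHom (Ideal.Quotient.mk J))
  have hmk' : Function.Surjective mk' := comap_surjective_of_nil J hJ
  let c : Spec (CommRingCat.of E₀) ⟶ ((Over.pullback (cg I)).obj (sp R E)).left :=
    pullback.lift mk' (Spec.map (CommRingCat.ofHom s)) (by
      change Spec.map _ ≫ Spec.map _ = Spec.map _ ≫ Spec.map _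
      rw [← Spec.map_comp, ← Spec.map_comp]
      rfl)
  have hc : c ≫ pullback.fst (sp R E).hom (cg I) = mk' := pullback.lift_fst _ _ _
  have sq1 := isPullback_map (cg I) (pt ψ)
  have sq2 := IsPullback.of_hasPullback ((Over.pullback (cg I)).map (pt ψ)).left c
  have sq3 := sq2.paste_horiz sq1.flip
  rw [hc] at sq3
  have i1 := h'.flat
  have i2 := h'.surj
  -- flatness modulo `J`
  have hflat0 : Module.Flat E₀ (E₀ ⊗[E] B) := by
    have sq4 := isPullback_SpecMap_of_isPushout _ _ _ _ (CommRingCat.isPushout_tensorProduct E E₀ B)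
    have h1 : Flat (Spec.map (CommRingCat.ofHom (Algebra.TensorProduct.includeLeftRingHom : E₀ →+* E₀ ⊗[E] B))) := by
      have h2 := IsPullback.isoIsPullback_hom_snd _ _ sq4.flip sq3
      rw [← h2]
      infer_instance
    rw [Flat.SpecMap_iff] at h1
    exact (RingHom.flat_algebraMap_iff (R := E₀) (S := E₀ ⊗[E] B)).mp h1
  have hfl : Module.Flat E B := Groth.Agent.S0400.result (R := R) (S := E) (M := B) I hI hflat0
  have hpt : IsFF (pt ψ) := by
    refine ⟨?_, ?_, inferInstanceAs (QuasiCompact (Spec.map (CommRingCat.ofHom ψ.toRingHom)))⟩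
    · change Flat (Spec.map (CommRingCat.ofHom (algebraMap E B)))
      rw [Flat.SpecMap_iff]
      exact (RingHom.flat_algebraMap_iff (R := E) (S := B)).mpr hfl
    · constructor
      intro z
      obtain ⟨z₀, hz₀⟩ := hmk' z
      obtain ⟨w, hw⟩ := ((Over.pullback (cg I)).map (pt ψ)).left.surjective (c z₀)
      refine ⟨(pullback.fst (sp R B).hom (cg I)) w, ?_⟩
      have h1 : (pt ψ).left ((pullback.fst (sp R B).hom (cg I)) w) =
          (pullback.fst (sp R B).hom (cg I) ≫ (pt ψ).left) w := (Scheme.Hom.comp_apply _ _ _).symm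
      have h2 : (((Over.pullback (cg I)).map (pt ψ)).left ≫ pullback.fst (sp R E).hom (cg I)) w =
          pullback.fst (sp R E).hom (cg I) (((Over.pullback (cg I)).map (pt ψ)).left w) := Scheme.Hom.comp_apply _ _ _
      have h3 : (c ≫ pullback.fst (sp R E).hom (cg I)) z₀ = pullback.fst (sp R E).hom (cg I) (c z₀) :=
        Scheme.Hom.comp_apply _ _ _
      rw [h1, ← sq1.w, h2, hw, ← h3, hc]
      exact hz₀
  rw [hu']
  exact ((IsFF.of_iso j).comp hpt).comp (IsFF.of_iso i.symm)

theorem flat_of_bc (I : Ideal R) (hI : IsNilpotent I) {X Z : Over (Spec (CommRingCat.of R))} [IsAffine X.left]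
    [IsAffine Z.left] [Flat X.hom] (u : X ⟶ Z) (h : IsFF ((Over.pullback (cg I)).map u)) : Flat Z.hom := by
  have h1 := ff_of_bc I hI u h
  have i1 := h1.flat
  have i2 := h1.surj
  have hw : u.left ≫ Z.hom = X.hom := Over.w u
  have i3 : Flat (u.left ≫ Z.hom) := by rw [hw]; infer_instance
  exact Groth.Agent.Sga3C.FlatOfComp.flat_of_comp u.left Z.hom

/-- The local criterion for finite schemes over a Noetherian local ring. -/
theorem flat_of_forall [IsLocalRing R] [IsNoetherianRing R] (X : Over (Spec (CommRingCat.of R))) [IsFinite X.hom]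
    (h : ∀ n : ℕ, 0 < n → Flat (Red.bc (cg (IsLocalRing.maximalIdeal R ^ n)) X).hom) : Flat X.hom := by
  have : IsAffine X.left := isAffine_of_isAffineHom X.hom
  obtain ⟨B, _, _, ⟨i⟩⟩ := exists_sp X
  have hil := isIso_left i
  have hw : i.hom.left ≫ X.hom = Spec.map (CommRingCat.ofHom (algebraMap R B)) := Over.w i.hom
  have hfin : Module.Finite R B := by
    have h1 : IsFinite (i.hom.left ≫ X.hom) := inferInstance
    rw [hw] at h1
    have h2 : IsFinite (Spec.map (CommRingCat.ofHom (algebraMap R B))) := h1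
    rw [IsFinite.SpecMap_iff] at h2
    exact RingHom.finite_algebraMap.mp h2
  have hfl : ∀ n : ℕ, 0 < n → Module.Flat (R ⧸ IsLocalRing.maximalIdeal R ^ n)
      ((R ⧸ IsLocalRing.maximalIdeal R ^ n) ⊗[R] B) := by
    intro n hn
    have sq1 := IsPullback.of_hasPullback X.hom (cg (IsLocalRing.maximalIdeal R ^ n))
    have sq2 : IsPullback (pullback.fst X.hom (cg (IsLocalRing.maximalIdeal R ^ n)) ≫ inv i.hom.left)
        (pullback.snd X.hom (cg (IsLocalRing.maximalIdeal R ^ n)))
        (Spec.map (CommRingCat.ofHom (algebraMap R B))) (cg (IsLocalRing.maximalIdeal R ^ n)) := by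
      refine IsPullback.of_iso sq1 (Iso.refl _) (asIso i.hom.left).symm (Iso.refl _) (Iso.refl _) ?_ ?_ ?_ ?_
      · simp
      · simp
      · change X.hom ≫ 𝟙 _ = inv i.hom.left ≫ _
        rw [Category.comp_id, ← hw, IsIso.inv_hom_id_assoc]
      · simp
    have sq4 := isPullback_SpecMap_of_isPushout _ _ _ _
      (CommRingCat.isPushout_tensorProduct R (R ⧸ IsLocalRing.maximalIdeal R ^ n) B)
    have h0 : Flat (pullback.snd X.hom (cg (IsLocalRing.maximalIdeal R ^ n))) := h n hn
    have h1 : Flat (Spec.map (CommRingCat.ofHom (Algebra.TensorProduct.includeLeftRingHom :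
        (R ⧸ IsLocalRing.maximalIdeal R ^ n) →+* (R ⧸ IsLocalRing.maximalIdeal R ^ n) ⊗[R] B))) := by
      have h2 := IsPullback.isoIsPullback_hom_snd _ _ sq4.flip sq2
      rw [← h2]
      infer_instance
    rw [Flat.SpecMap_iff] at h1
    exact (RingHom.flat_algebraMap_iff (R := R ⧸ IsLocalRing.maximalIdeal R ^ n)
      (S := (R ⧸ IsLocalRing.maximalIdeal R ^ n) ⊗[R] B)).mp h1
  have h5 : Module.Flat R (LocalizedModule (IsLocalRing.maximalIdeal R).primeCompl B) :=
    Groth.Agent.S0396.result (R := R) (S := R) (M := B) (IsLocalRing.maximalIdeal R) hfl (IsLocalRing.maximalIdeal R) (by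
      rw [Algebra.algebraMap_self, Ideal.map_id])
  have h6 : ∀ x : (IsLocalRing.maximalIdeal R).primeCompl, IsUnit (x : R) := fun x => by
    by_contra hx
    exact x.2 ((IsLocalRing.mem_maximalIdeal _).2 hx)
  have h7 : Module.Flat R B := by
    have hid : IsLocalizedModule (IsLocalRing.maximalIdeal R).primeCompl (LinearMap.id : B →ₗ[R] B) :=
      ⟨fun s => (h6 s).map _, fun m => ⟨(m, 1), one_smul _ _⟩, fun h => ⟨1, congr_arg _ h⟩⟩
    have e : LocalizedModule (IsLocalRing.maximalIdeal R).primeCompl B ≃ₗ[R] B :=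
      IsLocalizedModule.linearEquiv (IsLocalRing.maximalIdeal R).primeCompl
        (LocalizedModule.mkLinearMap (IsLocalRing.maximalIdeal R).primeCompl B) (LinearMap.id : B →ₗ[R] B)
    exact Module.Flat.of_linearEquiv e.symm
  have h8 : Flat (Spec.map (CommRingCat.ofHom (algebraMap R B))) := by
    rw [Flat.SpecMap_iff]
    exact (RingHom.flat_algebraMap_iff (R := R) (S := B)).mpr h7
  have h9 : X.hom = inv i.hom.left ≫ Spec.map (CommRingCat.ofHom (algebraMap R B)) := by
    rw [← hw, IsIso.inv_hom_id_assoc]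
  rw [h9]
  exact MorphismProperty.comp_mem _ _ _ (inferInstance : Flat (inv i.hom.left)) h8

end K521.RigNil
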