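import Groth.Agent.GrpSch.K270.MB.Shape
import Groth.Agent.GrpSch.K269.QuotGrp
import Groth.Agent.GrpSch.K269.QuotSch
import Groth.Agent.Etdl.H427.RankComp
import Groth.Agent.Books.AffBridge2
import Groth.Agent.Sga3C.FlatOfComp

/-!
# Quotients of finite flat commutative group schemes
-/

set_option autoImplicit false
set_option linter.unusedSectionVars false
universe u

open CategoryTheory CategoryTheory.Limits MonoidalCategory CartesianMonoidalCategory MonObj GrpObj AlgebraicGeometry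

noncomputable section

namespace K521.RigQuot

open K270.MB

variable {S : Scheme.{u}}

theorem isKernel_iff {N G Q : Over S} [GrpObj Q] {i : N ⟶ G} {q : G ⟶ Q} (h : AlgGrp.IsKernel i q) {T : Over S}
    (x : T ⟶ G) : Fac i x ↔ x ≫ q = 1 := by
  constructor
  · rintro ⟨y, rfl⟩
    rw [Category.assoc, h.w, ← Category.assoc, toUnit_unique (y ≫ toUnit N) (toUnit T), Hom.one_def]
  · intro hx
    have h1 : x ≫ q = toUnit T ≫ η[Q] := by rw [hx, Hom.one_def]
    exact ⟨h.lift x (toUnit T) h1, h.lift_fst _ _ h1⟩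

theorem inv_comp {G Q : Over S} [GrpObj G] [GrpObj Q] (q : G ⟶ Q) [IsMonHom q] {T : Over S} (x : T ⟶ G) :
    x⁻¹ ≫ q = (x ≫ q)⁻¹ := GrpObj.inv_comp _ _

/-- Two points have the same image exactly when they differ by the kernel. -/
theorem comp_eq_iff {K A Q : Over S} [GrpObj K] [GrpObj A] [GrpObj Q] {i : K ⟶ A} {q : A ⟶ Q} [IsMonHom q]
    (hk : ∀ {T : Over S} (x : T ⟶ A), Fac i x ↔ x ≫ q = 1) {T : Over S} (x y : T ⟶ A) :
    x ≫ q = y ≫ q ↔ Fac i (x⁻¹ * y) := by
  rw [hk, MonObj.mul_comp, inv_comp, inv_mul_eq_one]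

theorem isPullback_act {K A Q : Over S} [GrpObj K] [GrpObj A] [GrpObj Q] {i : K ⟶ A} [Mono i] {q : A ⟶ Q} [IsMonHom q]
    (hk : ∀ {T : Over S} (x : T ⟶ A), Fac i x ↔ x ≫ q = 1) :
    IsPullback (fst A K) (fst A K * (snd A K ≫ i)) q q := by
  refine ⟨⟨?_⟩, ⟨PullbackCone.IsLimit.mk _ (fun s => lift s.fst ((comp_eq_iff hk s.fst s.snd).1 s.condition).choose)
    ?_ ?_ ?_⟩⟩
  · rw [comp_eq_iff hk, inv_mul_cancel_left]
    exact ⟨_, rfl⟩
  · intro s
    rw [lift_fst]
  · intro s
    rw [MonObj.comp_mul, lift_fst, ← Category.assoc, lift_snd,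
      ((comp_eq_iff hk s.fst s.snd).1 s.condition).choose_spec, mul_inv_cancel_left]
  · intro s m h1 h2
    ext1
    · rw [lift_fst, h1]
    · rw [lift_snd, ← cancel_mono i, ((comp_eq_iff hk s.fst s.snd).1 s.condition).choose_spec]
      rw [MonObj.comp_mul, h1] at h2
      rw [← h2, inv_mul_cancel_left, Category.assoc]

/-- Quotients of finite flat commutative groups. -/
theorem exists_quot {A K : Over S} [GrpObj A] [IsCommMonObj A] [GrpObj K] (i : K ⟶ A) [IsMonHom i]
    [IsFinite A.hom] [Flat A.hom] [LocallyOfFinitePresentation A.hom] [IsClosedImmersion i.left] [Flat K.hom]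
    [LocallyOfFinitePresentation K.hom] :
    ∃ (Q : Over S) (_ : GrpObj Q) (_ : IsCommMonObj Q) (q : A ⟶ Q), IsMonHom q ∧ Flat q.left ∧ Surjective q.left ∧
      LocallyOfFinitePresentation q.left ∧ IsFinite q.left ∧ (∀ {T : Over S} (x : T ⟶ A), Fac i x ↔ x ≫ q = 1) ∧
      IsFinite Q.hom ∧ Flat Q.hom ∧ LocallyOfFinitePresentation Q.hom ∧
      (∀ n : ℕ, (∀ s, K.hom.finrank s = n) → (∀ s, q.left.finrank s = n) ∧
        ∀ s, A.hom.finrank s = n * Q.hom.finrank s) := by
  have hmono : Mono i := by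
    have : Mono i.left := inferInstance
    exact Over.mono_of_mono_left i
  obtain ⟨Q, gQ, cQ, q, hq, hq1, hq2, hq3, hker, hsep⟩ := K269.QuotGrp.exists_quot_grp i (by
    intro x
    refine ⟨⊤, trivial, 𝟙_ (Over S), toUnit _, toUnit_unique _ _, ?_, ?_⟩
    · have h1 : (toUnit (A ⊗ Over.mk (⊤ : S.Opens).ι)).left = (A ⊗ Over.mk (⊤ : S.Opens).ι).hom := by
        have := Over.w (toUnit (A ⊗ Over.mk (⊤ : S.Opens).ι))
        rw [← this]
        exact (Category.comp_id _).symm
      rw [h1]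
      have h2 : (A ⊗ Over.mk (⊤ : S.Opens).ι).hom = pullback.snd A.hom (⊤ : S.Opens).ι ≫ (⊤ : S.Opens).ι :=
        Over.tensorObj_hom _ _ |>.trans pullback.condition
      rw [h2]
      infer_instance
    · have h1 : (toUnit (A ⊗ Over.mk (⊤ : S.Opens).ι)).left = (A ⊗ Over.mk (⊤ : S.Opens).ι).hom := by
        have := Over.w (toUnit (A ⊗ Over.mk (⊤ : S.Opens).ι))
        rw [← this]
        exact (Category.comp_id _).symm
      rw [h1]
      have h2 : (A ⊗ Over.mk (⊤ : S.Opens).ι).hom = pullback.snd A.hom (⊤ : S.Opens).ι ≫ (⊤ : S.Opens).ι :=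
        Over.tensorObj_hom _ _ |>.trans pullback.condition
      rw [h2]
      infer_instance)
  have hw : q.left ≫ Q.hom = A.hom := Over.w q
  have i1 : LocallyOfFinitePresentation (q.left ≫ Q.hom) := by rw [hw]; infer_instance
  have i2 : IsFinite (q.left ≫ Q.hom) := by rw [hw]; infer_instance
  obtain ⟨h1, h2⟩ := K269.QuotSch.lqf_of_fppf_source q.left Q.hom
  have i3 : Flat (q.left ≫ Q.hom) := by rw [hw]; infer_instance
  have h3 : Flat Q.hom := Groth.Agent.Sga3C.FlatOfComp.flat_of_comp q.left Q.hom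
  have h4 : UniversallyClosed Q.hom := UniversallyClosed.of_comp_surjective q.left Q.hom
  have h5 : IsProper Q.hom := { }
  have h6 : IsFinite Q.hom := IsFinite.of_isProper_of_locallyQuasiFinite Q.hom
  have h7 : IsFinite q.left := IsFinite.of_comp q.left Q.hom
  have hk : ∀ {T : Over S} (x : T ⟶ A), Fac i x ↔ x ≫ q = 1 := fun x => isKernel_iff hker x
  refine ⟨Q, gQ, cQ, q, hq, hq1, hq2, hq3, h7, hk, h6, h3, h2, fun n hn => ?_⟩
  have h8 : ∀ s, q.left.finrank s = n := by
    intro s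
    obtain ⟨a, rfl⟩ := q.left.surjective s
    have sq := Groth.Agent.Books.AffBridge2.left_of_isPullback (isPullback_act (i := i) hk)
    have sq2 : IsPullback (snd A K).left (fst A K).left K.hom A.hom := by
      exact (IsPullback.of_hasPullback A.hom K.hom).flip
    have i4 : IsFinite K.hom := by
      have : i.left ≫ A.hom = K.hom := Over.w i
      rw [← this]
      infer_instance
    rw [← Scheme.Hom.finrank_of_isPullback _ _ _ _ sq.flip a, Scheme.Hom.finrank_of_isPullback _ _ _ _ sq2 a, hn]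
  refine ⟨h8, fun s => ?_⟩
  rw [← hw]
  exact Groth.Agent.Etdl.H427.RankComp.finrank_comp q.left Q.hom n h8 s

end K521.RigQuot
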