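import Groth.Agent.GrpSch.K521.RigXQ
import Groth.Agent.GrpSch.K521.RigQuot
import Groth.Agent.Agf.H585.QuotPts
import Groth.Agent.S3026
import Groth.Agent.Agf.H584.QBasic
import Mathlib.Algebra.Category.Ring.Epi

/-!
# Perfectness of an antisymmetric pairing modulo its radical, over a field
-/

set_option autoImplicit false
set_option linter.unusedSectionVars false
universe u

open CategoryTheory CategoryTheory.Limits MonoidalCategory CartesianMonoidalCategory MonObj GrpObj AlgebraicGeometry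

noncomputable section

namespace K521.RigPerf

open K270.MB CoactBr K521.RigChar K521.RigMu K521.RigXQ K521.RigQuot

section desc

variable {S : Scheme.{u}}

/-- A faithfully flat quasi-compact morphism. -/
structure IsFF {T T' : Over S} (g : T' ⟶ T) : Prop where
  flat : Flat g.left
  surj : Surjective g.left
  qc : QuasiCompact g.left

theorem IsFF.epi {T T' : Over S} {g : T' ⟶ T} (h : IsFF g) : Epi g := by
  have := h.flat
  have := h.surj
  have := h.qc
  exact Groth.Agent.Agf.H584.QBasic.epi_of g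

theorem IsFF.injective {T T' : Over S} {g : T' ⟶ T} (h : IsFF g) : Function.Injective (ures g : U T → U T') := by
  have := h.flat
  have := h.surj
  have := h.qc
  have : Epi g.left := inferInstance
  intro a b hab
  exact ures_inj g (Groth.Agent.S3026.appTop_injective g.left) hab

theorem IsFF.desc {T T' : Over S} {g : T' ⟶ T} (h : IsFF g) (w : U T')
    (hw : ∀ {Z : Over S} (a b : Z ⟶ T'), a ≫ g = b ≫ g → ures a w = ures b w) : ∃ w' : U T, ures g w' = w := by
  have := h.flat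
  have := h.surj
  have := h.qc
  have key : ∀ (w : U T') (hw : ∀ {Z : Over S} (a b : Z ⟶ T'), a ≫ g = b ≫ g → ures a w = ures b w),
      ∃ s : Γ(T.left, ⊤), g.left.appTop s = w.1 := by
    intro w hw
    refine Groth.Agent.Agf.H585.QuotPts.exists_appTop_eq g.left w.1 ?_
    intro R g₁ g₂ h12
    have hw2 : g₂ ≫ T'.hom = g₁ ≫ T'.hom := by
      rw [← Over.w g, ← Category.assoc, ← Category.assoc, h12]
    have h3 := hw (Z := Over.mk (g₁ ≫ T'.hom)) (Over.homMk g₁ rfl) (Over.homMk g₂ hw2) (by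
      ext
      simpa using h12)
    exact congrArg Units.val h3
  obtain ⟨s, hs⟩ := key w hw
  obtain ⟨s', hs'⟩ := key w⁻¹ (fun a b hab => by rw [map_inv, map_inv, hw a b hab])
  have h1 : s * s' = 1 := by
    have hinj : Function.Injective g.left.appTop.hom := Groth.Agent.S3026.appTop_injective g.left
    apply hinj
    rw [map_mul, map_one]
    have h2 : g.left.appTop.hom s * g.left.appTop.hom s' = w.1 * w⁻¹.1 := by
      exact congrArg₂ (· * ·) hs hs'
    rw [h2, Units.mul_inv]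
  exact ⟨Units.mkOfMulEqOne s s' h1, Units.ext hs⟩

theorem IsFF.comp {T T' T'' : Over S} {g : T' ⟶ T} {g' : T'' ⟶ T'} (h : IsFF g) (h' : IsFF g') : IsFF (g' ≫ g) := by
  have := h.flat
  have := h.surj
  have := h.qc
  have := h'.flat
  have := h'.surj
  have := h'.qc
  constructor
  · rw [Over.comp_left]; infer_instance
  · rw [Over.comp_left]; infer_instance
  · rw [Over.comp_left]; infer_instance

theorem IsFF.of_isPullback {P T T' X : Over S} {a : P ⟶ T'} {b : P ⟶ T} {g : T' ⟶ X} {f : T ⟶ X}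
    (sq : IsPullback a b g f) (h : IsFF g) : IsFF b := by
  have sq' := Groth.Agent.Books.AffBridge2.left_of_isPullback sq
  have := h.flat
  have := h.surj
  have := h.qc
  exact ⟨MorphismProperty.of_isPullback (P := @Flat) sq' h.flat,
    MorphismProperty.of_isPullback (P := @Surjective) sq' h.surj,
    MorphismProperty.of_isPullback (P := @QuasiCompact) sq' h.qc⟩

/-- Points lift after a cover. -/
theorem IsFF.exists_lift {G Q T : Over S} {q : G ⟶ Q} (h : IsFF q) (x : T ⟶ Q) :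
    ∃ (T' : Over S) (g : T' ⟶ T) (x' : T' ⟶ G), IsFF g ∧ x' ≫ q = g ≫ x := by
  have sq := IsPullback.of_hasPullback q x
  exact ⟨pullback q x, pullback.snd q x, pullback.fst q x, h.of_isPullback sq, sq.w⟩

theorem IsFF.whiskerRight {T T' : Over S} {g : T' ⟶ T} (h : IsFF g) (A : Over S) : IsFF (g ▷ A) := by
  have := h.flat
  have := h.surj
  have := h.qc
  exact ⟨K269.QuotSch.whiskerRight_left_of @Flat _ _ h.flat, K269.QuotSch.whiskerRight_left_of @Surjective _ _ h.surj,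
    K269.QuotSch.whiskerRight_left_of @QuasiCompact _ _ h.qc⟩

theorem IsFF.of_iso {T T' : Over S} (e : T' ≅ T) : IsFF e.hom := by
  have : IsIso e.hom.left := inferInstanceAs (IsIso ((Over.forget S).map e.hom))
  exact ⟨inferInstance, inferInstance, inferInstance⟩

theorem IsFF.whiskerLeft {T T' : Over S} {g : T' ⟶ T} (h : IsFF g) (A : Over S) : IsFF (A ◁ g) := by
  have e1 : A ◁ g = (β_ A T').hom ≫ g ▷ A ≫ (β_ T A).hom := by
    rw [← BraidedCategory.braiding_naturality_right_assoc, SymmetricCategory.symmetry, Category.comp_id]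
  rw [e1]
  exact ((IsFF.of_iso (β_ T A)).comp (h.whiskerRight A)).comp (IsFF.of_iso (β_ A T'))

end desc

section pairing

variable {S : Scheme.{u}} {G D Q : Over S} [GrpObj G] [GrpObj D] [GrpObj Q] {d : D ⟶ G} {q : G ⟶ Q}

/-- The data of an antisymmetric pairing with its radical and the quotient. -/
structure Dat (e : Pairing G G) (d : D ⟶ G) (q : G ⟶ Q) : Prop where
  anti : ∀ {T : Over S} (x y : T ⟶ G), e.e x y * e.e y x = 1
  rad : ∀ {T : Over S} (x : T ⟶ G), Fac d x ↔ ∀ {T' : Over S} (g : T' ⟶ T) (y : T' ⟶ G), e.e (g ≫ x) y = 1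
  mon : IsMonHom q
  ff : IsFF q
  ker : ∀ {T : Over S} (x : T ⟶ G), Fac d x ↔ x ≫ q = 1

variable {e : Pairing G G}

theorem e_one_right {T : Over S} (x : T ⟶ G) : e.e x 1 = 1 := by
  have h := e.mul_right x 1 1
  rw [_root_.mul_one] at h
  exact mul_eq_left.1 h.symm

theorem e_one_left {T : Over S} (x : T ⟶ G) : e.e 1 x = 1 := by
  have h := e.mul_left 1 1 x
  rw [_root_.mul_one] at h
  exact mul_eq_left.1 h.symm

/-- The unit of the pairing: `(n, t) ↦ e(t, n)`. -/
def un (e : Pairing G G) : U (G ⊗ G) := e.e (snd G G) (fst G G)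

theorem ures_un {T : Over S} (y x : T ⟶ G) : ures (lift y x) (un e) = e.e x y := by
  rw [un, ← e.nat, lift_snd, lift_fst]

include e in
theorem Dat.left (h : Dat e d q) {T : Over S} (x : T ⟶ G) (hx : Fac d x) (y : T ⟶ G) : e.e x y = 1 := by
  have h1 := (h.rad x).1 hx (𝟙 T) y
  rwa [Category.id_comp] at h1

theorem Dat.right (h : Dat e d q) {T : Over S} (x : T ⟶ G) (hx : Fac d x) (y : T ⟶ G) : e.e y x = 1 := by
  have h1 := h.anti y x
  rwa [h.left x hx y, _root_.mul_one] at h1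

theorem Dat.congr (h : Dat e d q) {T : Over S} {x x' y y' : T ⟶ G} (hx : x ≫ q = x' ≫ q) (hy : y ≫ q = y' ≫ q) :
    e.e x y = e.e x' y' := by
  have := h.mon
  have h1 := (comp_eq_iff h.ker x x').1 hx
  have h2 := (comp_eq_iff h.ker y y').1 hy
  have e1 : x' = x * (x⁻¹ * x') := by rw [mul_inv_cancel_left]
  have e2 : y' = y * (y⁻¹ * y') := by rw [mul_inv_cancel_left]
  rw [e1, e2, e.mul_left, e.mul_right, h.left _ h1, h.right _ h2, _root_.mul_one, _root_.mul_one]

/-- The pairing on the quotient. -/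
theorem Dat.exists_eps (h : Dat e d q) : ∃ ε : U (Q ⊗ Q),
    ∀ {T : Over S} (y x : T ⟶ G), ures (lift (y ≫ q) (x ≫ q)) ε = e.e x y := by
  have hff : IsFF (q ▷ G ≫ Q ◁ q) := (h.ff.whiskerLeft Q).comp (h.ff.whiskerRight G)
  have hw : ∀ {Z : Over S} (a : Z ⟶ G ⊗ G), a ≫ q ▷ G ≫ Q ◁ q = lift ((a ≫ fst _ _) ≫ q) ((a ≫ snd _ _) ≫ q) := by
    intro Z a
    ext1 <;> simp
  obtain ⟨ε, hε⟩ := hff.desc (un e) (by
    intro Z a b hab
    rw [hw, hw] at hab
    have h1 := congrArg (fun z => z ≫ fst Q Q) hab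
    have h2 := congrArg (fun z => z ≫ snd Q Q) hab
    simp only [lift_fst] at h1
    simp only [lift_snd] at h2
    have ha : a = lift (a ≫ fst _ _) (a ≫ snd _ _) := by ext1 <;> simp
    have hb : b = lift (b ≫ fst _ _) (b ≫ snd _ _) := by ext1 <;> simp
    rw [ha, hb, ures_un, ures_un]
    exact h.congr h2 h1)
  refine ⟨ε, fun {T} y x => ?_⟩
  have e1 : lift (y ≫ q) (x ≫ q) = lift y x ≫ q ▷ G ≫ Q ◁ q := by
    rw [hw, lift_fst, lift_snd]
  rw [e1, ures_comp, hε, ures_un]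

theorem isChar_eps (h : Dat e d q) {ε : U (Q ⊗ Q)}
    (hε : ∀ {T : Over S} (y x : T ⟶ G), ures (lift (y ≫ q) (x ≫ q)) ε = e.e x y) : IsChar Q ε := by
  have := h.mon
  intro Z n m t
  obtain ⟨Z₁, g₁, n', hg₁, hn⟩ := h.ff.exists_lift n
  obtain ⟨Z₂, g₂, m', hg₂, hm⟩ := h.ff.exists_lift (g₁ ≫ m)
  obtain ⟨Z₃, g₃, t', hg₃, ht⟩ := h.ff.exists_lift (g₂ ≫ g₁ ≫ t)
  have hff : IsFF (g₃ ≫ g₂ ≫ g₁) := (hg₁.comp hg₂).comp hg₃
  apply hff.injective
  rw [map_mul, ← ures_comp, ← ures_comp, ← ures_comp, comp_lift, comp_lift, comp_lift, MonObj.comp_mul]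
  have e1 : (g₃ ≫ g₂ ≫ g₁) ≫ n = (g₃ ≫ g₂ ≫ n') ≫ q := by simp [hn]
  have e2 : (g₃ ≫ g₂ ≫ g₁) ≫ m = (g₃ ≫ m') ≫ q := by simp [hm]
  have e3 : (g₃ ≫ g₂ ≫ g₁) ≫ t = t' ≫ q := by simp [ht]
  rw [e1, e2, e3, ← MonObj.mul_comp, hε, hε, hε, e.mul_right]

theorem eps_inj (h : Dat e d q) {ε : U (Q ⊗ Q)}
    (hε : ∀ {T : Over S} (y x : T ⟶ G), ures (lift (y ≫ q) (x ≫ q)) ε = e.e x y) {T : Over S} (x x' : T ⟶ Q)
    (hx : ures (Q ◁ x) ε = ures (Q ◁ x') ε) : x = x' := by
  have := h.mon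
  obtain ⟨T₁, g₁, a, hg₁, ha⟩ := h.ff.exists_lift x
  obtain ⟨T₂, g₂, b, hg₂, hb⟩ := h.ff.exists_lift (g₁ ≫ x')
  have hff : IsFF (g₂ ≫ g₁) := hg₁.comp hg₂
  have := hff.epi
  rw [← cancel_epi (g₂ ≫ g₁)]
  have e1 : (g₂ ≫ g₁) ≫ x = (g₂ ≫ a) ≫ q := by simp [ha]
  have e2 : (g₂ ≫ g₁) ≫ x' = b ≫ q := by simp [hb]
  rw [e1, e2, comp_eq_iff h.ker, h.rad]
  intro Z z y
  have h1 : ∀ w : T ⟶ Q, ures (lift (y ≫ q) (z ≫ (g₂ ≫ g₁) ≫ w)) ε = ures (lift (y ≫ q) (z ≫ (g₂ ≫ g₁))) (ures (Q ◁ w) ε) := by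
    intro w
    rw [← ures_comp, lift_whiskerLeft]
    simp
  have h2 : e.e (z ≫ b) y = e.e (z ≫ g₂ ≫ a) y := by
    rw [← hε, ← hε, Category.assoc, ← e2, h1, ← hx, ← h1, e1]
    simp
  rw [MonObj.comp_mul, GrpObj.comp_inv, e.mul_left, h2, ← e.mul_left]
  rw [inv_mul_cancel, e_one_left]

end pairing

section field

variable {k : Type u} [Field k] {G D Q : Over (Spec (CommRingCat.of k))} [GrpObj G] [GrpObj D] [GrpObj Q]
  {d : D ⟶ G} {q : G ⟶ Q} {e : Pairing G G}

/-- Perfectness. -/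
theorem perfect [IsCommMonObj Q] [IsFinite Q.hom] (h : Dat e d q) {ε : U (Q ⊗ Q)}
    (hε : ∀ {T : Over (Spec (CommRingCat.of k))} (y x : T ⟶ G), ures (lift (y ≫ q) (x ≫ q)) ε = e.e x y)
    (B : Type u) [CommRing B] [Algebra k B] (κ' : U (Q ⊗ sp k B)) (hκ' : IsChar Q κ') :
    ∃ b : sp k B ⟶ Q, ures (Q ◁ b) ε = κ' := by
  have : IsAffine Q.left := isAffine_of_isAffineHom Q.hom
  have hfl : Flat Q.hom := inferInstance
  obtain ⟨C, _, _, κ₀, hfree, hfin, hrk, hκ₀, hu⟩ := exists_dual k Q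
  obtain ⟨H, _, _, ⟨j⟩⟩ := exists_sp Q
  obtain ⟨hHf, -⟩ := finite_flat j
  have hεc := isChar_eps h hε
  obtain ⟨φ, hφ, -⟩ := hu H (ures (Q ◁ j.hom) ε) (hεc.comp _)
  beta_reduce at hφ
  have hinj : ∀ (B : Type u) [CommRing B] [Algebra k B] (b b' : H →ₐ[k] B), b.comp φ = b'.comp φ → b = b' := by
    intro B _ _ b b' hb
    have h1 : ∀ b : H →ₐ[k] B, ures (Q ◁ (pt b ≫ j.hom)) ε = ures (Q ◁ pt (b.comp φ)) κ₀ := by
      intro b
      rw [pt_comp, whiskerLeft_comp, whiskerLeft_comp, ures_comp, ures_comp, hφ]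
    have h2 := eps_inj h hε (pt b ≫ j.hom) (pt b' ≫ j.hom) (by rw [h1, h1, hb])
    rw [cancel_mono] at h2
    have h3 := Spec.map_injective (congrArg (fun z => z.left) h2)
    exact AlgHom.ext fun x => congrArg (fun z : CommRingCat.of H ⟶ CommRingCat.of B => z.hom x) h3
  have hepi : Epi (CommRingCat.ofHom (φ : C →+* H)) := by
    constructor
    intro B g g' hg
    let _ : Algebra k B := (g.hom.comp (algebraMap k H)).toAlgebra
    let b : H →ₐ[k] B := { g.hom with commutes' := fun _ => rfl }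
    let b' : H →ₐ[k] B :=
      { g'.hom with
        commutes' := fun r => by
          have h1 := congrArg (fun z : CommRingCat.of C ⟶ B => z.hom (algebraMap k C r)) hg
          have h2 : g.hom (φ (algebraMap k C r)) = g'.hom (φ (algebraMap k C r)) := h1
          rw [AlgHom.commutes] at h2
          exact h2.symm }
    have h3 : b = b' := hinj B b b' (AlgHom.ext fun x => congrArg (fun z : CommRingCat.of C ⟶ B => z.hom x) hg)
    ext x
    exact congrArg (fun z : H →ₐ[k] B => z x) h3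
  have hfinφ : (φ : C →+* H).Finite := by
    have h1 : ((φ : C →+* H).comp (algebraMap k C)).Finite := by
      have : (φ : C →+* H).comp (algebraMap k C) = algebraMap k H := φ.comp_algebraMap
      rw [this]
      exact RingHom.finite_algebraMap.2 hHf
    exact RingHom.Finite.of_comp_finite h1
  have hsurj : Function.Surjective φ := RingHom.surjective_of_epi_of_finite (CommRingCat.ofHom (φ : C →+* H)) hfinφ
  have hbij : Function.Bijective φ := by
    refine ⟨?_, hsurj⟩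
    have h1 := (LinearMap.injective_iff_surjective_of_finrank_eq_finrank (f := φ.toLinearMap)
      (hrk H j).symm).2 hsurj
    exact h1
  let φ' := AlgEquiv.ofBijective φ hbij
  obtain ⟨ψ, hψ, -⟩ := hu B κ' hκ'
  beta_reduce at hψ
  refine ⟨pt (ψ.comp (φ'.symm : H →ₐ[k] C)) ≫ j.hom, ?_⟩
  have e1 : (ψ.comp (φ'.symm : H →ₐ[k] C)).comp φ = ψ := by
    ext x
    change ψ (φ'.symm (φ' x)) = ψ x
    rw [AlgEquiv.symm_apply_apply]
  rw [whiskerLeft_comp, ures_comp, ← hφ, ← ures_comp, ← whiskerLeft_comp, ← pt_comp, e1, hψ]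

end field

end K521.RigPerf
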