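import Groth.Agent.GrpSch.K521.RigMu
import Groth.Agent.GrpSch.K267.DeligneSch
import Groth.Prelude.Def_CartDual2

/-!
# The scheme of characters of a finite flat group over a local ring which are trivial on `μ_N^r`
-/

set_option autoImplicit false
set_option linter.unusedSectionVars false
universe u

open CategoryTheory CategoryTheory.Limits MonoidalCategory CartesianMonoidalCategory MonObj GrpObj AlgebraicGeometry

noncomputable section

namespace K521.RigXQ

open K270.MB CoactBr K521.RigChar K521.RigMu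

theorem exists_hopf {R : Type u} [CommRing R] (G : Over (Spec (CommRingCat.of R))) [GrpObj G] [IsAffine G.left] :
    ∃ (H : Type u) (_ : CommRing H) (_ : HopfAlgebra R H) (i : sp R H ≅ G), IsMonHom i.hom ∧ IsMonHom i.inv := by
  have h2 : (hopfSpec (CommRingCat.of R)).essImage (Grp.mk G) := essImage_hopfSpec.2 ‹_›
  obtain ⟨C, ⟨e⟩⟩ := h2
  let C' : Type u := C.unop
  let i : sp R C' ≅ G := (Grp.forget _).mapIso e
  exact ⟨C', inferInstance, inferInstance, i, inferInstanceAs (IsMonHom (e.hom.hom.hom)),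
    inferInstanceAs (IsMonHom (e.inv.hom.hom))⟩

theorem isCocomm {R : Type u} [CommRing R] {G : Over (Spec (CommRingCat.of R))} [GrpObj G] [IsCommMonObj G]
    {H : Type u} [CommRing H] [HopfAlgebra R H] (i : sp R H ≅ G) (hi : IsMonHom i.hom) : Coalgebra.IsCocomm R H := by
  have hc : IsCommMonObj (sp R H) := K267.DeligneSch.isCommMonObj_of_iso i.hom
  exact K267.DeligneSch.isCocomm_of_isCommMonObj hc

theorem finite_flat {R : Type u} [CommRing R] {G : Over (Spec (CommRingCat.of R))} {H : Type u} [CommRing H] [Algebra R H]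
    (i : sp R H ≅ G) [IsFinite G.hom] [Flat G.hom] : Module.Finite R H ∧ Module.Flat R H := by
  have hil : IsIso i.hom.left := inferInstanceAs (IsIso ((Over.forget _).map i.hom))
  have hw : i.hom.left ≫ G.hom = Spec.map (CommRingCat.ofHom (algebraMap R H)) := Over.w i.hom
  constructor
  · have h1 : IsFinite (i.hom.left ≫ G.hom) := inferInstance
    rw [hw] at h1
    have h2 : IsFinite (Spec.map (CommRingCat.ofHom (algebraMap R H))) := h1
    rw [IsFinite.SpecMap_iff] at h2
    exact RingHom.finite_algebraMap.mp h2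
  · have h1 : Flat (i.hom.left ≫ G.hom) := inferInstance
    rw [hw] at h1
    have h2 : Flat (Spec.map (CommRingCat.ofHom (algebraMap R H))) := h1
    rw [Flat.SpecMap_iff] at h2
    exact (RingHom.flat_algebraMap_iff (R := R) (S := H)).mp h2

theorem isChar_whiskerRight {S : Scheme.{u}} {N N' T : Over S} [GrpObj N] [GrpObj N'] (i : N' ⟶ N) [IsMonHom i]
    {χ : U (N ⊗ T)} (h : IsChar N χ) : IsChar N' (ures (i ▷ T) χ) := by
  intro Z n m t
  rw [← ures_comp, ← ures_comp, ← ures_comp, lift_whiskerRight, lift_whiskerRight, lift_whiskerRight, MonObj.mul_comp]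
  exact h _ _ _

/-- The universal character of a finite flat commutative group over a local ring. -/
theorem exists_dual (R : Type u) [CommRing R] [IsLocalRing R] (F : Over (Spec (CommRingCat.of R))) [GrpObj F]
    [IsCommMonObj F] [IsFinite F.hom] [Flat F.hom] :
    ∃ (C : Type u) (_ : CommRing C) (_ : Algebra R C) (κ : U (F ⊗ sp R C)), Module.Free R C ∧ Module.Finite R C ∧
      (∀ (H : Type u) [CommRing H] [Algebra R H] (_ : sp R H ≅ F), Module.finrank R H = Module.finrank R C) ∧
      IsChar F κ ∧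
      ∀ (B : Type u) [CommRing B] [Algebra R B] (κ' : U (F ⊗ sp R B)), IsChar F κ' →
        ∃! φ : C →ₐ[R] B, ures (F ◁ pt φ) κ = κ' := by
  have : IsAffine F.left := isAffine_of_isAffineHom F.hom
  obtain ⟨H, _, _, i, hi, hi'⟩ := exists_hopf F
  obtain ⟨hfin, hfl⟩ := finite_flat i
  have hfree : Module.Free R H := Module.free_of_flat_of_isLocalRing
  have hcc := isCocomm i hi
  obtain ⟨χ₀, h0, hu⟩ := exists_cartier R H
  have hft : Module.Free R (CartDual.D R H) := Module.free_of_flat_of_isLocalRing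
  refine ⟨CartDual.D R H, inferInstance, inferInstance, ures (i.inv ▷ _) χ₀, hft, inferInstance, ?_,
    isChar_whiskerRight i.inv h0, ?_⟩
  · intro H' _ _ i'
    obtain ⟨ψ, hψ⟩ := exists_pt (i' ≪≫ i.symm).hom
    obtain ⟨ψ', hψ'⟩ := exists_pt (i' ≪≫ i.symm).inv
    have e1 : ψ'.comp ψ = AlgHom.id R H := by
      have h1 : pt (ψ'.comp ψ) = pt (AlgHom.id R H) := by
        rw [pt_comp, hψ, hψ', Iso.inv_hom_id, pt_id]
      ext x
      have h2 := Spec.map_injective (congrArg (fun z => z.left) h1)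
      exact congrArg (fun z : CommRingCat.of H ⟶ CommRingCat.of H => z.hom x) h2
    have e2 : ψ.comp ψ' = AlgHom.id R H' := by
      have h1 : pt (ψ.comp ψ') = pt (AlgHom.id R H') := by
        rw [pt_comp, hψ, hψ', Iso.hom_inv_id, pt_id]
      ext x
      have h2 := Spec.map_injective (congrArg (fun z => z.left) h1)
      exact congrArg (fun z : CommRingCat.of H' ⟶ CommRingCat.of H' => z.hom x) h2
    have h3 : Module.finrank R H' = Module.finrank R H := (AlgEquiv.ofAlgHom ψ' ψ e1 e2).toLinearEquiv.finrank_eq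
    rw [h3, (CartDual.toDual R H).finrank_eq]
    exact (LinearEquiv.finrank_eq ((Module.Free.chooseBasis R H).toDualEquiv))
  · intro B _ _ κ' hκ'
    obtain ⟨φ, h1, h2⟩ := hu B (ures (i.hom ▷ _) κ') (isChar_whiskerRight i.hom hκ')
    have comm : ∀ φ : CartDual.D R H →ₐ[R] B, ures (F ◁ pt φ) (ures (i.inv ▷ _) χ₀) =
        ures (i.inv ▷ _) (ures (sp R H ◁ pt φ) χ₀) := by
      intro φ
      rw [← ures_comp, ← ures_comp, whisker_exchange]
    refine ⟨φ, ?_, fun φ' h3 => h2 φ' ?_⟩
    · beta_reduce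
      rw [comm, h1, ← ures_comp, inv_hom_whiskerRight, ures_id]
    · beta_reduce at h3
      rw [comm] at h3
      rw [← h3, ← ures_comp, hom_inv_whiskerRight, ures_id]

/-- The universal character trivial on `μ_N^r`. -/
theorem exists_X (R : Type u) [CommRing R] [IsLocalRing R] (F M : Over (Spec (CommRingCat.of R))) [GrpObj F]
    [IsCommMonObj F] [IsFinite F.hom] [Flat F.hom] [GrpObj M] [IsAffine M.left] (i : M ⟶ F) [IsMonHom i] {N r : ℕ}
    [NeZero N] {χ : Fin r → U M} (hM : IsMu N r M χ) :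
    ∃ (C : Type u) (_ : CommRing C) (_ : Algebra R C) (κ : U (F ⊗ sp R C)), Module.Flat R C ∧
      IsChar F κ ∧ ures (i ▷ sp R C) κ = 1 ∧
      ∀ (B : Type u) [CommRing B] [Algebra R B] (κ' : U (F ⊗ sp R B)), IsChar F κ' → ures (i ▷ sp R B) κ' = 1 →
        ∃! φ : C →ₐ[R] B, ures (F ◁ pt φ) κ = κ' := by
  obtain ⟨D, _, _, κ₀, hfree, hfin, -, hκ₀, hu⟩ := exists_dual R F
  obtain ⟨e, hee, he⟩ := exists_idem hM (ures (i ▷ sp R D) κ₀) (isChar_whiskerRight i hκ₀)
  let C := Localization.Away e
  let inc : D →ₐ[R] C := IsScalarTower.toAlgHom R D C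
  have hinc : inc e = 1 := by
    have h1 : IsUnit (inc e) := IsLocalization.Away.algebraMap_isUnit e
    have h2 : inc e * inc e = inc e * 1 := by rw [← map_mul, hee, _root_.mul_one]
    exact h1.mul_left_cancel h2
  have comm : ∀ (B : Type u) [CommRing B] [Algebra R B] (φ : D →ₐ[R] B), ures (i ▷ sp R B) (ures (F ◁ pt φ) κ₀) =
      ures (M ◁ pt φ) (ures (i ▷ sp R D) κ₀) := by
    intro B _ _ φ
    rw [← ures_comp, ← ures_comp, whisker_exchange]
  have hpt : ∀ (B : Type u) [CommRing B] [Algebra R B] (φ : C →ₐ[R] B),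
      ures (F ◁ pt φ) (ures (F ◁ pt inc) κ₀) = ures (F ◁ pt (φ.comp inc)) κ₀ := by
    intro B _ _ φ
    rw [← ures_comp, ← whiskerLeft_comp, pt_comp]
  refine ⟨C, inferInstance, inferInstance, ures (F ◁ pt inc) κ₀, ?_, hκ₀.comp _, ?_, ?_⟩
  · have h1 : Module.Flat D C := IsLocalization.flat C (Submonoid.powers e)
    exact Module.Flat.trans R D C
  · rw [comm, (he C inc).1 hinc]
  · intro B _ _ κ' hκ' ht
    obtain ⟨φ, h1, h2⟩ := hu B κ' hκ'
    beta_reduce at h1
    have h3 : φ e = 1 := by
      rw [he B φ, ← comm, h1, ht]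
    have h4 : IsUnit (φ e) := by rw [h3]; exact isUnit_one
    let ψ : C →ₐ[R] B := IsLocalization.liftAlgHom (M := Submonoid.powers e) (f := φ) (by
      rintro ⟨_, n, rfl⟩
      rw [map_pow]
      exact h4.pow n)
    have hψ : ψ.comp inc = φ := by
      ext x
      exact IsLocalization.lift_eq _ x
    refine ⟨ψ, ?_, fun ψ' h5 => ?_⟩
    · beta_reduce
      rw [hpt, hψ, h1]
    · beta_reduce at h5
      rw [hpt] at h5
      have h6 := h2 _ h5
      have h7 : (ψ' : C →+* B) = (ψ : C →+* B) := by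
        apply IsLocalization.ringHom_ext (Submonoid.powers e)
        ext x
        exact DFunLike.congr_fun (h6.trans hψ.symm) x
      exact AlgHom.ext fun x => DFunLike.congr_fun h7 x

end K521.RigXQ
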